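import Mathlib
import Cfsg.Agent.Lib.Helper86.MathieuSmall
import Cfsg.Agent.Lib.Helper7.GolayTrans

set_option autoImplicit false

/-! # Orders of `M12`, `M22`, `M23` (as defined in the prelude) and membership tests by tables -/

namespace Cfsg.Agent.Lib.Helper86

open Cfsg Cfsg.Agent.Lib.Helper6.Golay Cfsg.Agent.Lib.Helper6.M24 Cfsg.Agent.Lib.Helper6.M12
open scoped Pointwise

theorem card_M12 : Nat.card Spor.M12 = 95040 := by
  rw [← card_stab_dodecad squareDodecad_mem]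
  apply Nat.card_congr
  exact
    { toFun := fun g => ⟨⟨g.1, (mem_M12_iff.1 g.2).1⟩,
        MulAction.mem_stabilizer_iff.2 (mem_M12_iff.1 g.2).2⟩
      invFun := fun g => ⟨g.1.1, mem_M12_iff.2 ⟨g.1.2, MulAction.mem_stabilizer_iff.1 g.2⟩⟩
      left_inv := fun _ => rfl
      right_inv := fun _ => rfl }

theorem mem_M23_iff {σ : Equiv.Perm GolayPt} :
    σ ∈ Spor.M23 ↔ σ ∈ M24 ∧ σ none = none := by
  unfold Spor.M23
  rw [Subgroup.mem_inf, MulAction.mem_stabilizer_iff]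
  rfl

theorem mem_M22_iff {σ : Equiv.Perm GolayPt} :
    σ ∈ Spor.M22 ↔ σ ∈ M24 ∧ σ none = none ∧ σ (some 0) = some 0 := by
  unfold Spor.M22
  rw [Subgroup.mem_inf, mem_M23_iff, MulAction.mem_stabilizer_iff, and_assoc]
  rfl

theorem card_M23 : Nat.card Spor.M23 = 10200960 := by
  rw [← Cfsg.Agent.Lib.Helper7.card_stabilizer_M24 none]
  apply Nat.card_congr
  exact
    { toFun := fun g => ⟨⟨g.1, (mem_M23_iff.1 g.2).1⟩,
        MulAction.mem_stabilizer_iff.2 (mem_M23_iff.1 g.2).2⟩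
      invFun := fun g => ⟨g.1.1, mem_M23_iff.2 ⟨g.1.2, MulAction.mem_stabilizer_iff.1 g.2⟩⟩
      left_inv := fun _ => rfl
      right_inv := fun _ => rfl }

theorem card_M22 : Nat.card Spor.M22 = 443520 := by
  rw [← Cfsg.Agent.Lib.Helper7.card_stabilizer_two_M24 (p := none) (q := some 0) (by simp)]
  apply Nat.card_congr
  exact
    { toFun := fun g => ⟨⟨g.1, (mem_M22_iff.1 g.2).1⟩,
        ⟨MulAction.mem_stabilizer_iff.2 (mem_M22_iff.1 g.2).2.1,
          MulAction.mem_stabilizer_iff.2 (mem_M22_iff.1 g.2).2.2⟩⟩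
      invFun := fun g => ⟨g.1.1, mem_M22_iff.2 ⟨g.1.2, MulAction.mem_stabilizer_iff.1 g.2.1,
        MulAction.mem_stabilizer_iff.1 g.2.2⟩⟩
      left_inv := fun _ => rfl
      right_inv := fun _ => rfl }

/-- the table describes an element of `M24` -/
def m24Tab (t : List ℕ) : Bool :=
  and (tabValid t) (basis.all (fun m => isCode (pm t 0 m)))

/-- the table describes an element of `M23` -/
def m23Tab (t : List ℕ) : Bool :=
  and (m24Tab t) (Nat.beq (t.getD 23 0) 23)

/-- the table describes an element of `M22` -/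
def m22Tab (t : List ℕ) : Bool :=
  and (m23Tab t) (Nat.beq (t.getD 0 0) 0)

theorem m24Tab_spec (t : List ℕ) (h : m24Tab t = true) :
    tabValid t = true ∧ tabPermD t ∈ Cfsg.M24 := by
  unfold m24Tab at h
  rw [Bool.and_eq_true] at h
  refine ⟨h.1, ?_⟩
  rw [tabPermD_eq h.1]
  exact tabPerm_mem t h.1 h.2

theorem m23Tab_spec (t : List ℕ) (h : m23Tab t = true) :
    tabValid t = true ∧ tabPermD t ∈ Spor.M23 := by
  unfold m23Tab at h
  rw [Bool.and_eq_true] at h
  obtain ⟨hv, hm⟩ := m24Tab_spec t h.1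
  refine ⟨hv, mem_M23_iff.2 ⟨hm, ?_⟩⟩
  rw [tabPermD_eq hv]
  have := tabPerm_pt t hv (j := 23) (by norm_num)
  rw [Nat.eq_of_beq_eq_true h.2] at this
  exact this

theorem m22Tab_spec (t : List ℕ) (h : m22Tab t = true) :
    tabValid t = true ∧ tabPermD t ∈ Spor.M22 := by
  unfold m22Tab at h
  rw [Bool.and_eq_true] at h
  obtain ⟨hv, hm⟩ := m23Tab_spec t h.1
  rw [mem_M23_iff] at hm
  refine ⟨hv, mem_M22_iff.2 ⟨hm.1, hm.2, ?_⟩⟩
  rw [tabPermD_eq hv]
  have := tabPerm_pt t hv (j := 0) (by norm_num)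
  rw [Nat.eq_of_beq_eq_true h.2] at this
  exact this

theorem m12Tab_spec (t : List ℕ) (h : m12Tab t = true) :
    tabValid t = true ∧ tabPermD t ∈ Spor.M12 := by
  refine ⟨?_, tabPermD_mem_M12 h⟩
  unfold m12Tab at h
  rw [Bool.and_eq_true] at h
  exact h.1

end Cfsg.Agent.Lib.Helper86
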