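import Mathlib
import Cfsg.Prelude.Def_FusionSystem
import Cfsg.Prelude.Def_FusionComponents
import Cfsg.Prelude.Def_FusionReduction
import Cfsg.Agent.Lib.Helper84.FusionBasic
import Cfsg.Agent.Lib.Helper34.SylowAux
import Cfsg.Agent.Lib.Helper86.FusionAux
import Cfsg.Agent.Lib.Helper86.Alperin
import Cfsg.Agent.Lib.Helper86.Saturated

set_option autoImplicit false

namespace Cfsg.Agent.Lib.Helper86

open Cfsg Cfsg.FusionSystem Cfsg.Agent.Lib.Helper84 Cfsg.Agent.Lib.Helper34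

variable {Ω : Type*} [Group Ω] {S : Subgroup Ω}

/-- two fusion systems over the same subgroup with the same maps are equal. -/
theorem fusionSystem_ext {F₁ F₂ : FusionSystem S} (h : ∀ P : Subgroup Ω, F₁.Hom P = F₂.Hom P) :
    F₁ = F₂ := by
  obtain ⟨H₁, a1, b1, c1, d1, e1⟩ := F₁
  obtain ⟨H₂, a2, b2, c2, d2, e2⟩ := F₂
  have : H₁ = H₂ := funext h
  subst this
  rfl

/-- a subsystem lives over a smaller subgroup. -/
theorem subsystem_le {T : Subgroup Ω} (E : FusionSystem T) (F : FusionSystem S)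
    (h : E.IsSubsystemOf F) : T ≤ S :=
  hom_le F (h T (subtype_mem E le_rfl))

/-- a saturated subsystem of `F` over `T` is contained in every subsystem of `p`-power index of
`F` over a subgroup containing `T`. -/
theorem le_of_hasPPowerIndexIn [Finite S] {p : ℕ} [Fact p.Prime] (hS : IsPGroup p S)
    (F : FusionSystem S) {T U : Subgroup Ω} (E : FusionSystem T) (hEsat : E.IsSaturated p)
    (hEF : E.IsSubsystemOf F) (F₀ : FusionSystem U) (hTU : T ≤ U)
    (hidx : F₀.HasPPowerIndexIn F p) : E.IsSubsystemOf F₀ := by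
  have hTS : T ≤ S := subsystem_le E F hEF
  have : Finite T := finite_of_le hTS
  have hT : IsPGroup p T := hS.to_le hTS
  obtain ⟨-, -, hres⟩ := hidx
  refine alperin_weak hT E hEsat F₀ ?_
  intro R hRa hRr _ α hα
  have hRT : R ≤ T := hRa.1
  have hRU : R ≤ U := hRT.trans hTU
  have : Finite R := finite_of_le (hRT.trans hTS)
  rw [← mem_autGroup_iff F₀ hRU]
  have hαE : α ∈ E.autGroup R := (mem_autGroup_iff E hRT α).mpr hα
  obtain ⟨Rs, hRs⟩ := hRa.2
  obtain ⟨s, hs, u, hu, hsu⟩ := exists_mul_pResidual (p := p) (Rs : Subgroup (E.autGroup R))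
    (Sylow.not_dvd_index Rs) ⟨α, hαE⟩
  have hα' : α = (s : MulAut R) * (u : MulAut R) := congrArg Subtype.val hsu
  rw [hα']
  refine Subgroup.mul_mem _ ?_ ?_
  · rw [hRs] at hs
    exact autInducedBy_le_autGroup' F₀ hTU hRU (Subgroup.mem_subgroupOf.mp hs)
  · have h1 : (u : MulAut R) ∈ (Cfsg.pResidual p (E.autGroup R)).map (E.autGroup R).subtype :=
      ⟨u, hu, rfl⟩
    exact hres R hRU (pResidual_map_le p (autGroup_mono E F hEF R) h1)

/-- uniqueness of the saturated subsystem of `p`-power index over a given subgroup. -/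
theorem eq_of_hasPPowerIndexIn [Finite S] {p : ℕ} [Fact p.Prime] (hS : IsPGroup p S)
    (F : FusionSystem S) {U : Subgroup Ω} (E₁ E₂ : FusionSystem U) (h₁ : E₁.IsSaturated p)
    (h₂ : E₂.IsSaturated p) (hi₁ : E₁.HasPPowerIndexIn F p) (hi₂ : E₂.HasPPowerIndexIn F p) :
    E₁ = E₂ := by
  apply fusionSystem_ext
  intro P
  exact Set.Subset.antisymm (le_of_hasPPowerIndexIn hS F E₁ h₁ hi₁.1 E₂ le_rfl hi₂ P)
    (le_of_hasPPowerIndexIn hS F E₂ h₂ hi₂.1 E₁ le_rfl hi₁ P)

/-- the hyperfocal subgroup of a subsystem is contained in that of the system. -/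
theorem hyperfocal_le_of_subsystem {T : Subgroup Ω} (E : FusionSystem T) (F : FusionSystem S)
    (h : E.IsSubsystemOf F) (p : ℕ) : E.hyperfocalSubgroup p ≤ F.hyperfocalSubgroup p := by
  have hTS : T ≤ S := subsystem_le E F h
  unfold FusionSystem.hyperfocalSubgroup
  rw [Subgroup.closure_le]
  rintro y ⟨P, α, x, hPT, hα, rfl⟩
  apply Subgroup.subset_closure
  have h1 : ((α : MulAut P)) ∈ (Cfsg.pResidual p (F.autGroup P)).map (F.autGroup P).subtype :=
    pResidual_map_le p (autGroup_mono E F h P) ⟨α, hα, rfl⟩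
  obtain ⟨β, hβ, hβα⟩ := h1
  refine ⟨P, β, x, hPT.trans hTS, hβ, ?_⟩
  have : ((β : MulAut P)) = (α : MulAut P) := hβα
  rw [this]

/-- coprime action: if an automorphism `α` of order prime to `p` moves every element of `P` by
an element of the `p`-subgroup `N`, then the commutators `x⁻¹ α(x)`, `x ∈ P`, lie in the subgroup
generated by the commutators `z⁻¹ α(z)`, `z ∈ N`. -/
theorem commutator_mem_closure_of_coprime {P : Type*} [Group P] {p : ℕ} [Fact p.Prime]
    (α : MulAut P) {k : ℕ} (hk : α ^ k = 1) (hkp : Nat.Coprime k p) (N : Subgroup P)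
    (hN : IsPGroup p N) (hPN : ∀ x : P, x⁻¹ * α x ∈ N) :
    ∀ x : P, x⁻¹ * α x ∈ Subgroup.closure {y : P | ∃ z ∈ N, y = z⁻¹ * α z} := by
  set M := Subgroup.closure {y : P | ∃ z ∈ N, y = z⁻¹ * α z} with hM
  have hMN : M ≤ N := by
    rw [hM, Subgroup.closure_le]
    rintro y ⟨z, -, rfl⟩
    exact hPN z
  have hαN : ∀ z ∈ N, α z ∈ N := by
    intro z hz
    have : α z = z * (z⁻¹ * α z) := by group
    rw [this]
    exact N.mul_mem hz (hPN z)
  have hαiN : ∀ i : ℕ, ∀ z ∈ N, (α ^ i) z ∈ N := by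
    intro i
    induction i with
    | zero => intro z hz; simpa using hz
    | succ i ih =>
      intro z hz
      rw [pow_succ', MulAut.mul_apply]
      exact hαN _ (ih z hz)
  have hgen : ∀ z ∈ N, z⁻¹ * α z ∈ M := fun z hz => Subgroup.subset_closure ⟨z, hz, rfl⟩
  have hnorm : ∀ z ∈ N, ∀ m ∈ M, z⁻¹ * m * z ∈ M := by
    intro z hz m hm
    rw [hM] at hm
    induction hm using Subgroup.closure_induction with
    | mem y hy =>
      obtain ⟨w, hw, rfl⟩ := hy
      have e : z⁻¹ * (w⁻¹ * α w) * z = ((w * z)⁻¹ * α (w * z)) * (z⁻¹ * α z)⁻¹ := by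
        rw [map_mul]
        group
      rw [e]
      exact M.mul_mem (hgen _ (N.mul_mem hw hz)) (M.inv_mem (hgen z hz))
    | one => simp
    | mul a b _ _ ha hb =>
      have e : z⁻¹ * (a * b) * z = (z⁻¹ * a * z) * (z⁻¹ * b * z) := by group
      rw [e]
      exact M.mul_mem ha hb
    | inv a _ ha =>
      have e : z⁻¹ * a⁻¹ * z = (z⁻¹ * a * z)⁻¹ := by group
      rw [e]
      exact M.inv_mem ha
  have step1 : ∀ c ∈ N, ∀ i : ℕ, c⁻¹ * (α ^ i) c ∈ M := by
    intro c hc i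
    induction i with
    | zero => simp
    | succ i ih =>
      have e : c⁻¹ * (α ^ (i + 1)) c
          = (c⁻¹ * (α ^ i) c) * (((α ^ i) c)⁻¹ * α ((α ^ i) c)) := by
        rw [pow_succ', MulAut.mul_apply]
        group
      rw [e]
      exact M.mul_mem ih (hgen _ (hαiN i c hc))
  intro x
  have hc : x⁻¹ * α x ∈ N := hPN x
  have step2 : ∀ i : ℕ, ∃ m ∈ M, x⁻¹ * (α ^ i) x = (x⁻¹ * α x) ^ i * m := by
    intro i
    induction i with
    | zero => exact ⟨1, M.one_mem, by simp⟩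
    | succ i ih =>
      obtain ⟨m, hm, hmi⟩ := ih
      refine ⟨(x⁻¹ * α x)⁻¹ * m * (x⁻¹ * α x) * ((x⁻¹ * α x)⁻¹ * (α ^ i) (x⁻¹ * α x)),
        M.mul_mem (hnorm _ hc m hm) (step1 _ hc i), ?_⟩
      have e : x⁻¹ * (α ^ (i + 1)) x = (x⁻¹ * (α ^ i) x) * (α ^ i) (x⁻¹ * α x) := by
        rw [map_mul, map_inv, pow_succ, MulAut.mul_apply]
        group
      rw [e, hmi, pow_succ]
      group
  obtain ⟨m, hm, hmk⟩ := step2 k
  rw [hk] at hmk
  have hck : (x⁻¹ * α x) ^ k ∈ M := by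
    have : (x⁻¹ * α x) ^ k = m⁻¹ := by
      have h1 : (x⁻¹ * α x) ^ k * m = 1 := by
        rw [← hmk]
        simp
      exact eq_inv_of_mul_eq_one_left h1
    rw [this]
    exact M.inv_mem hm
  obtain ⟨j, hj⟩ := hN ⟨x⁻¹ * α x, hc⟩
  have hj' : (x⁻¹ * α x) ^ p ^ j = 1 := congrArg Subtype.val hj
  have hcop : Nat.Coprime k (p ^ j) := Nat.Coprime.pow_right j hkp
  have hbez := Nat.gcd_eq_gcd_ab k (p ^ j)
  rw [hcop] at hbez
  have hz : (x⁻¹ * α x) = ((x⁻¹ * α x) ^ k) ^ (Nat.gcdA k (p ^ j)) := by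
    have h2 : (x⁻¹ * α x) ^ ((k : ℤ) * Nat.gcdA k (p ^ j) + ((p ^ j : ℕ) : ℤ) * Nat.gcdB k (p ^ j))
        = (x⁻¹ * α x) := by
      rw [← hbez]
      simp
    rw [zpow_add, zpow_mul, zpow_mul, zpow_natCast, zpow_natCast, hj', one_zpow, mul_one] at h2
    exact h2.symm
  rw [hz]
  exact M.zpow_mem hck _

/-- restriction of an automorphism of `P` to `P ⊓ T`, when it and its inverse preserve `T`. -/
def restrictAut {P : Subgroup Ω} (α : MulAut P) (T : Subgroup Ω)
    (h : ∀ x : P, (x : Ω) ∈ T → ((α x : P) : Ω) ∈ T)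
    (h' : ∀ x : P, (x : Ω) ∈ T → ((α⁻¹ x : P) : Ω) ∈ T) : MulAut ↥(P ⊓ T) where
  toFun z := ⟨α ⟨z, z.2.1⟩, ⟨(α _).2, h _ z.2.2⟩⟩
  invFun z := ⟨α⁻¹ ⟨z, z.2.1⟩, ⟨(α⁻¹ _).2, h' _ z.2.2⟩⟩
  left_inv z := by
    apply Subtype.ext
    show ((α⁻¹ ⟨((α ⟨z, z.2.1⟩ : P) : Ω), _⟩ : P) : Ω) = z
    simp
  right_inv z := by
    apply Subtype.ext
    show ((α ⟨((α⁻¹ ⟨z, z.2.1⟩ : P) : Ω), _⟩ : P) : Ω) = z
    simp
  map_mul' a b := by
    apply Subtype.ext
    have e : (⟨((a * b : ↥(P ⊓ T)) : Ω), (a * b).2.1⟩ : P) = ⟨a, a.2.1⟩ * ⟨b, b.2.1⟩ :=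
      Subtype.ext rfl
    show ((α ⟨((a * b : ↥(P ⊓ T)) : Ω), (a * b).2.1⟩ : P) : Ω)
      = ((α ⟨a, a.2.1⟩ : P) : Ω) * ((α ⟨b, b.2.1⟩ : P) : Ω)
    rw [e, map_mul]
    rfl

theorem restrictAut_apply {P : Subgroup Ω} (α : MulAut P) (T : Subgroup Ω)
    (h : ∀ x : P, (x : Ω) ∈ T → ((α x : P) : Ω) ∈ T)
    (h' : ∀ x : P, (x : Ω) ∈ T → ((α⁻¹ x : P) : Ω) ∈ T) (z : ↥(P ⊓ T)) :
    ((restrictAut α T h h' z : ↥(P ⊓ T)) : Ω) = ((α ⟨z, z.2.1⟩ : P) : Ω) := rfl

theorem restrictAut_pow_apply {P : Subgroup Ω} (α : MulAut P) (T : Subgroup Ω)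
    (h : ∀ x : P, (x : Ω) ∈ T → ((α x : P) : Ω) ∈ T)
    (h' : ∀ x : P, (x : Ω) ∈ T → ((α⁻¹ x : P) : Ω) ∈ T) (i : ℕ) (z : ↥(P ⊓ T)) :
    ((((restrictAut α T h h') ^ i) z : ↥(P ⊓ T)) : Ω) = (((α ^ i) ⟨z, z.2.1⟩ : P) : Ω) := by
  induction i generalizing z with
  | zero => rfl
  | succ i ih =>
    rw [pow_succ, pow_succ, MulAut.mul_apply, MulAut.mul_apply, ih]
    rfl

/-- if `E` has `p`-power index in `F` then the hyperfocal subgroup of `F` lies in that of `E`. -/
theorem hyperfocal_le_of_hasPPowerIndexIn [Finite S] {p : ℕ} [Fact p.Prime] (hS : IsPGroup p S)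
    (F : FusionSystem S) {T : Subgroup Ω} (E : FusionSystem T)
    (hidx : E.HasPPowerIndexIn F p) : F.hyperfocalSubgroup p ≤ E.hyperfocalSubgroup p := by
  obtain ⟨hEF, hhypT, hres⟩ := hidx
  have key : ∀ (P : Subgroup Ω), P ≤ S → ∀ α ∈ Cfsg.pResidual p (F.autGroup P), ∀ x : P,
      (x : Ω)⁻¹ * (((α : MulAut P) x : P) : Ω) ∈ E.hyperfocalSubgroup p := by
    intro P hPS α hα
    unfold Cfsg.pResidual at hα
    induction hα using Subgroup.closure_induction with
    | mem α hcop =>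
      have hcop' : Nat.Coprime (orderOf α) p := hcop
      have hαres : α ∈ Cfsg.pResidual p (F.autGroup P) := Subgroup.subset_closure hcop
      have hαinv : α⁻¹ ∈ Cfsg.pResidual p (F.autGroup P) := Subgroup.inv_mem _ hαres
      have hT1 : ∀ x : P, (x : Ω)⁻¹ * (((α : MulAut P) x : P) : Ω) ∈ T := fun x =>
        hhypT (Subgroup.subset_closure ⟨P, α, x, hPS, hαres, rfl⟩)
      have hT2 : ∀ x : P, (x : Ω)⁻¹ * ((((α⁻¹ : F.autGroup P) : MulAut P) x : P) : Ω) ∈ T :=
        fun x => hhypT (Subgroup.subset_closure ⟨P, α⁻¹, x, hPS, hαinv, rfl⟩)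
      have h : ∀ x : P, (x : Ω) ∈ T → (((α : MulAut P) x : P) : Ω) ∈ T := by
        intro x hx
        have e : (((α : MulAut P) x : P) : Ω) = (x : Ω) * ((x : Ω)⁻¹ * (((α : MulAut P) x : P) : Ω)) := by
          group
        rw [e]
        exact T.mul_mem hx (hT1 x)
      have h' : ∀ x : P, (x : Ω) ∈ T → ((((α : MulAut P)⁻¹) x : P) : Ω) ∈ T := by
        intro x hx
        have e : ((((α : MulAut P)⁻¹) x : P) : Ω)
            = (x : Ω) * ((x : Ω)⁻¹ * ((((α : MulAut P)⁻¹) x : P) : Ω)) := by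
          group
        rw [e]
        exact T.mul_mem hx (hT2 x)
      -- the restricted automorphism
      have hαF : autMap (α : MulAut P) ∈ F.Hom P := (mem_autGroup_iff F hPS _).mp α.2
      have hP₀S : P ⊓ T ≤ S := inf_le_left.trans hPS
      have hα₀F : autMap (restrictAut (α : MulAut P) T h h') ∈ F.Hom (P ⊓ T) :=
        hom_of_eq F (res_mem F hαF inf_le_left) (fun _ => rfl)
      have hα₀A : restrictAut (α : MulAut P) T h h' ∈ F.autGroup (P ⊓ T) :=
        (mem_autGroup_iff F hP₀S _).mpr hα₀F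
      have hpow : (restrictAut (α : MulAut P) T h h') ^ (orderOf α) = 1 := by
        ext z
        rw [restrictAut_pow_apply]
        have : ((α : MulAut P)) ^ (orderOf α) = 1 := by
          rw [← Subgroup.coe_pow, pow_orderOf_eq_one]
          rfl
        rw [this]
        rfl
      have hord : Nat.Coprime (orderOf (restrictAut (α : MulAut P) T h h')) p :=
        Nat.Coprime.coprime_dvd_left (orderOf_dvd_of_pow_eq_one hpow) hcop'
      have hmemF : (⟨restrictAut (α : MulAut P) T h h', hα₀A⟩ : F.autGroup (P ⊓ T))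
          ∈ Cfsg.pResidual p (F.autGroup (P ⊓ T)) := by
        apply Subgroup.subset_closure
        show Nat.Coprime (orderOf (⟨restrictAut (α : MulAut P) T h h', hα₀A⟩ :
          F.autGroup (P ⊓ T))) p
        rw [Subgroup.orderOf_mk]
        exact hord
      have hα₀E : restrictAut (α : MulAut P) T h h' ∈ E.autGroup (P ⊓ T) :=
        hres _ inf_le_right ⟨_, hmemF, rfl⟩
      have hmemE : (⟨restrictAut (α : MulAut P) T h h', hα₀E⟩ : E.autGroup (P ⊓ T))
          ∈ Cfsg.pResidual p (E.autGroup (P ⊓ T)) := by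
        apply Subgroup.subset_closure
        show Nat.Coprime (orderOf (⟨restrictAut (α : MulAut P) T h h', hα₀E⟩ :
          E.autGroup (P ⊓ T))) p
        rw [Subgroup.orderOf_mk]
        exact hord
      -- coprime action
      have hPp : IsPGroup p P := hS.to_le hPS
      have hk : ((α : MulAut P)) ^ (orderOf α) = 1 := by
        rw [← Subgroup.coe_pow, pow_orderOf_eq_one]
        rfl
      have hCA := commutator_mem_closure_of_coprime (p := p) (α : MulAut P) hk hcop'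
        (T.subgroupOf P) (hPp.to_subgroup _)
        (fun x => Subgroup.mem_subgroupOf.mpr (by
          have := hT1 x
          simpa using this))
      have hle : Subgroup.closure {y : P | ∃ z ∈ T.subgroupOf P, y = z⁻¹ * (α : MulAut P) z}
          ≤ (E.hyperfocalSubgroup p).subgroupOf P := by
        rw [Subgroup.closure_le]
        rintro y ⟨z, hz, rfl⟩
        rw [SetLike.mem_coe, Subgroup.mem_subgroupOf]
        have hzT : (z : Ω) ∈ T := Subgroup.mem_subgroupOf.mp hz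
        have := Subgroup.subset_closure (k := {y : Ω | ∃ (P : Subgroup Ω) (α : E.autGroup P) (x : P),
            P ≤ T ∧ α ∈ Cfsg.pResidual p (E.autGroup P) ∧ y = (x : Ω)⁻¹ * ((α : MulAut P) x : P)})
          ⟨P ⊓ T, ⟨restrictAut (α : MulAut P) T h h', hα₀E⟩, ⟨z, ⟨z.2, hzT⟩⟩, inf_le_right,
            hmemE, rfl⟩
        exact this
      intro x
      have := hle (hCA x)
      rw [Subgroup.mem_subgroupOf] at this
      simpa using this
    | one =>
      intro x
      simp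
    | mul a b _ _ ha hb =>
      intro x
      have e : (x : Ω)⁻¹ * ((((a * b : F.autGroup P) : MulAut P) x : P) : Ω)
          = ((x : Ω)⁻¹ * (((b : MulAut P) x : P) : Ω))
            * ((((b : MulAut P) x : P) : Ω)⁻¹ * (((a : MulAut P) ((b : MulAut P) x) : P) : Ω)) := by
        rw [Subgroup.coe_mul, MulAut.mul_apply]
        group
      rw [e]
      exact Subgroup.mul_mem _ (hb x) (ha _)
    | inv a _ ha =>
      intro x
      have h1 := ha ((a : MulAut P)⁻¹ x)
      rw [MulAut.apply_inv_self] at h1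
      have e : (x : Ω)⁻¹ * ((((a⁻¹ : F.autGroup P) : MulAut P) x : P) : Ω)
          = ((((a : MulAut P)⁻¹ x : P) : Ω)⁻¹ * (x : Ω))⁻¹ := by
        rw [Subgroup.coe_inv]
        group
      rw [e]
      exact Subgroup.inv_mem _ h1
  unfold FusionSystem.hyperfocalSubgroup
  rw [Subgroup.closure_le]
  rintro y ⟨P, α, x, hPS, hα, rfl⟩
  exact key P hPS α hα x

/-- the hyperfocal subgroup lies in `S`. -/
theorem hyperfocal_le (F : FusionSystem S) (p : ℕ) : F.hyperfocalSubgroup p ≤ S := by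
  unfold FusionSystem.hyperfocalSubgroup
  rw [Subgroup.closure_le]
  rintro y ⟨P, α, x, hPS, -, rfl⟩
  exact S.mul_mem (S.inv_mem (hPS x.2)) (hPS (Subtype.property _))

/-- every system has `p`-power index in itself. -/
theorem hasPPowerIndexIn_self (F : FusionSystem S) (p : ℕ) : F.HasPPowerIndexIn F p :=
  ⟨fun _ => subset_rfl, hyperfocal_le F p, fun _ _ => Subgroup.map_subtype_le _⟩

/-- if `O^p(A) ≤ B` then `O^p(A) ≤ O^p(B)`. -/
theorem pResidual_map_le_of_le {M : Type*} [Group M] (p : ℕ) {A B : Subgroup M}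
    (h : (Cfsg.pResidual p A).map A.subtype ≤ B) :
    (Cfsg.pResidual p A).map A.subtype ≤ (Cfsg.pResidual p B).map B.subtype := by
  have h0 := h
  unfold Cfsg.pResidual at h0 ⊢
  rw [MonoidHom.map_closure, Subgroup.closure_le]
  rintro _ ⟨g, hg, rfl⟩
  have hgB : (g : M) ∈ B := h0 ⟨g, Subgroup.subset_closure hg, rfl⟩
  refine ⟨⟨(g : M), hgB⟩, Subgroup.subset_closure ?_, rfl⟩
  show Nat.Coprime (orderOf (⟨(g : M), hgB⟩ : B)) p
  have hg' : Nat.Coprime (orderOf g) p := hg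
  rw [Subgroup.orderOf_mk, Subgroup.orderOf_coe]
  exact hg'

/-- uniqueness of the `p'`-residual subsystem. -/
theorem eq_of_isPPrimeResidual {F : FusionSystem S} {p : ℕ} {E₁ E₂ : FusionSystem S}
    (h₁ : F.IsPPrimeResidual p E₁) (h₂ : F.IsPPrimeResidual p E₂) : E₁ = E₂ := by
  apply fusionSystem_ext
  intro P
  exact Set.Subset.antisymm (h₁.2.2 E₂ h₂.1 h₂.2.1 P) (h₂.2.2 E₁ h₁.1 h₁.2.1 P)

/-- a stable system over `S`, seen from a subsystem of `p`-power index over a subgroup equal to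
`S`. -/
theorem stable_aux [Finite S] {p : ℕ} [Fact p.Prime] (hS : IsPGroup p S) (F : FusionSystem S)
    (hFres : F.IsPPrimeResidual p F) {U : Subgroup Ω} (hU : U = S) (D D' : FusionSystem U)
    (hDsat : D.IsSaturated p) (hDidx : D.HasPPowerIndexIn F p) (hD' : D.IsPPrimeResidual p D') :
    (∀ P : Subgroup Ω, D'.Hom P = F.Hom P) ∧
      D'.hyperfocalSubgroup p = F.hyperfocalSubgroup p ∧ D'.IsPPrimeResidual p D' := by
  subst hU
  have h1 : D = F := eq_of_hasPPowerIndexIn hS F D F hDsat hFres.1 hDidx (hasPPowerIndexIn_self F p)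
  subst h1
  have h2 : D' = D := eq_of_isPPrimeResidual hD' hFres
  subst h2
  exact ⟨fun _ => rfl, rfl, hFres⟩

/-- the residual limit of a stable system is the system itself. -/
theorem residualLimit_of_stable : ∀ {T : Subgroup Ω} (L : FusionSystem T) {S : Subgroup Ω}
    (F : FusionSystem S) (p : ℕ), L.IsResidualLimitOf F p → p.Prime → Finite S → IsPGroup p S →
    F.hyperfocalSubgroup p = S → F.IsPPrimeResidual p F → ∀ P : Subgroup Ω, L.Hom P = F.Hom P := by
  intro T L S F p h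
  induction h with
  | stable F p h1 h2 =>
    intros
    rfl
  | step F p D D' hD hD' hlim ih =>
    intro hp hfin hS hhyp hFres P
    have := Fact.mk hp
    have := hfin
    obtain ⟨h1, h2, h3⟩ := stable_aux hS F hFres hhyp D D' hD.1 hD.2 hD'
    have hle : F.hyperfocalSubgroup p ≤ _ := le_of_eq hhyp
    rw [ih hp (finite_of_le hle) (hS.to_le hle) h2 h3 P, h1 P]

/-- uniqueness of the residual limit. -/
theorem residualLimit_unique : ∀ {T₁ : Subgroup Ω} (L₁ : FusionSystem T₁) {S : Subgroup Ω}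
    (F : FusionSystem S) (p : ℕ), L₁.IsResidualLimitOf F p → p.Prime → Finite S → IsPGroup p S →
    ∀ {T₂ : Subgroup Ω} (L₂ : FusionSystem T₂), L₂.IsResidualLimitOf F p →
    ∀ P : Subgroup Ω, L₁.Hom P = L₂.Hom P := by
  intro T₁ L₁ S F p h
  induction h with
  | stable F p h1 h2 =>
    intro hp hfin hS T₂ L₂ h₂ P
    exact (residualLimit_of_stable L₂ F p h₂ hp hfin hS h1 h2 P).symm
  | step F p D D' hD hD' hlim ih =>
    intro hp hfin hS T₂ L₂ h₂ P
    have := Fact.mk hp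
    have := hfin
    have hle : F.hyperfocalSubgroup p ≤ _ := hyperfocal_le F p
    cases h₂ with
    | stable _ _ h1 h2 =>
      exact residualLimit_of_stable _ F p (IsResidualLimitOf.step F p D D' hD hD' hlim) hp hfin hS
        h1 h2 P
    | step _ _ D₂ D₂' hD₂ hD₂' hlim₂ =>
      have e1 : D = D₂ := eq_of_hasPPowerIndexIn hS F D D₂ hD.1 hD₂.1 hD.2 hD₂.2
      subst e1
      have e2 : D' = D₂' := eq_of_isPPrimeResidual hD' hD₂'
      subst e2
      exact ih hp (finite_of_le hle) (hS.to_le hle) L₂ hlim₂ P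

/-- the `p`-residual subsystems of `F` and of a subsystem `E` of `p`-power index coincide. -/
theorem pResidual_eq_aux [Finite S] {p : ℕ} [Fact p.Prime] (hS : IsPGroup p S) (F : FusionSystem S)
    {T : Subgroup Ω} (E : FusionSystem T) (hidx : E.HasPPowerIndexIn F p) {U₁ U₂ : Subgroup Ω}
    (h : U₁ = U₂) (D₁ : FusionSystem U₁) (D₂ : FusionSystem U₂) (h₁ : D₁.IsSaturated p)
    (hi₁ : D₁.HasPPowerIndexIn E p) (h₂ : D₂.IsSaturated p) (hi₂ : D₂.HasPPowerIndexIn F p) :
    ∀ P : Subgroup Ω, D₁.Hom P = D₂.Hom P := by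
  subst h
  have hi : D₁.HasPPowerIndexIn F p := by
    refine ⟨fun P => (hi₁.1 P).trans (hidx.1 P), hi₂.2.1, fun P hP => ?_⟩
    have hPT : P ≤ T := hP.trans (subsystem_le D₁ E hi₁.1)
    have h1 := hidx.2.2 P hPT
    exact (pResidual_map_le_of_le p h1).trans (hi₁.2.2 P hP)
  rw [eq_of_hasPPowerIndexIn hS F D₁ D₂ h₁ h₂ hi hi₂]
  intro P
  rfl

theorem pPrimeResidual_eq_aux {p : ℕ} {U₁ U₂ : Subgroup Ω} (h : U₁ = U₂)
    (D₁ D₁' : FusionSystem U₁) (D₂ D₂' : FusionSystem U₂)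
    (hD : ∀ P : Subgroup Ω, D₁.Hom P = D₂.Hom P) (h₁ : D₁.IsPPrimeResidual p D₁')
    (h₂ : D₂.IsPPrimeResidual p D₂') : ∀ P : Subgroup Ω, D₁'.Hom P = D₂'.Hom P := by
  subst h
  have e : D₁ = D₂ := fusionSystem_ext hD
  subst e
  rw [eq_of_isPPrimeResidual h₁ h₂]
  intro P
  rfl

theorem stable_transport {p : ℕ} {U₁ U₂ : Subgroup Ω} (h : U₁ = U₂) (D₁ : FusionSystem U₁)
    (D₂ : FusionSystem U₂) (hD : ∀ P : Subgroup Ω, D₁.Hom P = D₂.Hom P)
    (h1 : D₁.hyperfocalSubgroup p = U₁) (h2 : D₁.IsPPrimeResidual p D₁) :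
    D₂.hyperfocalSubgroup p = U₂ ∧ D₂.IsPPrimeResidual p D₂ := by
  subst h
  have e : D₁ = D₂ := fusionSystem_ext hD
  subst e
  exact ⟨h1, h2⟩

theorem residualLimit_transport {p : ℕ} {U₁ U₂ : Subgroup Ω} (h : U₁ = U₂) (D₁ : FusionSystem U₁)
    (D₂ : FusionSystem U₂) (hD : ∀ P : Subgroup Ω, D₁.Hom P = D₂.Hom P) {V : Subgroup Ω}
    (L : FusionSystem V) (hL : L.IsResidualLimitOf D₁ p) : L.IsResidualLimitOf D₂ p := by
  subst h
  have e : D₁ = D₂ := fusionSystem_ext hD
  subst e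
  exact hL

/-- a normal (indeed any saturated) subsystem of `p`-power index has the same residual limit. -/
theorem residualLimit_eq_of_hasPPowerIndexIn [Finite S] (p : ℕ) [Fact p.Prime]
    (hS : IsPGroup p S) (F : FusionSystem S) {T : Subgroup Ω} (E : FusionSystem T)
    (hEsat : E.IsSaturated p) (hidx : E.HasPPowerIndexIn F p) {U V : Subgroup Ω}
    (Finf : FusionSystem U) (hFinf : Finf.IsResidualLimitOf F p) (Einf : FusionSystem V)
    (hEinf : Einf.IsResidualLimitOf E p) : ∀ P : Subgroup Ω, Finf.Hom P = Einf.Hom P := by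
  have hp : p.Prime := Fact.out
  have hTS : T ≤ S := subsystem_le E F hidx.1
  have hfinT : Finite T := finite_of_le hTS
  have hTp : IsPGroup p T := hS.to_le hTS
  have hhyp : E.hyperfocalSubgroup p = F.hyperfocalSubgroup p :=
    le_antisymm (hyperfocal_le_of_subsystem E F hidx.1 p)
      (hyperfocal_le_of_hasPPowerIndexIn hS F E hidx)
  have hle : F.hyperfocalSubgroup p ≤ S := hyperfocal_le F p
  have hfinH : Finite (F.hyperfocalSubgroup p) := finite_of_le hle
  have hHp : IsPGroup p (F.hyperfocalSubgroup p) := hS.to_le hle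
  cases hFinf with
  | stable _ _ h1 h2 =>
    -- then T = S and E = F
    have hT : T = S := le_antisymm hTS (by rw [← h1]; exact hidx.2.1)
    have hEF : ∀ P : Subgroup Ω, E.Hom P = F.Hom P :=
      pResidual_eq_aux hS F E hidx hT E F hEsat (hasPPowerIndexIn_self E p) h2.1
        (hasPPowerIndexIn_self F p)
    have hEinf' := residualLimit_transport hT E F hEF Einf hEinf
    intro P
    exact (residualLimit_of_stable Einf F p hEinf' hp inferInstance hS h1 h2 P).symm
  | step _ _ D D' hD hD' hlim =>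
    cases hEinf with
    | stable _ _ h1 h2 =>
      have hT : T = F.hyperfocalSubgroup p := by rw [← hhyp, h1]
      have hED : ∀ P : Subgroup Ω, E.Hom P = D.Hom P :=
        pResidual_eq_aux hS F E hidx hT E D hEsat (hasPPowerIndexIn_self E p) hD.1 hD.2
      have hED' : ∀ P : Subgroup Ω, E.Hom P = D'.Hom P :=
        pPrimeResidual_eq_aux hT E E D D' hED h2 hD'
      obtain ⟨h3, h4⟩ := stable_transport hT E D' hED' h1 h2
      intro P
      rw [residualLimit_of_stable Finf D' p hlim hp hfinH hHp h3 h4 P, hED' P]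
    | step _ _ DE DE' hDE hDE' hlimE =>
      have hDD : ∀ P : Subgroup Ω, DE.Hom P = D.Hom P :=
        pResidual_eq_aux hS F E hidx hhyp DE D hDE.1 hDE.2 hD.1 hD.2
      have hDD' : ∀ P : Subgroup Ω, DE'.Hom P = D'.Hom P :=
        pPrimeResidual_eq_aux hhyp DE DE' D D' hDD hDE' hD'
      have hlimE' := residualLimit_transport hhyp DE' D' hDD' Einf hlimE
      exact residualLimit_unique Finf D' p hlim hp hfinH hHp Einf hlimE'

end Cfsg.Agent.Lib.Helper86
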