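import Mathlib
import Cfsg.Prelude.Def_FusionSystem
import Cfsg.Agent.Lib.Helper84.FusionBasic
import Cfsg.Agent.Lib.Helper34.SylowAux
import Cfsg.Agent.Lib.Helper86.FusionAux
import Cfsg.Agent.Lib.Helper86.Alperin
import Cfsg.Agent.Lib.Helper86.Saturated
import Cfsg.Agent.Lib.Helper86.Centric
import Cfsg.Agent.Lib.Helper86.GroupFusion

set_option autoImplicit false

namespace Cfsg.Agent.Lib.Helper86

open Cfsg Cfsg.FusionSystem Cfsg.Agent.Lib.Helper84 Cfsg.Agent.Lib.Helper34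

variable {Ω : Type*} [Group Ω] {S : Subgroup Ω}

/-- For a subsystem `E` invariant in `F`, the group `Aut_E(R)` is normalized by `Aut_F(R)`. -/
theorem conj_mem_of_invariant {T : Subgroup Ω} (E : FusionSystem T) (F : FusionSystem S)
    (hinv : E.IsInvariantIn F) {R : Subgroup Ω} (hRT : R ≤ T) {a β : MulAut R}
    (ha : autMap a ∈ F.Hom R) (hβ : autMap β ∈ E.Hom R) : autMap (a * β * a⁻¹) ∈ E.Hom R := by
  obtain ⟨hEF, hsc, inv, frat⟩ := hinv
  obtain ⟨α, hα, φ₀, hφ₀, hαφ⟩ := frat R hRT (autMap a) ha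
  obtain ⟨e₀, he₀, he₀x⟩ := exists_isFIso E hφ₀ rfl
  have hR'T : φ₀.range ≤ T := he₀.le_right
  have hβ' : autMap (MulAut.congr e₀ β) ∈ E.Hom φ₀.range := by
    have := he₀.congr_mem_autGroup ((mem_autGroup_iff E hRT β).mpr hβ)
    exact (mem_autGroup_iff E hR'T _).mp this
  obtain ⟨χ, hχ, hχx⟩ := inv φ₀.range hR'T _ hβ' α hα
  have hax : ∀ x : R, ((a x : R) : Ω) = ((α ⟨φ₀ x, hom_mem_S E hφ₀ x⟩ : T) : Ω) :=
    fun x => hαφ x (hom_mem_S E hφ₀ x)
  have hle : R ≤ (φ₀.range.subgroupOf T).map (T.subtype.comp α.toMonoidHom) := by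
    intro y hy
    refine ⟨⟨φ₀ (a⁻¹ ⟨y, hy⟩), hom_mem_S E hφ₀ _⟩, Subgroup.mem_subgroupOf.mpr ⟨_, rfl⟩, ?_⟩
    show ((α ⟨φ₀ (a⁻¹ ⟨y, hy⟩), _⟩ : T) : Ω) = y
    rw [← hax]
    simp
  have hχ' := res_mem E hχ hle
  apply hom_of_eq E hχ'
  intro y
  show ((a (β (a⁻¹ y)) : R) : Ω) = χ ⟨(y : Ω), hle y.2⟩
  have hφx : autMap (MulAut.congr e₀ β) (e₀ (a⁻¹ y)) ∈ T := hR'T (Subtype.property _)
  have hαx : ((α ⟨((e₀ (a⁻¹ y) : φ₀.range) : Ω), hR'T (e₀ (a⁻¹ y)).2⟩ : T) : Ω)
      ∈ (φ₀.range.subgroupOf T).map (T.subtype.comp α.toMonoidHom) :=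
    ⟨⟨_, hR'T (e₀ (a⁻¹ y)).2⟩, Subgroup.mem_subgroupOf.mpr (e₀ (a⁻¹ y)).2, rfl⟩
  have h1 := hχx (e₀ (a⁻¹ y)) hφx hαx
  have key : (⟨(y : Ω), hle y.2⟩ : ↥((φ₀.range.subgroupOf T).map (T.subtype.comp α.toMonoidHom)))
      = ⟨((α ⟨((e₀ (a⁻¹ y) : φ₀.range) : Ω), hR'T (e₀ (a⁻¹ y)).2⟩ : T) : Ω), hαx⟩ := by
    apply Subtype.ext
    show (y : Ω) = ((α ⟨((e₀ (a⁻¹ y) : φ₀.range) : Ω), _⟩ : T) : Ω)
    have h2 := hax (a⁻¹ y)
    rw [MulAut.apply_inv_self] at h2
    rw [h2]
    congr 2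
    apply Subtype.ext
    exact (he₀x _).symm
  rw [key, h1, hax]
  congr 2
  apply Subtype.ext
  show φ₀ (β (a⁻¹ y)) = ((e₀ (β (e₀.symm (e₀ (a⁻¹ y)))) : φ₀.range) : Ω)
  rw [e₀.symm_apply_apply, he₀x]

/-- a normal subgroup containing a Sylow `p`-subgroup contains every element of `p`-power
order. -/
theorem mem_of_orderOf_prime_pow {A : Type*} [Group A] [Finite A] {p : ℕ} [Fact p.Prime]
    (B D : Subgroup A) (hDB : D ≤ B) (hD : IsPGroup p D) (hDi : ¬ p ∣ D.index)
    (hB : ∀ a : A, ∀ b ∈ B, a * b * a⁻¹ ∈ B) {a : A} {k : ℕ} (ha : orderOf a = p ^ k) :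
    a ∈ B := by
  have hz : IsPGroup p (Subgroup.zpowers a) :=
    IsPGroup.of_card (n := k) (by rw [Nat.card_zpowers, ha])
  obtain ⟨n, hn⟩ := exists_conj_le_of_index_coprime D hD hDi (Subgroup.zpowers a) hz
  have h1 := hDB (hn a (Subgroup.mem_zpowers a))
  have h2 := hB n⁻¹ _ h1
  have e : n⁻¹ * (n * a * n⁻¹) * n⁻¹⁻¹ = a := by group
  rwa [e] at h2

/-- Extension step: let `E ≤ F` be saturated fusion systems over the finite `p`-group `S` and
`Q ≤ S` an `F`-centric subgroup. An `F`-automorphism of `N_S(Q)` whose restriction to `Q` is an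
`E`-automorphism of `Q` is an `E`-automorphism of `N_S(Q)`. -/
theorem aut_normalizer_mem_of_centric [Finite S] {p : ℕ} [Fact p.Prime] (hS : IsPGroup p S)
    (F E : FusionSystem S) (hF : F.IsSaturated p) (hE : E.IsSaturated p)
    (hEF : E.IsSubsystemOf F) {Q : Subgroup Ω} (hQS : Q ≤ S) (hQc : F.IsCentric Q)
    (γ : MulAut (normalizerIn S Q)) (hγ : autMap γ ∈ F.Hom (normalizerIn S Q))
    (γQ : MulAut Q) (hγQ : autMap γQ ∈ E.Hom Q)
    (hγγ : ∀ x : Q, ((γ ⟨x, le_normalizerIn hQS x.2⟩ : normalizerIn S Q) : Ω) = ((γQ x : Q) : Ω)) :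
    autMap γ ∈ E.Hom (normalizerIn S Q) := by
  have hNS : normalizerIn S Q ≤ S := normalizerIn_le S Q
  have hQN : Q ≤ normalizerIn S Q := le_normalizerIn hQS
  obtain ⟨Qs, hconj, hfa, hrec⟩ := hE Q hQS
  have hQsS : Qs ≤ S := hfa.1
  have hfinQs : Finite Qs := finite_of_le hQsS
  obtain ⟨ψ, hψ, hψN, hψQ⟩ := exists_hom_normalizer_onto hS E hfa hrec hconj
  obtain ⟨eψ, heψ, heψx⟩ := exists_isFIso E hψ rfl
  have hNsS : ψ.range ≤ S := heψ.le_right
  have hQsNs : Qs ≤ ψ.range := by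
    rw [← hψQ]
    rintro _ ⟨x, -, rfl⟩
    exact ⟨x, rfl⟩
  have hψQ' : ψ.comp (Subgroup.inclusion hQN) ∈ E.Hom Q := res_mem E hψ hQN
  have hrange : (ψ.comp (Subgroup.inclusion hQN)).range = Qs := by
    rw [← hψQ]
    ext y
    constructor
    · rintro ⟨x, rfl⟩
      exact ⟨Subgroup.inclusion hQN x, Subgroup.mem_subgroupOf.mpr x.2, rfl⟩
    · rintro ⟨x, hx, rfl⟩
      exact ⟨⟨x, Subgroup.mem_subgroupOf.mp hx⟩, rfl⟩
  obtain ⟨eQ, heQ, heQx⟩ := exists_isFIso E hψQ' hrange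
  have heψF : IsFIso F eψ := hEF _ heψ
  have heQF : IsFIso F eQ := hEF _ heQ
  have hεF : IsFIso F ((eψ.symm.trans γ).trans eψ) := (heψF.symm.trans hγ).trans heψF
  have hδ : IsFIso E ((eQ.symm.trans γQ).trans eQ) := (heQ.symm.trans hγQ).trans heQ
  -- compatibility of the two isomorphisms
  have hA : ∀ x : Q, eψ ⟨x, hQN x.2⟩ = ⟨eQ x, hQsNs (eQ x).2⟩ := by
    intro x
    apply Subtype.ext
    rw [heψx]
    exact (heQx x).symm
  have hcompat : ∀ y : Qs, ((((eQ.symm.trans γQ).trans eQ) y : Qs) : Ω)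
      = ((((eψ.symm.trans γ).trans eψ) ⟨y, hQsNs y.2⟩ : ψ.range) : Ω) := by
    intro y
    have h1 : eψ.symm ⟨y, hQsNs y.2⟩ = ⟨eQ.symm y, hQN (eQ.symm y).2⟩ := by
      rw [MulEquiv.symm_apply_eq, hA]
      apply Subtype.ext
      show (y : Ω) = ((eQ (eQ.symm y) : Qs) : Ω)
      rw [eQ.apply_symm_apply]
    show ((eQ (γQ (eQ.symm y)) : Qs) : Ω) = ((eψ (γ (eψ.symm ⟨y, hQsNs y.2⟩)) : ψ.range) : Ω)
    rw [h1]
    have h2 : γ ⟨eQ.symm y, hQN (eQ.symm y).2⟩ = ⟨γQ (eQ.symm y), hQN (γQ (eQ.symm y)).2⟩ :=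
      Subtype.ext (hγγ _)
    rw [h2, hA]
  -- receptivity
  obtain ⟨ρ, hρ, hρx⟩ := hrec.2 Qs (autMap ((eQ.symm.trans γQ).trans eQ)) hδ (autMap_range _)
  have hle : ψ.range ≤ extender S Qs (autMap ((eQ.symm.trans γQ).trans eQ)) := by
    intro n hn
    apply Subgroup.subset_closure
    refine ⟨hNsS hn, ?_, ((((eψ.symm.trans γ).trans eψ) ⟨n, hn⟩ : ψ.range) : Ω),
      hNsS (Subtype.property _), fun x hx => ?_⟩
    · apply mem_normalizer_of_finite
      intro y hy
      obtain ⟨m, rfl⟩ := hn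
      rw [← hψQ] at hy
      obtain ⟨x', hx', rfl⟩ := hy
      rw [← hψQ]
      refine ⟨m * x' * m⁻¹, Subgroup.mem_subgroupOf.mpr ?_, by simp⟩
      exact (Subgroup.mem_normalizer_iff.mp m.2.2 _).mp (Subgroup.mem_subgroupOf.mp hx')
    · show ((((eQ.symm.trans γQ).trans eQ) ⟨n * x * n⁻¹, hx⟩ : Qs) : Ω)
        = ((((eψ.symm.trans γ).trans eψ) ⟨n, hn⟩ : ψ.range) : Ω)
          * ((((eQ.symm.trans γQ).trans eQ) x : Qs) : Ω)
          * ((((eψ.symm.trans γ).trans eψ) ⟨n, hn⟩ : ψ.range) : Ω)⁻¹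
      rw [hcompat, hcompat]
      have e1 : (⟨n * x * n⁻¹, hQsNs hx⟩ : ψ.range) = ⟨n, hn⟩ * ⟨x, hQsNs x.2⟩ * ⟨n, hn⟩⁻¹ :=
        Subtype.ext rfl
      rw [e1, map_mul, map_mul, map_inv]
      rfl
  have hρ' := res_mem E hρ hle
  have hρ'F := hEF _ hρ'
  have hagree : ∀ y : ψ.range, (y : Ω) ∈ Qs →
      (ρ.comp (Subgroup.inclusion hle)) y = autMap ((eψ.symm.trans γ).trans eψ) y := by
    intro y hy
    show ρ ⟨y, hle y.2⟩ = _
    rw [hρx y hy (hle y.2)]
    exact hcompat ⟨y, hy⟩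
  have hQsc : F.IsCentric Qs := isCentric_of_isConj F hQc heQF.isConj
  obtain ⟨z, hzQ, hzC, hz⟩ := centric_lemma hS F hF hQsNs hQsc hρ'F hεF hagree
  have hcz : autMap (MulAut.conj z) ∈ E.Hom ψ.range :=
    hom_of_eq E (E.conj_mem hNsS (hNsS z.2)) (fun x => rfl)
  have hεE : IsFIso E ((eψ.symm.trans γ).trans eψ) :=
    hom_of_eq E (E.comp_mem hcz hρ' (fun y => (MulAut.conj z y).2)) (fun y => hz y)
  have hfin : IsFIso E (eψ.trans (((eψ.symm.trans γ).trans eψ).trans eψ.symm)) :=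
    heψ.trans (hεE.trans heψ.symm)
  apply hom_of_eq E hfin
  intro x
  show ((γ x : normalizerIn S Q) : Ω)
    = ((eψ.symm (eψ (γ (eψ.symm (eψ x)))) : normalizerIn S Q) : Ω)
  rw [eψ.symm_apply_apply, eψ.symm_apply_apply]

/-- conjugation by a normalizing element maps the subgroup onto itself. -/
theorem conjHom_range_of_mem_normalizer {P : Subgroup Ω} {g : Ω}
    (hg : g ∈ Subgroup.normalizer (P : Set Ω)) : (conjHom P g).range = P := by
  ext y
  constructor
  · rintro ⟨x, rfl⟩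
    exact (Subgroup.mem_normalizer_iff.mp hg x).mp x.2
  · intro hy
    have h1 : g⁻¹ * y * g⁻¹⁻¹ ∈ P :=
      (Subgroup.mem_normalizer_iff.mp (Subgroup.inv_mem _ hg) y).mp hy
    refine ⟨⟨g⁻¹ * y * g⁻¹⁻¹, h1⟩, ?_⟩
    show g * (g⁻¹ * y * g⁻¹⁻¹) * g⁻¹ = y
    group

/-- Climbing the normalizer tower: let `E ≤ F` be saturated fusion systems over the finite
`p`-group `S` and let `g` normalize `S`, with conjugation by `g` a map of `F` on every subgroup
of `S`. If `g` normalizes the `F`-centric subgroup `Q` and conjugation by `g` on `Q` is a map of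
`E`, then conjugation by `g` on `S` is a map of `E`. -/
theorem conjHom_mem_of_centric [Finite S] {p : ℕ} [Fact p.Prime] (hS : IsPGroup p S)
    (F E : FusionSystem S) (hF : F.IsSaturated p) (hE : E.IsSaturated p)
    (hEF : E.IsSubsystemOf F) {g : Ω} (hgS : g ∈ Subgroup.normalizer (S : Set Ω))
    (hgF : ∀ P : Subgroup Ω, P ≤ S → conjHom P g ∈ F.Hom P) :
    ∀ (d : ℕ) (Q : Subgroup Ω), Q ≤ S → Nat.card S - Nat.card Q = d → F.IsCentric Q →
      g ∈ Subgroup.normalizer (Q : Set Ω) → conjHom Q g ∈ E.Hom Q → conjHom S g ∈ E.Hom S := by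
  intro d
  induction d using Nat.strong_induction_on with
  | _ d ih =>
    intro Q hQS hd hQc hgQ hQE
    by_cases hQeq : Q = S
    · rw [hQeq] at hQE
      exact hQE
    · obtain ⟨n, hnN, hnQ⟩ := exists_normalizerIn_not_mem hS hQS hQeq
      have hNS : normalizerIn S Q ≤ S := normalizerIn_le S Q
      have hfinN : Finite (normalizerIn S Q) := finite_of_le hNS
      have hlt : Nat.card Q < Nat.card (normalizerIn S Q) :=
        card_lt_of_le_of_not_mem (le_normalizerIn hQS) hnN hnQ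
      have hgN : g ∈ Subgroup.normalizer ((normalizerIn S Q : Subgroup Ω) : Set Ω) := by
        apply mem_normalizer_of_finite
        intro x hx
        exact ⟨(Subgroup.mem_normalizer_iff.mp hgS x).mp hx.1,
          Subgroup.mul_mem _ (Subgroup.mul_mem _ hgQ hx.2) (Subgroup.inv_mem _ hgQ)⟩
      have hγF := hgF _ hNS
      obtain ⟨γ, hγ, hγx⟩ := exists_isFIso F hγF (conjHom_range_of_mem_normalizer hgN)
      obtain ⟨γQ, hγQ, hγQx⟩ := exists_isFIso E hQE (conjHom_range_of_mem_normalizer hgQ)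
      have hstep := aut_normalizer_mem_of_centric hS F E hF hE hEF hQS hQc γ hγ γQ hγQ
        (fun x => by rw [hγx, hγQx]; rfl)
      have hNE : conjHom (normalizerIn S Q) g ∈ E.Hom (normalizerIn S Q) :=
        hom_of_eq E hstep (fun x => (hγx x).symm)
      have hcS : Nat.card (normalizerIn S Q) ≤ Nat.card S := Subgroup.card_le_of_le hNS
      exact ih (Nat.card S - Nat.card (normalizerIn S Q)) (by omega) _ hNS rfl
        (isCentric_of_le F hQc (le_normalizerIn hQS) hNS) hgN hNE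

/-- **Simplicity criterion for the fusion system of a finite group** (Oliver): if no proper
nontrivial subgroup of the Sylow subgroup `S` is strongly closed and `Aut_G(S)` is generated by
the automorphisms induced by the subgroups `O^{p'}(N_G(R))`, `R` fully normalized, radical and
centric, then the fusion system of `G` on `S` is simple. -/
theorem groupFusionSystem_isSimple_of {G : Type*} [Group G] [Finite G] (p : ℕ) [Fact p.Prime]
    (S : Sylow p G) (hS1 : (S : Subgroup G) ≠ ⊥)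
    (ha : ∀ T : Subgroup G, (Cfsg.groupFusionSystem (S : Subgroup G)).StronglyClosed T →
      T = ⊥ ∨ T = (S : Subgroup G))
    (hb : Cfsg.autInducedBy ⊤ (S : Subgroup G) = ⨆ (R : Subgroup G)
      (_ : (Cfsg.groupFusionSystem (S : Subgroup G)).IsFullyNormalized R ∧
        (Cfsg.groupFusionSystem (S : Subgroup G)).IsRadical p R ∧
        (Cfsg.groupFusionSystem (S : Subgroup G)).IsCentric R),
      Cfsg.autInducedBy (Subgroup.closure {g : G | g ∈ Subgroup.normalizer (R : Set G) ∧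
        ∃ k : ℕ, orderOf g = p ^ k}) (S : Subgroup G)) :
    (Cfsg.groupFusionSystem (S : Subgroup G)).IsSimple p := by
  have hsat := groupFusionSystem_isSaturated S
  have hSp : IsPGroup p (S : Subgroup G) := S.isPGroup'
  refine ⟨hsat, hS1, ?_⟩
  intro T E hE
  obtain ⟨⟨hEsat, -, hinv⟩, -⟩ := hE
  have hEF := hinv.1
  have hsc := hinv.2.1
  rcases ha T hsc with hT | hT
  · exact Or.inl hT
  · right
    subst hT
    refine ⟨rfl, ?_⟩
    have main : ∀ α ∈ (groupFusionSystem (S : Subgroup G)).autGroup (S : Subgroup G),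
        autMap α ∈ E.Hom (S : Subgroup G) := by
      intro α hα
      have hα' : α ∈ autInducedBy ⊤ (S : Subgroup G) := by
        rw [mem_autGroup_iff _ le_rfl] at hα
        obtain ⟨-, -, g, hg⟩ := hα
        exact Subgroup.subset_closure ⟨g, Subgroup.mem_top g, fun x => hg x⟩
      rw [hb] at hα'
      suffices h : ∀ R : Subgroup G,
          ((groupFusionSystem (S : Subgroup G)).IsFullyNormalized R ∧
            (groupFusionSystem (S : Subgroup G)).IsRadical p R ∧
            (groupFusionSystem (S : Subgroup G)).IsCentric R) →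
          autInducedBy (Subgroup.closure {g : G | g ∈ Subgroup.normalizer (R : Set G) ∧
            ∃ k : ℕ, orderOf g = p ^ k}) (S : Subgroup G) ≤ E.autGroup (S : Subgroup G) from
        (mem_autGroup_iff E le_rfl α).mp ((iSup₂_le h) hα')
      rintro R ⟨hRfn, -, hRc⟩
      have hRS : R ≤ (S : Subgroup G) := hRfn.1
      have hfa := (fullyNormalized_imp hSp _ hsat hRfn).1
      obtain ⟨Rs, hRs⟩ := hfa.2
      intro β hβ
      rw [mem_autInducedBy_iff] at hβ
      obtain ⟨g, hg, hgβ⟩ := hβ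
      rw [mem_autGroup_iff E le_rfl]
      have hgS : g ∈ Subgroup.normalizer ((S : Subgroup G) : Set G) :=
        mem_normalizer_of_finite (fun x hx => by
          have := hgβ ⟨x, hx⟩
          rw [← this]
          exact (β _).2)
      have hK : Subgroup.closure {g : G | g ∈ Subgroup.normalizer (R : Set G) ∧
          ∃ k : ℕ, orderOf g = p ^ k}
          ≤ ((E.autGroup R).comap R.normalizerMonoidHom).map
            (Subgroup.normalizer (R : Set G)).subtype := by
        rw [Subgroup.closure_le]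
        rintro m ⟨hmN, k, hk⟩
        refine ⟨⟨m, hmN⟩, ?_, rfl⟩
        show R.normalizerMonoidHom ⟨m, hmN⟩ ∈ E.autGroup R
        have hmA : R.normalizerMonoidHom ⟨m, hmN⟩
            ∈ (groupFusionSystem (S : Subgroup G)).autGroup R := by
          rw [groupFusionSystem_autGroup_eq _ hRS]
          exact ⟨_, rfl⟩
        have hord : ∃ j, orderOf (⟨R.normalizerMonoidHom ⟨m, hmN⟩, hmA⟩ :
            (groupFusionSystem (S : Subgroup G)).autGroup R) = p ^ j := by
          have h1 : orderOf (R.normalizerMonoidHom ⟨m, hmN⟩)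
              ∣ orderOf (⟨m, hmN⟩ : Subgroup.normalizer (R : Set G)) := orderOf_map_dvd _ _
          have h2 : orderOf (⟨m, hmN⟩ : Subgroup.normalizer (R : Set G)) = orderOf m :=
            Subgroup.orderOf_mk m hmN
          rw [h2, hk] at h1
          obtain ⟨j, -, hj⟩ := (Nat.dvd_prime_pow Fact.out).mp h1
          exact ⟨j, by rw [← hj]; exact Subgroup.orderOf_mk _ _⟩
        obtain ⟨j, hj⟩ := hord
        have hDB : (Rs : Subgroup ((groupFusionSystem (S : Subgroup G)).autGroup R))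
            ≤ (E.autGroup R).subgroupOf ((groupFusionSystem (S : Subgroup G)).autGroup R) := by
          rw [hRs]
          intro x hx
          exact Subgroup.mem_subgroupOf.mpr
            (autInducedBy_le_autGroup E hRS (Subgroup.mem_subgroupOf.mp hx))
        have hB : ∀ a : (groupFusionSystem (S : Subgroup G)).autGroup R,
            ∀ b ∈ (E.autGroup R).subgroupOf ((groupFusionSystem (S : Subgroup G)).autGroup R),
            a * b * a⁻¹ ∈ (E.autGroup R).subgroupOf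
              ((groupFusionSystem (S : Subgroup G)).autGroup R) := by
          intro a b hb'
          rw [Subgroup.mem_subgroupOf] at hb' ⊢
          rw [mem_autGroup_iff E hRS] at hb' ⊢
          exact conj_mem_of_invariant E _ hinv hRS
            ((mem_autGroup_iff _ hRS (a : MulAut R)).mp a.2) hb'
        have hmem := mem_of_orderOf_prime_pow _ _ hDB Rs.isPGroup' Rs.not_dvd_index hB hj
        exact Subgroup.mem_subgroupOf.mp hmem
      obtain ⟨g', hg', hg'g⟩ := hK hg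
      have hg'g' : (g' : G) = g := hg'g
      have hRE : conjHom R g ∈ E.Hom R := by
        have h1 : autMap (R.normalizerMonoidHom g') ∈ E.Hom R :=
          (mem_autGroup_iff E hRS _).mp hg'
        apply hom_of_eq E h1
        intro x
        show g * (x : G) * g⁻¹ = (g' : G) * x * (g' : G)⁻¹
        rw [hg'g']
      have hgR : g ∈ Subgroup.normalizer (R : Set G) := by
        rw [← hg'g']
        exact g'.2
      have hgF : ∀ P : Subgroup G, P ≤ (S : Subgroup G) →
          conjHom P g ∈ (groupFusionSystem (S : Subgroup G)).Hom P :=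
        fun P hP => ⟨hP, fun x => (Subgroup.mem_normalizer_iff.mp hgS _).mp (hP x.2), g,
          fun x => rfl⟩
      have hfinal := conjHom_mem_of_centric hSp _ E hsat hEsat hEF hgS hgF _ R hRS rfl hRc hgR hRE
      exact hom_of_eq E hfinal (fun x => hgβ x)
    intro P
    apply Set.Subset.antisymm (hEF P)
    intro φ hφ
    obtain ⟨α, hα, φ₀, hφ₀, hαφ⟩ := hinv.2.2.2 P (hom_le _ hφ) φ hφ
    have hc := E.comp_mem hφ₀ (main α hα) (fun x => hom_mem_S E hφ₀ x)
    exact hom_of_eq E hc (fun x => hαφ x _)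

end Cfsg.Agent.Lib.Helper86
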