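import Mathlib
import Cfsg.Prelude.Def_FusionSystem
import Cfsg.Agent.Lib.Helper84.FusionApps
import Cfsg.Agent.Lib.Helper86.Simple

set_option autoImplicit false

namespace Cfsg.Agent.Lib.Helper86

open Cfsg Cfsg.FusionSystem

section
variable {G : Type*} [Group G]

/-- an element of `p`-power order normalizing a Sylow `p`-subgroup lies in it. -/
theorem mem_sylow_of_mem_normalizer [Finite G] {p : ℕ} [Fact p.Prime] (S : Sylow p G) {g : G}
    (hg : g ∈ Subgroup.normalizer ((S : Subgroup G) : Set G)) {k : ℕ} (hk : orderOf g = p ^ k) :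
    g ∈ (S : Subgroup G) := by
  have h := mem_of_orderOf_prime_pow (A := ↥(Subgroup.normalizer ((S : Subgroup G) : Set G)))
    (p := p) ((S : Subgroup G).subgroupOf _) ((S : Subgroup G).subgroupOf _) le_rfl
    (S.isPGroup'.of_equiv (Subgroup.subgroupOfEquivOfLe Subgroup.le_normalizer).symm)
    (fun h => S.not_dvd_index (dvd_trans h (Subgroup.relIndex_dvd_index_of_le Subgroup.le_normalizer)))
    (fun a b hb => by
      rw [Subgroup.mem_subgroupOf] at hb ⊢
      exact (Subgroup.mem_normalizer_iff.mp a.2 b).mp hb)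
    (a := ⟨g, hg⟩) (k := k) ((Subgroup.orderOf_coe (⟨g, hg⟩ :
      ↥(Subgroup.normalizer ((S : Subgroup G) : Set G)))).symm.trans hk)
  exact Subgroup.mem_subgroupOf.mp h

/-- if the `p'`-elements of `N_G(S)` centralize the Sylow `p`-subgroup `S`, then every element of
`N_G(S)` acts on `S` as an element of `S`. -/
theorem exists_inner_of_coprime_centralize [Finite G] {p : ℕ} [Fact p.Prime] (S : Sylow p G)
    (hc : ∀ g ∈ Subgroup.normalizer ((S : Subgroup G) : Set G), Nat.Coprime (orderOf g) p →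
      ∀ x ∈ (S : Subgroup G), g * x * g⁻¹ = x)
    {g : G} (hg : g ∈ Subgroup.normalizer ((S : Subgroup G) : Set G)) :
    ∃ s ∈ (S : Subgroup G), ∀ x ∈ (S : Subgroup G), g * x * g⁻¹ = s * x * s⁻¹ := by
  have hp : p.Prime := Fact.out
  obtain ⟨a, m, hm, hn⟩ := Nat.exists_eq_pow_mul_and_not_dvd (orderOf_pos g).ne' p hp.ne_one
  have hcop : Nat.Coprime (p ^ a) m :=
    Nat.Coprime.pow_left a ((Nat.Prime.coprime_iff_not_dvd hp).2 hm)
  obtain ⟨e, he1, he0⟩ := Nat.chineseRemainder hcop 1 0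
  obtain ⟨s, hs⟩ : ∃ s, s = g ^ e := ⟨_, rfl⟩
  have hs_pow : s ^ (p ^ a) = 1 := by
    rw [hs, ← pow_mul]
    apply orderOf_dvd_iff_pow_eq_one.mp
    rw [hn]
    obtain ⟨c, rfl⟩ := (Nat.modEq_zero_iff_dvd).mp he0
    exact ⟨c, by ring⟩
  have hsN : s ∈ Subgroup.normalizer ((S : Subgroup G) : Set G) := hs ▸ Subgroup.pow_mem _ hg e
  obtain ⟨k, hk⟩ : ∃ k, orderOf s = p ^ k := by
    obtain ⟨k, -, hk⟩ := (Nat.dvd_prime_pow hp).mp (orderOf_dvd_of_pow_eq_one hs_pow)
    exact ⟨k, hk⟩
  have hsS := mem_sylow_of_mem_normalizer S hsN hk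
  have hcm : (g * s⁻¹) ^ m = 1 := by
    have hcomm : Commute g s⁻¹ := by
      rw [hs]
      exact ((Commute.refl g).pow_right e).inv_right
    rw [hcomm.mul_pow, inv_pow, hs, ← pow_mul, mul_inv_eq_one, pow_eq_pow_iff_modEq, hn]
    have := (he1.mul_right' m)
    rw [one_mul] at this
    exact this.symm
  have hcN : g * s⁻¹ ∈ Subgroup.normalizer ((S : Subgroup G) : Set G) :=
    mul_mem hg (inv_mem hsN)
  have hccop : Nat.Coprime (orderOf (g * s⁻¹)) p :=
    Nat.Coprime.coprime_dvd_left (orderOf_dvd_of_pow_eq_one hcm)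
      ((Nat.Prime.coprime_iff_not_dvd hp).2 hm).symm
  refine ⟨s, hsS, fun x hx => ?_⟩
  have hx' : s * x * s⁻¹ ∈ (S : Subgroup G) := mul_mem (mul_mem hsS hx) (inv_mem hsS)
  have := hc _ hcN hccop _ hx'
  rw [← this]
  group

/-- an odd-order element normalizing a finite `2`-group `S` that has a cyclic subgroup `⟨r⟩` of
index at most two containing all elements of order at least `|r|` centralizes `S`. -/
theorem conj_eq_self_of_odd_of_cyclic_index_two [Finite G] {S : Subgroup G} (hS : IsPGroup 2 S)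
    {r : G} (hr : r ∈ S)
    (h1 : ∀ x ∈ S, x ∉ Subgroup.zpowers r → orderOf x < orderOf r)
    (h2 : ∀ x ∈ S, ∀ y ∈ S, x ∉ Subgroup.zpowers r → y ∉ Subgroup.zpowers r →
      x * y ∈ Subgroup.zpowers r)
    {g : G} (hg : g ∈ Subgroup.normalizer (S : Set G)) (hodd : Nat.Coprime (orderOf g) 2) :
    ∀ x ∈ S, g * x * g⁻¹ = x := by
  have h2elt : ∀ x ∈ S, ∃ k, orderOf x = 2 ^ k := by
    intro x hx
    obtain ⟨k, hk⟩ := (IsPGroup.iff_orderOf.mp hS) ⟨x, hx⟩
    exact ⟨k, (Subgroup.orderOf_coe (⟨x, hx⟩ : S)).trans hk⟩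
  have hconjS : ∀ x ∈ S, g * x * g⁻¹ ∈ S := fun x hx =>
    (Subgroup.mem_normalizer_iff.mp hg x).mp hx
  have hn : 0 < orderOf g := orderOf_pos g
  -- step 1: `g` centralizes `r`
  have hgr : g * r * g⁻¹ = r := by
    have hord : orderOf (g * r * g⁻¹) = orderOf r := (MulAut.conj g).orderOf_eq r
    have hmem : g * r * g⁻¹ ∈ Subgroup.zpowers r := by
      by_contra hcon
      have := h1 _ (hconjS r hr) hcon
      omega
    obtain ⟨j, hj⟩ := (Submonoid.mem_powers_iff _ _).mp (mem_powers_iff_mem_zpowers.mpr hmem)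
    have hpow : ∀ i : ℕ, g ^ i * r * (g ^ i)⁻¹ = r ^ (j ^ i) := by
      intro i
      induction i with
      | zero => simp
      | succ i ih =>
        have e : g ^ (i + 1) * r * (g ^ (i + 1))⁻¹ = g * (g ^ i * r * (g ^ i)⁻¹) * g⁻¹ := by
          rw [pow_succ']; group
        rw [e, ih, ← conj_pow, ← hj, ← pow_mul, pow_succ']
    have hjn : j ^ orderOf g ≡ 1 [MOD orderOf r] := by
      have := hpow (orderOf g)
      rw [pow_orderOf_eq_one] at this
      simp only [one_mul, inv_one, mul_one] at this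
      rw [← pow_eq_pow_iff_modEq, pow_one]
      exact this.symm
    obtain ⟨k, hk⟩ := h2elt r hr
    rw [hk] at hjn
    have hjcop : Nat.Coprime j (2 ^ k) := by
      apply Nat.coprime_of_mul_modEq_one (j ^ (orderOf g - 1))
      rw [← pow_succ', Nat.sub_add_cancel hn]
      exact hjn
    have hu1 : (ZMod.unitOfCoprime j hjcop) ^ orderOf g = 1 := by
      apply Units.ext
      rw [Units.val_pow_eq_pow_val, ZMod.coe_unitOfCoprime, Units.val_one, ← Nat.cast_pow,
        ← Nat.cast_one, ZMod.natCast_eq_natCast_iff]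
      exact hjn
    have hdvd : Nat.totient (2 ^ k) ∣ 2 ^ k := by
      rcases k with _ | k'
      · simp
      · rw [Nat.totient_prime_pow_succ Nat.prime_two]
        have : (2 : ℕ) - 1 = 1 := rfl
        rw [this, mul_one, pow_succ]
        exact Dvd.intro _ rfl
    have hu2 : (ZMod.unitOfCoprime j hjcop) ^ (2 ^ k) = 1 :=
      orderOf_dvd_iff_pow_eq_one.mp
        ((orderOf_dvd_of_pow_eq_one (ZMod.pow_totient (ZMod.unitOfCoprime j hjcop))).trans hdvd)
    have hu : ZMod.unitOfCoprime j hjcop = 1 := by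
      have h3 := pow_gcd_eq_one.mpr ⟨hu1, hu2⟩
      have h4 : Nat.gcd (orderOf g) (2 ^ k) = 1 := Nat.Coprime.pow_right k hodd
      rw [h4, pow_one] at h3
      exact h3
    have hj1 : j ≡ 1 [MOD 2 ^ k] := by
      have := congrArg Units.val hu
      rw [ZMod.coe_unitOfCoprime, Units.val_one, ← Nat.cast_one,
        ZMod.natCast_eq_natCast_iff] at this
      exact this
    rw [← hj]
    have : r ^ j = r ^ 1 := by
      rw [pow_eq_pow_iff_modEq, hk]
      exact hj1
    rw [this, pow_one]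
  -- step 2: `g` centralizes `⟨r⟩`
  have hgz : ∀ y ∈ Subgroup.zpowers r, g * y * g⁻¹ = y := by
    rintro _ ⟨i, rfl⟩
    show g * r ^ i * g⁻¹ = r ^ i
    rw [← conj_zpow, hgr]
  intro x hx
  by_cases hxz : x ∈ Subgroup.zpowers r
  · exact hgz x hxz
  · have hyS := hconjS x hx
    have hyz : g * x * g⁻¹ ∉ Subgroup.zpowers r := by
      intro hcon
      have := hgz _ hcon
      have e : x = g * x * g⁻¹ := by
        calc x = g⁻¹ * (g * x * g⁻¹) * g := by group
          _ = g⁻¹ * (g * (g * x * g⁻¹) * g⁻¹) * g := by rw [this]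
          _ = g * x * g⁻¹ := by group
      exact hxz (e ▸ hcon)
    have hxinv : x⁻¹ ∉ Subgroup.zpowers r := fun h => hxz (by simpa using inv_mem h)
    have hc := h2 _ hyS _ (inv_mem hx) hyz hxinv
    obtain ⟨c, hcdef⟩ : ∃ c, c = g * x * g⁻¹ * x⁻¹ := ⟨_, rfl⟩
    rw [← hcdef] at hc
    have hgc : g * c * g⁻¹ = c := hgz c hc
    have hgx : g * x * g⁻¹ = c * x := by rw [hcdef]; group
    have hpow : ∀ i : ℕ, g ^ i * x * (g ^ i)⁻¹ = c ^ i * x := by
      intro i
      induction i with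
      | zero => simp
      | succ i ih =>
        have e : g ^ (i + 1) * x * (g ^ (i + 1))⁻¹ = g * (g ^ i * x * (g ^ i)⁻¹) * g⁻¹ := by
          rw [pow_succ']; group
        rw [e, ih]
        have e2 : g * (c ^ i * x) * g⁻¹ = (g * c * g⁻¹) ^ i * (g * x * g⁻¹) := by
          rw [conj_pow]; group
        rw [e2, hgc, hgx, ← mul_assoc, ← pow_succ]
    have hcn : c ^ orderOf g = 1 := by
      have := hpow (orderOf g)
      rw [pow_orderOf_eq_one] at this
      simp only [one_mul, inv_one, mul_one] at this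
      exact (mul_eq_right).mp this.symm
    have hcS : c ∈ S := by
      rw [hcdef]; exact mul_mem hyS (inv_mem hx)
    obtain ⟨b, hb⟩ := h2elt c hcS
    have hdvd : 2 ^ b ∣ orderOf g := hb ▸ orderOf_dvd_of_pow_eq_one hcn
    have hone : 2 ^ b = 1 := Nat.Coprime.eq_one_of_dvd (Nat.Coprime.pow_left b hodd.symm) hdvd
    have hc1 : c = 1 := by
      rw [← orderOf_eq_one_iff, hb, hone]
    rw [hgx, hc1, one_mul]

/-- if all involutions of `G` are conjugate and the `2`-subgroup `S` is generated by its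
involutions, then a nontrivial subgroup of `S` closed under `G`-fusion in `S` is `S`. -/
theorem eq_of_closed_of_invol_conj {S : Subgroup G} (hS : IsPGroup 2 S)
    (hconj : ∀ x y : G, orderOf x = 2 → orderOf y = 2 → ∃ g : G, g * x * g⁻¹ = y)
    (hgen : S ≤ Subgroup.closure {x : G | x ∈ S ∧ orderOf x = 2})
    {T : Subgroup G} (hTS : T ≤ S) (hT1 : T ≠ ⊥)
    (hT : ∀ x ∈ T, ∀ g : G, g * x * g⁻¹ ∈ S → g * x * g⁻¹ ∈ T) : T = S := by
  apply le_antisymm hTS
  obtain ⟨y, hyT, hy1⟩ : ∃ y ∈ T, y ≠ 1 := by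
    by_contra hcon
    push Not at hcon
    exact hT1 ((Subgroup.eq_bot_iff_forall _).mpr hcon)
  obtain ⟨k, hk⟩ := (IsPGroup.iff_orderOf.mp hS) ⟨y, hTS hyT⟩
  have hk' : orderOf y = 2 ^ k := (Subgroup.orderOf_coe (⟨y, hTS hyT⟩ : S)).trans hk
  have hk0 : k ≠ 0 := by
    rintro rfl
    rw [pow_zero, orderOf_eq_one_iff] at hk'
    exact hy1 hk'
  obtain ⟨k', rfl⟩ : ∃ k', k = k' + 1 := ⟨k - 1, by omega⟩
  have ht2 : orderOf (y ^ 2 ^ k') = 2 := by
    rw [orderOf_eq_prime_iff]
    refine ⟨?_, ?_⟩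
    · rw [← pow_mul, ← pow_succ, ← hk', pow_orderOf_eq_one]
    · intro h
      have := orderOf_dvd_of_pow_eq_one h
      rw [hk'] at this
      have := Nat.le_of_dvd (by positivity) this
      have : 2 ^ k' < 2 ^ (k' + 1) := Nat.pow_lt_pow_right (by norm_num) (by omega)
      omega
  have htT : y ^ 2 ^ k' ∈ T := T.pow_mem hyT _
  refine hgen.trans ((Subgroup.closure_le _).2 ?_)
  rintro x ⟨hxS, hx2⟩
  obtain ⟨g, hg⟩ := hconj _ x ht2 hx2
  have := hT _ htT g (hg ▸ hxS)
  rw [hg] at this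
  exact this

end

/-- **Simplicity criterion, self-automizing form**: if no proper nontrivial subgroup of the Sylow
`p`-subgroup `S` is closed under `G`-fusion and every element of `N_G(S)` acts on `S` as an
element of `S`, then the fusion system of `G` on `S` is simple. -/
theorem groupFusionSystem_isSimple_of_inner {G : Type*} [Group G] [Finite G] (p : ℕ)
    [Fact p.Prime] (S : Sylow p G) (hS1 : (S : Subgroup G) ≠ ⊥)
    (ha : ∀ T : Subgroup G, T ≤ (S : Subgroup G) → T ≠ ⊥ →
      (∀ x ∈ T, ∀ g : G, g * x * g⁻¹ ∈ (S : Subgroup G) → g * x * g⁻¹ ∈ T) →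
      T = (S : Subgroup G))
    (hb : ∀ g ∈ Subgroup.normalizer ((S : Subgroup G) : Set G),
      ∃ s ∈ (S : Subgroup G), ∀ x ∈ (S : Subgroup G), g * x * g⁻¹ = s * x * s⁻¹) :
    (Cfsg.groupFusionSystem (S : Subgroup G)).IsSimple p := by
  have hSp : IsPGroup p (S : Subgroup G) := S.isPGroup'
  have hsat := groupFusionSystem_isSaturated S
  apply groupFusionSystem_isSimple_of p S hS1
  · intro T hT
    by_cases hT1 : T = ⊥
    · exact Or.inl hT1
    · right
      refine ha T hT.1 hT1 ?_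
      intro x hx g hgx
      -- conjugation by `g` on `⟨x⟩`
      have hzT : Subgroup.zpowers x ≤ T := (Subgroup.zpowers_le).mpr hx
      have hmem : conjHom (Subgroup.zpowers x) g ∈
          (groupFusionSystem (S : Subgroup G)).Hom (Subgroup.zpowers x) := by
        refine ⟨hzT.trans hT.1, ?_, g, fun y => rfl⟩
        rintro ⟨_, i, rfl⟩
        show g * x ^ i * g⁻¹ ∈ (S : Subgroup G)
        rw [← conj_zpow]
        exact Subgroup.zpow_mem _ hgx i
      exact hT.2 _ hzT _ hmem ⟨x, Subgroup.mem_zpowers x⟩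
  · apply le_antisymm
    · refine le_iSup₂_of_le (S : Subgroup G) ⟨?_, Helper84.top_radical hSp _ hsat,
        Helper84.top_centric _⟩ ?_
      · refine ⟨le_rfl, fun Q hQ => ?_⟩
        rw [Helper88.isConj_top_eq _ hQ]
      · unfold autInducedBy
        apply Subgroup.closure_mono
        rintro α ⟨g, -, hg⟩
        have hgN : g ∈ Subgroup.normalizer ((S : Subgroup G) : Set G) :=
          mem_normalizer_of_finite (fun x hx => by
            have := hg ⟨x, hx⟩
            rw [← this]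
            exact (α _).2)
        obtain ⟨s, hsS, hs⟩ := hb g hgN
        obtain ⟨k, hk⟩ := (IsPGroup.iff_orderOf.mp hSp) ⟨s, hsS⟩
        refine ⟨s, Subgroup.subset_closure ⟨Subgroup.le_normalizer hsS, k, ?_⟩, fun x => ?_⟩
        · exact (Subgroup.orderOf_coe (⟨s, hsS⟩ : (S : Subgroup G))).trans hk
        · rw [hg, hs _ x.2]
    · refine iSup₂_le fun R _ => ?_
      unfold autInducedBy
      apply Subgroup.closure_mono
      rintro α ⟨g, -, hg⟩
      exact ⟨g, Subgroup.mem_top g, hg⟩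

end Cfsg.Agent.Lib.Helper86
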