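import Mathlib
import Cfsg.Agent.Lib.Helper41.SL2Odd
import Cfsg.Agent.Lib.Helper5.PSL2
import Cfsg.Agent.Lib.Helper59.PSL2Char2
import Cfsg.Agent.Lib.Helper4.SylowTwo
import Cfsg.Agent.S0016
import Cfsg.Agent.Lib.Helper86.SimpleCrit

set_option autoImplicit false

namespace Cfsg.Agent.Lib.Helper86

open Matrix

/-! ### generalities on groups -/

section generic
variable {G : Type*} [Group G]

/-- a subgroup `C` such that products of two elements of `S` outside `C` lie in `C` has index
at most two in `S`. -/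
theorem card_le_two_mul_of_mul_mem {S C : Subgroup G} [Finite C]
    (h2 : ∀ x ∈ S, ∀ y ∈ S, x ∉ C → y ∉ C → x * y ∈ C) : Nat.card S ≤ 2 * Nat.card C := by
  classical
  by_cases h : ∃ t ∈ S, t ∉ C
  · obtain ⟨t, htS, htC⟩ := h
    let f : S → Bool × C := fun x =>
      if hx : (x : G) ∈ C then (true, ⟨x, hx⟩) else (false, ⟨x * t, h2 _ x.2 _ htS hx htC⟩)
    have hf : Function.Injective f := by
      intro x y hxy
      by_cases hx : (x : G) ∈ C <;> by_cases hy : (y : G) ∈ C
      · simp only [f, dif_pos hx, dif_pos hy] at hxy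
        exact Subtype.ext (congrArg (fun p : Bool × C => (p.2 : G)) hxy)
      · simp [f, dif_pos hx, dif_neg hy] at hxy
      · simp [f, dif_neg hx, dif_pos hy] at hxy
      · simp only [f, dif_neg hx, dif_neg hy] at hxy
        have := congrArg (fun p : Bool × C => (p.2 : G)) hxy
        exact Subtype.ext (mul_right_cancel this)
    have := Nat.card_le_card_of_injective f hf
    rw [Nat.card_prod, Nat.card_eq_fintype_card (α := Bool), Fintype.card_bool] at this
    exact this
  · push Not at h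
    have hle : S ≤ C := fun x hx => h x hx
    have := Subgroup.card_le_of_le hle
    omega

/-- a cyclic group has at most one element of order two. -/
theorem eq_of_orderOf_two_of_mem_zpowers [Finite G] {r x y : G} (hx : x ∈ Subgroup.zpowers r)
    (hy : y ∈ Subgroup.zpowers r) (hx2 : orderOf x = 2) (hy2 : orderOf y = 2) : x = y := by
  have hmem := Cfsg.Agent.S0016.mem_of_pow_card_eq_one (B := ↥(Subgroup.zpowers r))
    (Subgroup.zpowers (⟨x, hx⟩ : ↥(Subgroup.zpowers r))) ⟨y, hy⟩ (by
      rw [Nat.card_zpowers]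
      have e : orderOf (⟨x, hx⟩ : ↥(Subgroup.zpowers r)) = 2 := by
        rw [← hx2]; exact (Subgroup.orderOf_coe (⟨x, hx⟩ : ↥(Subgroup.zpowers r))).symm
      rw [e]
      apply Subtype.ext
      show y ^ 2 = 1
      rw [← hy2, pow_orderOf_eq_one])
  obtain ⟨i, hi⟩ := hmem
  have hi' : x ^ i = y := congrArg Subtype.val hi
  have h1 : x ^ (i % 2) = x ^ i := by
    have := zpow_mod_orderOf x i
    rw [hx2] at this
    exact_mod_cast this
  have h3 : i % 2 = 0 ∨ i % 2 = 1 := by omega
  rcases h3 with h3 | h3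
  · rw [h3, zpow_zero] at h1
    rw [← h1] at hi'
    rw [← hi', orderOf_one] at hy2
    omega
  · rw [h3, zpow_one] at h1
    rw [← hi', ← h1]

end generic

/-! ### `SL₂` and `PSL₂` over a field of odd characteristic -/

section sl2
variable {F : Type*} [Field F]

theorem psl_mk_eq_mk_iff (A B : Matrix.SpecialLinearGroup (Fin 2) F) :
    (QuotientGroup.mk A : Matrix.ProjectiveSpecialLinearGroup (Fin 2) F) = QuotientGroup.mk B ↔
      B.1 = A.1 ∨ B.1 = -A.1 := by
  constructor
  · intro h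
    rw [QuotientGroup.eq, Helper41.sl2_mem_center_iff] at h
    have e : B.1 = A.1 * (A⁻¹ * B).1 := by
      rw [← Matrix.SpecialLinearGroup.coe_mul, mul_inv_cancel_left]
    rcases h with h | h
    · left; rw [e, h, mul_one]
    · right; rw [e, h, mul_neg, mul_one]
  · rintro (h | h)
    · have : B = A := Subtype.ext h
      rw [this]
    · obtain ⟨T, hT, hmk⟩ := Helper41.exists_neg A
      have : B = T := Subtype.ext (h.trans hT.symm)
      rw [this, hmk]

theorem sl2_sq_of_trace_zero (A : Matrix.SpecialLinearGroup (Fin 2) F) (ht : A.1.trace = 0) :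
    A.1 * A.1 = -1 := by
  rw [Helper41.cayley2_det_one A.det_coe, ht, zero_smul, zero_sub]

theorem psl_mul_self_of_trace_zero (A : Matrix.SpecialLinearGroup (Fin 2) F)
    (ht : A.1.trace = 0) :
    (QuotientGroup.mk A : Matrix.ProjectiveSpecialLinearGroup (Fin 2) F) * QuotientGroup.mk A
      = 1 := by
  rw [← QuotientGroup.mk_mul, QuotientGroup.eq_one_iff, Helper41.sl2_mem_center_iff]
  right
  rw [Matrix.SpecialLinearGroup.coe_mul]
  exact sl2_sq_of_trace_zero A ht

theorem psl_mk_ne_one_of_trace_zero (h2 : (2 : F) ≠ 0) (A : Matrix.SpecialLinearGroup (Fin 2) F)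
    (ht : A.1.trace = 0) :
    (QuotientGroup.mk A : Matrix.ProjectiveSpecialLinearGroup (Fin 2) F) ≠ 1 := by
  intro h
  rw [QuotientGroup.eq_one_iff, Helper41.sl2_mem_center_iff] at h
  rcases h with h | h
  · rw [h] at ht
    simp at ht
    exact h2 ht
  · rw [h] at ht
    simp at ht
    exact h2 ht

theorem psl_orderOf_two_of_trace_zero (h2 : (2 : F) ≠ 0)
    (A : Matrix.SpecialLinearGroup (Fin 2) F) (ht : A.1.trace = 0) :
    orderOf (QuotientGroup.mk A : Matrix.ProjectiveSpecialLinearGroup (Fin 2) F) = 2 := by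
  rw [orderOf_eq_prime_iff]
  exact ⟨by rw [pow_two]; exact psl_mul_self_of_trace_zero A ht,
    psl_mk_ne_one_of_trace_zero h2 A ht⟩

/-- a lift of an involution of `PSL₂` has square `-1` and trace `0`. -/
theorem sl2_of_psl_orderOf_two (h2 : (2 : F) ≠ 0) (A : Matrix.SpecialLinearGroup (Fin 2) F)
    (h : orderOf (QuotientGroup.mk A : Matrix.ProjectiveSpecialLinearGroup (Fin 2) F) = 2) :
    A.1 * A.1 = -1 ∧ A.1.trace = 0 := by
  rw [orderOf_eq_prime_iff] at h
  obtain ⟨hsq, hne⟩ := h
  rw [Helper41.psl2_pow_eq_one_iff] at hsq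
  have e : (A ^ 2).1 = A.1 * A.1 := by rw [pow_two, Matrix.SpecialLinearGroup.coe_mul]
  rw [e] at hsq
  have hneg : A.1 * A.1 = -1 := by
    rcases hsq with hsq | hsq
    · exfalso
      apply hne
      rw [QuotientGroup.eq_one_iff, Helper41.sl2_mem_center_iff]
      exact Helper41.sl2_sq_eq_one h2 A hsq
    · exact hsq
  refine ⟨hneg, ?_⟩
  have hc := Helper41.cayley2_det_one A.det_coe
  rw [hneg] at hc
  have hz : A.1.trace • A.1 = 0 := by
    have : A.1.trace • A.1 = (A.1.trace • A.1 - 1) + 1 := by abel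
    rw [this, ← hc]; simp
  by_contra ht
  have hA : A.1 = 0 := by
    rcases smul_eq_zero.mp hz with h | h
    · exact absurd h ht
    · exact h
  have hdet := A.det_coe
  rw [hA] at hdet
  simp at hdet

theorem trace_eq_zero_of_anticomm (h2 : (2 : F) ≠ 0) (A Z : Matrix (Fin 2) (Fin 2) F)
    (hZ : Z * Z = -1) (h : Z * A = -(A * Z)) : A.trace = 0 := by
  have e : Z * A * Z = A := by
    calc Z * A * Z = -(A * Z) * Z := by rw [h]
      _ = -(A * (Z * Z)) := by rw [neg_mul, mul_assoc]
      _ = A := by rw [hZ]; simp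
  have e2 : (Z * A * Z).trace = -A.trace := by
    rw [Matrix.trace_mul_comm, ← mul_assoc, hZ]
    simp
  rw [e] at e2
  have : 2 * A.trace = 0 := by linear_combination e2
  rcases mul_eq_zero.mp this with h | h
  · exact absurd h h2
  · exact h

theorem not_isScalar2_of_sq (h2 : (2 : F) ≠ 0) (Z : Matrix.SpecialLinearGroup (Fin 2) F)
    (hZ : Z.1 * Z.1 = -1) : ¬ Helper59.IsScalar2 Z.1 := by
  rintro ⟨h01, h10, h00⟩
  have hdet := Z.det_coe
  rw [Matrix.det_fin_two, h01, ← h00] at hdet
  have h := congrFun (congrFun hZ 0) 0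
  simp only [Matrix.mul_apply, Fin.sum_univ_two, h01] at h
  simp at h
  apply h2
  linear_combination h - hdet

/-- all involutions of `PSL₂(F)`, `F` finite of odd order, are conjugate. -/
theorem psl_invol_conj [Fintype F] (h2 : (2 : F) ≠ 0)
    (x y : Matrix.ProjectiveSpecialLinearGroup (Fin 2) F) (hx : orderOf x = 2)
    (hy : orderOf y = 2) : ∃ g : Matrix.ProjectiveSpecialLinearGroup (Fin 2) F,
      g * x * g⁻¹ = y := by
  obtain ⟨A, rfl⟩ := QuotientGroup.mk_surjective x
  obtain ⟨B, rfl⟩ := QuotientGroup.mk_surjective y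
  obtain ⟨-, hA⟩ := sl2_of_psl_orderOf_two h2 A hx
  obtain ⟨-, hB⟩ := sl2_of_psl_orderOf_two h2 B hy
  have h4 : A.1.trace * A.1.trace ≠ 4 := by
    rw [hA]
    intro h
    apply h2
    have : (2 : F) * 2 = 0 := by linear_combination -h
    exact (mul_self_eq_zero.mp this)
  obtain ⟨P, hP⟩ := Helper41.conj_of_trace_eq h2 A B h4 (hB.trans hA.symm)
  refine ⟨QuotientGroup.mk P, ?_⟩
  rw [← hP]
  rfl

/-- `PSL₂(F)`, `F` finite of odd order, contains two distinct commuting involutions. -/
theorem psl_exists_klein [Fintype F] (h2 : (2 : F) ≠ 0) (hodd : Fintype.card F % 2 = 1) :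
    ∃ u v : Matrix.ProjectiveSpecialLinearGroup (Fin 2) F, orderOf u = 2 ∧ orderOf v = 2 ∧
      u ≠ v ∧ u * v = v * u := by
  obtain ⟨a, b, hab⟩ := FiniteField.exists_root_sum_quadratic (R := F)
    (f := Polynomial.X ^ 2) (g := Polynomial.X ^ 2 + Polynomial.C 1)
    (Polynomial.degree_X_pow 2) (Polynomial.degree_X_pow_add_C (by norm_num) 1) hodd
  simp only [Polynomial.eval_pow, Polynomial.eval_X, Polynomial.eval_add, Polynomial.eval_C]
    at hab
  let W : Matrix.SpecialLinearGroup (Fin 2) F := ⟨!![0, 1; -1, 0], by simp [Matrix.det_fin_two]⟩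
  let M : Matrix.SpecialLinearGroup (Fin 2) F := ⟨!![a, b; b, -a], by
    rw [Matrix.det_fin_two]; simp; linear_combination -hab⟩
  have hW : W.1.trace = 0 := by simp [W, Matrix.trace_fin_two]
  have hM : M.1.trace = 0 := by simp [M, Matrix.trace_fin_two]
  refine ⟨QuotientGroup.mk W, QuotientGroup.mk M, psl_orderOf_two_of_trace_zero h2 W hW,
    psl_orderOf_two_of_trace_zero h2 M hM, ?_, ?_⟩
  · intro h
    rw [psl_mk_eq_mk_iff] at h
    rcases h with h | h
    · have h00 := congrFun (congrFun h 0) 0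
      have h01 := congrFun (congrFun h 0) 1
      have h10 := congrFun (congrFun h 1) 0
      simp [M, W] at h00 h01 h10
      apply h2
      rw [h01] at h10
      linear_combination h10
    · have h00 := congrFun (congrFun h 0) 0
      have h01 := congrFun (congrFun h 0) 1
      have h10 := congrFun (congrFun h 1) 0
      simp [M, W] at h00 h01 h10
      apply h2
      rw [h10] at h01
      linear_combination h01
  · rw [← QuotientGroup.mk_mul, ← QuotientGroup.mk_mul, psl_mk_eq_mk_iff]
    right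
    rw [Matrix.SpecialLinearGroup.coe_mul, Matrix.SpecialLinearGroup.coe_mul]
    ext i j
    fin_cases i <;> fin_cases j <;> simp [M, W, Matrix.mul_apply, Fin.sum_univ_two]

/-- the intersection of a `2`-subgroup of `PSL₂(F)` with the image of the centralizer of an
element `Z` of `SL₂(F)` with `Z² = -1` is cyclic. -/
theorem psl_isCyclic_inf_torus [Fintype F] (h2 : (2 : F) ≠ 0)
    (S : Subgroup (Matrix.ProjectiveSpecialLinearGroup (Fin 2) F)) (hS : IsPGroup 2 S)
    (Z : Matrix.SpecialLinearGroup (Fin 2) F) (hZ : Z.1 * Z.1 = -1) :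
    IsCyclic ↥(S ⊓ (Subgroup.centralizer ({Z} : Set (Matrix.SpecialLinearGroup (Fin 2) F))).map
      (QuotientGroup.mk' (Subgroup.center (Matrix.SpecialLinearGroup (Fin 2) F)))) := by
  obtain ⟨H, hH⟩ : ∃ H : Subgroup (Matrix.SpecialLinearGroup (Fin 2) F),
      H = Subgroup.centralizer ({Z} : Set (Matrix.SpecialLinearGroup (Fin 2) F)) ⊓
        S.comap (QuotientGroup.mk' (Subgroup.center (Matrix.SpecialLinearGroup (Fin 2) F))) :=
    ⟨_, rfl⟩
  have hHc : ∀ A ∈ H, A.1 * Z.1 = Z.1 * A.1 := by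
    intro A hA
    rw [hH] at hA
    have := Subgroup.mem_centralizer_iff.mp hA.1 Z rfl
    rw [← Matrix.SpecialLinearGroup.coe_mul, ← Matrix.SpecialLinearGroup.coe_mul, this]
  have hHS : ∀ A ∈ H, (QuotientGroup.mk A : Matrix.ProjectiveSpecialLinearGroup (Fin 2) F) ∈ S := by
    intro A hA
    rw [hH] at hA
    exact hA.2
  have hHp : IsPGroup 2 H := by
    rintro ⟨A, hA⟩
    obtain ⟨k, hk⟩ := hS ⟨_, hHS A hA⟩
    have hk' : (QuotientGroup.mk A : Matrix.ProjectiveSpecialLinearGroup (Fin 2) F) ^ 2 ^ k = 1 :=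
      congrArg Subtype.val hk
    rw [Helper41.psl2_pow_eq_one_iff] at hk'
    refine ⟨k + 1, ?_⟩
    apply Subtype.ext
    apply Subtype.ext
    show (A ^ 2 ^ (k + 1)).1 = 1
    rw [pow_succ, pow_mul, pow_two, Matrix.SpecialLinearGroup.coe_mul]
    rcases hk' with h | h
    · rw [h, mul_one]
    · rw [h]; simp
  have hns := not_isScalar2_of_sq h2 Z hZ
  have hcomm : ∀ a b : H, a * b = b * a := by
    intro a b
    apply Subtype.ext
    apply Subtype.ext
    show (a.1 * b.1).1 = (b.1 * a.1).1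
    rw [Matrix.SpecialLinearGroup.coe_mul, Matrix.SpecialLinearGroup.coe_mul]
    exact Helper59.comm_trans2 a.1.1 Z.1 b.1.1 hns (hHc _ a.2) (hHc _ b.2)
  have hsq : ∀ w : H, w ^ 2 = 1 → w.1.1 = 1 ∨ w.1.1 = -1 := by
    intro w hw
    apply Helper41.sl2_sq_eq_one h2
    have : (w.1 ^ 2).1 = 1 := by
      have := congrArg (fun v : H => v.1.1) hw
      exact this
    rw [pow_two, Matrix.SpecialLinearGroup.coe_mul] at this
    exact this
  have hcyc : IsCyclic H := by
    apply Cfsg.Agent.S0016.isCyclic_of_unique (p := 2) hHp hcomm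
    intro x y hx1 hx2 hy2
    have hx' : x.1.1 = -1 := by
      rcases hsq x hx2 with h | h
      · exact absurd (Subtype.ext (Subtype.ext h)) hx1
      · exact h
    rcases hsq y hy2 with h | h
    · have : y = 1 := Subtype.ext (Subtype.ext h)
      rw [this]
      exact Subgroup.one_mem _
    · have : y = x := Subtype.ext (Subtype.ext (h.trans hx'.symm))
      rw [this]
      exact Subgroup.mem_zpowers x
  have heq : S ⊓ (Subgroup.centralizer ({Z} : Set (Matrix.SpecialLinearGroup (Fin 2) F))).map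
      (QuotientGroup.mk' (Subgroup.center (Matrix.SpecialLinearGroup (Fin 2) F))) =
      H.map (QuotientGroup.mk' (Subgroup.center (Matrix.SpecialLinearGroup (Fin 2) F))) := by
    ext x
    constructor
    · rintro ⟨hxS, A, hA, rfl⟩
      refine ⟨A, ?_, rfl⟩
      rw [hH]
      exact ⟨hA, hxS⟩
    · rintro ⟨A, hA, rfl⟩
      rw [hH] at hA
      exact ⟨hA.2, A, hA.1, rfl⟩
  rw [heq]
  exact isCyclic_of_surjective
    ((QuotientGroup.mk' (Subgroup.center (Matrix.SpecialLinearGroup (Fin 2) F))).subgroupMap H)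
    (MonoidHom.subgroupMap_surjective _ _)

/-- structure of a nontrivial `2`-subgroup `S` of `PSL₂(F)`, `F` finite of odd order: there is a
cyclic subgroup `⟨r⟩` of `S` outside which all elements are involutions, and the product of two
elements of `S` outside `⟨r⟩` lies in `⟨r⟩`. -/
theorem psl_two_subgroup_structure [Fintype F] (h2 : (2 : F) ≠ 0)
    (S : Subgroup (Matrix.ProjectiveSpecialLinearGroup (Fin 2) F)) (hS : IsPGroup 2 S)
    (hS1 : S ≠ ⊥) :
    ∃ r ∈ S, (∀ x ∈ S, x ∉ Subgroup.zpowers r → x * x = 1) ∧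
      (∀ x ∈ S, ∀ y ∈ S, x ∉ Subgroup.zpowers r → y ∉ Subgroup.zpowers r →
        x * y ∈ Subgroup.zpowers r) := by
  have : Nontrivial S := (Subgroup.nontrivial_iff_ne_bot _).mpr hS1
  have := hS.center_nontrivial
  have hcard : 2 ∣ Nat.card (Subgroup.center S) := by
    obtain ⟨k, hk⟩ := IsPGroup.iff_card.mp (hS.to_subgroup (Subgroup.center S))
    rw [hk]
    rcases Nat.eq_zero_or_pos k with h | h
    · exfalso
      rw [h, pow_zero] at hk
      have := Finite.one_lt_card (α := Subgroup.center S)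
      omega
    · exact dvd_pow_self 2 h.ne'
  obtain ⟨z0, hz0⟩ := exists_prime_orderOf_dvd_card' 2 hcard
  have hz2 : orderOf (((z0 : S) : Matrix.ProjectiveSpecialLinearGroup (Fin 2) F)) = 2 := by
    rw [Subgroup.orderOf_coe, Subgroup.orderOf_coe]; exact hz0
  have hzc : ∀ x ∈ S, x * ((z0 : S) : Matrix.ProjectiveSpecialLinearGroup (Fin 2) F)
      = ((z0 : S) : Matrix.ProjectiveSpecialLinearGroup (Fin 2) F) * x := by
    intro x hx
    have := Subgroup.mem_center_iff.mp z0.2 ⟨x, hx⟩
    exact congrArg Subtype.val this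
  obtain ⟨Z, hZ⟩ := QuotientGroup.mk_surjective
    (((z0 : S) : Matrix.ProjectiveSpecialLinearGroup (Fin 2) F))
  rw [← hZ] at hz2 hzc
  obtain ⟨hZsq, -⟩ := sl2_of_psl_orderOf_two h2 Z hz2
  have hcyc := psl_isCyclic_inf_torus h2 S hS Z hZsq
  obtain ⟨r, hr⟩ := (Subgroup.isCyclic_iff_exists_zpowers_eq_top _).mp hcyc
  have hrmem : r ∈ S ⊓ (Subgroup.centralizer ({Z} : Set (Matrix.SpecialLinearGroup (Fin 2) F))).map
      (QuotientGroup.mk' (Subgroup.center (Matrix.SpecialLinearGroup (Fin 2) F))) := by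
    rw [← hr]; exact Subgroup.mem_zpowers r
  -- lifts of elements of `S` commute or anticommute with `Z`
  have hlift : ∀ A : Matrix.SpecialLinearGroup (Fin 2) F,
      (QuotientGroup.mk A : Matrix.ProjectiveSpecialLinearGroup (Fin 2) F) ∈ S →
      (QuotientGroup.mk A : Matrix.ProjectiveSpecialLinearGroup (Fin 2) F) ∉ Subgroup.zpowers r →
      Z.1 * A.1 = -(A.1 * Z.1) := by
    intro A hAS hAr
    have h := hzc _ hAS
    rw [← QuotientGroup.mk_mul, ← QuotientGroup.mk_mul, psl_mk_eq_mk_iff,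
      Matrix.SpecialLinearGroup.coe_mul, Matrix.SpecialLinearGroup.coe_mul] at h
    rcases h with h | h
    · exfalso
      apply hAr
      rw [hr]
      refine ⟨hAS, Subgroup.mem_map_of_mem _ ?_⟩
      rw [Subgroup.mem_centralizer_iff]
      rintro _ rfl
      apply Subtype.ext
      rw [Matrix.SpecialLinearGroup.coe_mul, Matrix.SpecialLinearGroup.coe_mul]
      exact h
    · exact h
  refine ⟨r, hrmem.1, ?_, ?_⟩
  · intro x hxS hxr
    obtain ⟨A, rfl⟩ := QuotientGroup.mk_surjective x
    have h := hlift A hxS hxr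
    exact psl_mul_self_of_trace_zero A (trace_eq_zero_of_anticomm h2 A.1 Z.1 hZsq h)
  · intro x hxS y hyS hxr hyr
    obtain ⟨A, rfl⟩ := QuotientGroup.mk_surjective x
    obtain ⟨B, rfl⟩ := QuotientGroup.mk_surjective y
    have hA := hlift A hxS hxr
    have hB := hlift B hyS hyr
    rw [hr]
    refine ⟨S.mul_mem hxS hyS, Subgroup.mem_map_of_mem _ ?_⟩
    rw [Subgroup.mem_centralizer_iff]
    intro Z' hZ'
    rw [Set.mem_singleton_iff] at hZ'
    rw [hZ']
    apply Subtype.ext
    rw [Matrix.SpecialLinearGroup.coe_mul, Matrix.SpecialLinearGroup.coe_mul,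
      Matrix.SpecialLinearGroup.coe_mul]
    calc Z.1 * (A.1 * B.1) = (Z.1 * A.1) * B.1 := by rw [mul_assoc]
      _ = -(A.1 * Z.1) * B.1 := by rw [hA]
      _ = -(A.1 * (Z.1 * B.1)) := by rw [neg_mul, mul_assoc]
      _ = A.1 * B.1 * Z.1 := by rw [hB]; simp [mul_assoc]

/-- the data needed for simplicity of the `2`-fusion system of `PSL₂(q)`, `q` odd with
`16 ∣ q² - 1`. -/
theorem psl_sylow_data [Fintype F] (hodd : Fintype.card F % 2 = 1)
    (h16 : 16 ∣ Fintype.card F ^ 2 - 1)
    (S : Sylow 2 (Matrix.ProjectiveSpecialLinearGroup (Fin 2) F)) :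
    (S : Subgroup (Matrix.ProjectiveSpecialLinearGroup (Fin 2) F)) ≠ ⊥ ∧
    (S : Subgroup (Matrix.ProjectiveSpecialLinearGroup (Fin 2) F)) ≤
      Subgroup.closure {x | x ∈ (S : Subgroup (Matrix.ProjectiveSpecialLinearGroup (Fin 2) F)) ∧
        orderOf x = 2} ∧
    ∃ r ∈ (S : Subgroup (Matrix.ProjectiveSpecialLinearGroup (Fin 2) F)),
      (∀ x ∈ (S : Subgroup (Matrix.ProjectiveSpecialLinearGroup (Fin 2) F)),
        x ∉ Subgroup.zpowers r → orderOf x < orderOf r) ∧
      (∀ x ∈ (S : Subgroup (Matrix.ProjectiveSpecialLinearGroup (Fin 2) F)),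
        ∀ y ∈ (S : Subgroup (Matrix.ProjectiveSpecialLinearGroup (Fin 2) F)),
        x ∉ Subgroup.zpowers r → y ∉ Subgroup.zpowers r → x * y ∈ Subgroup.zpowers r) := by
  have h2 : (2 : F) ≠ 0 := Helper5.two_ne_zero_of_odd_card (Nat.odd_iff.mpr hodd)
  -- the order of `S`
  have hcardS : 8 ≤ Nat.card (S : Subgroup (Matrix.ProjectiveSpecialLinearGroup (Fin 2) F)) := by
    have h1 := Helper5.card_PSL_mul_card_center (Fin 2) F
    rw [Helper5.card_center_SL2_of_two_ne_zero h2, Helper5.card_SL2] at h1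
    have h8 : 2 ^ 3 ∣ Nat.card (Matrix.ProjectiveSpecialLinearGroup (Fin 2) F) := by
      have : 16 ∣ Nat.card (Matrix.ProjectiveSpecialLinearGroup (Fin 2) F) * 2 := by
        rw [h1]; exact Dvd.dvd.mul_left h16 _
      omega
    have := S.pow_dvd_card_of_pow_dvd_card h8
    exact Nat.le_of_dvd Nat.card_pos this
  have hS1 : (S : Subgroup (Matrix.ProjectiveSpecialLinearGroup (Fin 2) F)) ≠ ⊥ := by
    intro h
    rw [h, Subgroup.card_bot] at hcardS
    omega
  obtain ⟨r, hrS, hsq, hmul⟩ := psl_two_subgroup_structure h2 _ S.isPGroup' hS1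
  -- `S` is not cyclic
  obtain ⟨u, v, hu, hv, huv, hcomm⟩ := psl_exists_klein h2 hodd
  have hu1 : u * u = 1 := by
    have := pow_orderOf_eq_one u
    rw [hu, pow_two] at this
    exact this
  have hv1 : v * v = 1 := by
    have := pow_orderOf_eq_one v
    rw [hv, pow_two] at this
    exact this
  obtain ⟨h, hhu, hhv⟩ := Helper4.exists_conj_mem_sylow_two_pair S hu1 hv1 hcomm
  have hne : h * u * h⁻¹ ≠ h * v * h⁻¹ := by
    intro e
    exact huv (mul_left_cancel (mul_right_cancel e))
  obtain ⟨t, htS, htr⟩ : ∃ t ∈ (S : Subgroup (Matrix.ProjectiveSpecialLinearGroup (Fin 2) F)),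
      t ∉ Subgroup.zpowers r := by
    by_contra hcon
    push Not at hcon
    exact hne (eq_of_orderOf_two_of_mem_zpowers (hcon _ hhu) (hcon _ hhv)
      ((Helper4.orderOf_conj' h u).trans hu) ((Helper4.orderOf_conj' h v).trans hv))
  -- the order of `r`
  have hr4 : 4 ≤ orderOf r := by
    have := card_le_two_mul_of_mul_mem (C := Subgroup.zpowers r) hmul
    rw [Nat.card_zpowers] at this
    omega
  have hinv : ∀ x ∈ (S : Subgroup (Matrix.ProjectiveSpecialLinearGroup (Fin 2) F)),
      x ∉ Subgroup.zpowers r → orderOf x = 2 := by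
    intro x hxS hxr
    rw [orderOf_eq_prime_iff]
    refine ⟨by rw [pow_two]; exact hsq x hxS hxr, ?_⟩
    rintro rfl
    exact hxr (Subgroup.one_mem _)
  refine ⟨hS1, ?_, r, hrS, ?_, hmul⟩
  · intro x hxS
    by_cases hxr : x ∈ Subgroup.zpowers r
    · have hxt : x * t ∉ Subgroup.zpowers r := by
        intro hcon
        apply htr
        have := Subgroup.mul_mem _ (Subgroup.inv_mem _ hxr) hcon
        simpa using this
      have e : x = (x * t) * t⁻¹ := by group
      rw [e]
      exact Subgroup.mul_mem _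
        (Subgroup.subset_closure ⟨S.mul_mem hxS htS, hinv _ (S.mul_mem hxS htS) hxt⟩)
        (Subgroup.inv_mem _ (Subgroup.subset_closure ⟨htS, hinv t htS htr⟩))
    · exact Subgroup.subset_closure ⟨hxS, hinv x hxS hxr⟩
  · intro x hxS hxr
    rw [hinv x hxS hxr]
    omega

end sl2

end Cfsg.Agent.Lib.Helper86
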