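import Mathlib
import Cfsg.Prelude.Def_FusionSystem
import Cfsg.Agent.Lib.Helper4.SylowTwo
import Cfsg.Agent.Lib.Helper53.PGroups
import Cfsg.Agent.Lib.Helper86.SimpleCrit

set_option autoImplicit false

/-! # Simplicity of the `2`-fusion system from explicit data on one `2`-subgroup

Abstract glue: a subgroup `P ≤ M` of order the full power of two in `|M|`, with no proper
nontrivial strongly closed subgroup and self-normalizing in `M`, makes the `2`-fusion system of
`M` on every Sylow `2`-subgroup simple. Plus the counting tools used to certify the two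
hypotheses. -/

namespace Cfsg.Agent.Lib.Helper86

open Cfsg

section
variable {G : Type*} [Group G]

/-- `gs.length * |K| ≤ |H|` when the `gs` lie in `H` and lie in pairwise distinct cosets of
`K ≤ H`. -/
theorem length_mul_card_le (H K : Subgroup G) [Finite H] (hK : K ≤ H) (gs : List G)
    (hgs : ∀ g ∈ gs, g ∈ H) (hpw : gs.Pairwise (fun a b => a⁻¹ * b ∉ K)) :
    gs.length * Nat.card K ≤ Nat.card H := by
  have h1 := Subgroup.card_mul_index (K.subgroupOf H)
  have h2 : Nat.card (K.subgroupOf H) = Nat.card K :=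
    Nat.card_congr (Subgroup.subgroupOfEquivOfLe hK).toEquiv
  have h3 : gs.length ≤ (K.subgroupOf H).index := by
    let f : Fin gs.length → H ⧸ K.subgroupOf H := fun i =>
      QuotientGroup.mk ⟨gs[i], hgs _ (List.getElem_mem _)⟩
    have hf : Function.Injective f := by
      intro i j hij
      by_contra hne
      have key : ∀ i j : Fin gs.length, i < j → f i ≠ f j := by
        intro i j hlt he
        have h4 := QuotientGroup.eq.mp he
        rw [Subgroup.mem_subgroupOf] at h4
        have h5 := List.pairwise_iff_getElem.mp hpw i j i.2 j.2 hlt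
        exact h5 h4
      rcases lt_or_gt_of_ne hne with h | h
      · exact key i j h hij
      · exact key j i h hij.symm
    have := Nat.card_le_card_of_injective f hf
    rwa [Nat.card_fin] at this
  rw [h2] at h1
  calc gs.length * Nat.card K ≤ (K.subgroupOf H).index * Nat.card K :=
        Nat.mul_le_mul_right _ h3
    _ = Nat.card H := by rw [mul_comm, h1]

/-- transport of the simplicity criterion along Sylow conjugacy -/
theorem isSimple_of_sylow_data {H : Type*} [Group H] [Finite H] (P : Sylow 2 H)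
    (hP1 : (P : Subgroup H) ≠ ⊥)
    (ha : ∀ T : Subgroup H, T ≤ (P : Subgroup H) → T ≠ ⊥ →
      (∀ x ∈ T, ∀ g : H, g * x * g⁻¹ ∈ (P : Subgroup H) → g * x * g⁻¹ ∈ T) →
      T = (P : Subgroup H))
    (hb : ∀ g : H, (∀ x ∈ (P : Subgroup H), g * x * g⁻¹ ∈ (P : Subgroup H)) →
      g ∈ (P : Subgroup H))
    (S : Sylow 2 H) : (Cfsg.groupFusionSystem (S : Subgroup H)).IsSimple 2 := by
  obtain ⟨c, hc⟩ := MulAction.exists_smul_eq H P S
  have hmem : ∀ x : H, x ∈ (S : Subgroup H) ↔ c⁻¹ * x * c ∈ (P : Subgroup H) := by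
    intro x
    rw [← hc]
    exact Helper4.mem_sylow_smul_iff
  have e1 : ∀ x : H, c⁻¹ * (c * x * c⁻¹) * c = x := fun x => by group
  have e2 : ∀ x : H, c * (c⁻¹ * x * c) * c⁻¹ = x := fun x => by group
  apply groupFusionSystem_isSimple_of_inner 2 S
  · intro hbot
    apply hP1
    rw [Subgroup.eq_bot_iff_forall]
    intro x hx
    have h1 : c * x * c⁻¹ ∈ (S : Subgroup H) := by rw [hmem, e1]; exact hx
    rw [hbot, Subgroup.mem_bot] at h1
    have h2 := e1 x
    rw [h1] at h2
    rw [← h2]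
    group
  · intro T hTS hT1 hT
    let T' : Subgroup H := T.comap (MulAut.conj c).toMonoidHom
    have hT'mem : ∀ x, x ∈ T' ↔ c * x * c⁻¹ ∈ T := fun x => Iff.rfl
    have h1 : T' ≤ (P : Subgroup H) := by
      intro x hx
      have := hTS ((hT'mem x).1 hx)
      rwa [hmem, e1] at this
    have h2 : T' ≠ ⊥ := by
      intro hbot
      apply hT1
      rw [Subgroup.eq_bot_iff_forall]
      intro x hx
      have h3 : c⁻¹ * x * c ∈ T' := by rw [hT'mem, e2]; exact hx
      rw [hbot, Subgroup.mem_bot] at h3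
      have h4 := e2 x
      rw [h3] at h4
      rw [← h4]
      group
    have h3 : ∀ x ∈ T', ∀ g : H, g * x * g⁻¹ ∈ (P : Subgroup H) → g * x * g⁻¹ ∈ T' := by
      intro x hx g hg
      rw [hT'mem] at hx ⊢
      have e : c * (g * x * g⁻¹) * c⁻¹ = (c * g * c⁻¹) * (c * x * c⁻¹) * (c * g * c⁻¹)⁻¹ := by
        group
      rw [e]
      apply hT _ hx
      rw [← e, hmem, e1]
      exact hg
    have h4 := ha T' h1 h2 h3
    apply le_antisymm hTS
    intro x hx
    have h5 : c⁻¹ * x * c ∈ T' := by rw [h4]; exact (hmem x).1 hx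
    rw [hT'mem, e2] at h5
    exact h5
  · intro g hg
    refine ⟨g, ?_, fun x _ => rfl⟩
    rw [hmem]
    apply hb
    intro x hx
    have h1 : c * x * c⁻¹ ∈ (S : Subgroup H) := by rw [hmem, e1]; exact hx
    have h2 := (Subgroup.mem_normalizer_iff.mp hg (c * x * c⁻¹)).mp h1
    rw [hmem] at h2
    have e : c⁻¹ * (g * (c * x * c⁻¹) * g⁻¹) * c = c⁻¹ * g * c * x * (c⁻¹ * g * c)⁻¹ := by
      group
    rwa [e] at h2

/-- the criterion for a subgroup `M` of an ambient group, with data given in the ambient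
group -/
theorem isSimple_of_subgroup_data [Finite G] (M P : Subgroup G) (hPM : P ≤ M) (n m : ℕ)
    (hP : Nat.card P = 2 ^ n) (hM : Nat.card M = 2 ^ n * m) (hm : ¬ 2 ∣ m) (hn : n ≠ 0)
    (ha : ∀ T : Subgroup G, T ≤ P → T ≠ ⊥ →
      (∀ x ∈ T, ∀ g ∈ M, g * x * g⁻¹ ∈ P → g * x * g⁻¹ ∈ T) → T = P)
    (hb : ∀ g ∈ M, (∀ x ∈ P, g * x * g⁻¹ ∈ P) → g ∈ P)
    (S : Sylow 2 M) : (Cfsg.groupFusionSystem (S : Subgroup M)).IsSimple 2 := by
  have hcard : Nat.card (P.subgroupOf M) = 2 ^ n := by
    rw [Nat.card_congr (Subgroup.subgroupOfEquivOfLe hPM).toEquiv, hP]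
  have hm0 : m ≠ 0 := fun h => hm (h ▸ dvd_zero 2)
  have hfac : (Nat.card M).factorization 2 = n := by
    rw [hM, Nat.factorization_mul (by positivity) hm0, Nat.factorization_pow]
    simp [Nat.factorization_eq_zero_of_not_dvd hm, Nat.Prime.factorization_self Nat.prime_two]
  let P' : Sylow 2 M := Sylow.ofCard (P.subgroupOf M) (by rw [hcard, hfac])
  have hP' : ∀ x : M, x ∈ (P' : Subgroup M) ↔ (x : G) ∈ P := fun x => Subgroup.mem_subgroupOf
  apply isSimple_of_sylow_data P' ?_ ?_ ?_ S
  · intro hbot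
    have h1 : Nat.card (P' : Subgroup M) = 2 ^ n := hcard
    rw [hbot, Subgroup.card_bot] at h1
    have : 2 ^ 1 ≤ 2 ^ n := Nat.pow_le_pow_right (by norm_num) (Nat.one_le_iff_ne_zero.mpr hn)
    omega
  · intro T hTP hT1 hT
    have h1 : T.map M.subtype ≤ P := by
      rintro _ ⟨x, hx, rfl⟩
      exact (hP' x).1 (hTP hx)
    have h2 : T.map M.subtype ≠ ⊥ := by
      intro hbot
      apply hT1
      rw [Subgroup.eq_bot_iff_forall]
      intro x hx
      have : (x : G) ∈ T.map M.subtype := ⟨x, hx, rfl⟩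
      rw [hbot, Subgroup.mem_bot] at this
      exact Subtype.ext this
    have h3 := ha (T.map M.subtype) h1 h2 (by
      rintro _ ⟨x, hx, rfl⟩ g hg hgP
      have := hT x hx ⟨g, hg⟩ ((hP' _).2 hgP)
      exact ⟨_, this, rfl⟩)
    apply le_antisymm hTP
    intro x hx
    have h4 : (x : G) ∈ T.map M.subtype := by rw [h3]; exact (hP' x).1 hx
    obtain ⟨y, hy, hyx⟩ := h4
    have : y = x := Subtype.ext hyx
    rwa [← this]
  · intro g hg
    rw [hP']
    apply hb _ g.2
    intro x hx
    have := hg ⟨x, hPM hx⟩ ((hP' _).2 hx)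
    exact (hP' _).1 this

/-- a nontrivial subgroup of the `2`-group `P` closed under `M`-fusion contains the central
involution -/
theorem mem_of_closed_of_center [Finite G] {M P T : Subgroup G} (hPM : P ≤ M)
    (hP : IsPGroup 2 P) {z : G}
    (hz : ∀ x ∈ P, (∀ y ∈ P, y * x = x * y) → x = 1 ∨ x = z)
    (hTP : T ≤ P) (hT1 : T ≠ ⊥)
    (hT : ∀ x ∈ T, ∀ g ∈ M, g * x * g⁻¹ ∈ P → g * x * g⁻¹ ∈ T) : z ∈ T := by
  have : Fact (Nat.Prime 2) := ⟨Nat.prime_two⟩
  have hPN : P ≤ Subgroup.normalizer (T : Set G) := by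
    intro g hg
    rw [Subgroup.mem_normalizer_iff]
    intro x
    constructor
    · intro hx
      exact hT x hx g (hPM hg) (P.mul_mem (P.mul_mem hg (hTP hx)) (P.inv_mem hg))
    · intro hx
      have := hT _ hx g⁻¹ (hPM (P.inv_mem hg))
        (P.mul_mem (P.mul_mem (P.inv_mem hg) (hTP hx)) (P.inv_mem (P.inv_mem hg)))
      have e : g⁻¹ * (g * x * g⁻¹) * g⁻¹⁻¹ = x := by group
      rwa [e] at this
  obtain ⟨w, hwT, hw1, hwc⟩ := Helper53.exists_mem_center_of_normal_subgroup hP hTP hPN hT1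
  rcases hz w (hTP hwT) hwc with h | h
  · exact absurd h hw1
  · rw [← h]; exact hwT

/-- conjugation into a finite subgroup is onto: `g P g⁻¹ ⊆ P` gives `g ∈ N(P)` -/
theorem mem_normalizer_of_conj_mem {P : Subgroup G} [Finite P] {g : G}
    (hg : ∀ x ∈ P, g * x * g⁻¹ ∈ P) : g ∈ Subgroup.normalizer (P : Set G) := by
  rw [Subgroup.mem_normalizer_iff]
  intro x
  refine ⟨hg x, fun hx => ?_⟩
  let f : P → P := fun y => ⟨g * y * g⁻¹, hg y y.2⟩
  have hf : Function.Injective f := by
    intro a b hab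
    have := congrArg Subtype.val hab
    simp only [f] at this
    exact Subtype.ext (mul_left_cancel (mul_right_cancel this))
  obtain ⟨y, hy⟩ := (Finite.injective_iff_surjective.mp hf) ⟨g * x * g⁻¹, hx⟩
  have := congrArg Subtype.val hy
  simp only [f] at this
  have hxy : (y : G) = x := mul_left_cancel (mul_right_cancel this)
  rw [← hxy]
  exact y.2

/-- self-normalization in `M` by counting along
`M ≥ M ∩ Stab(O) ≥ M ∩ Stab(O) ∩ C(z) ≥ N_M(P)`, with lists of coset representatives -/
theorem self_normalizing_of_count [Finite G] {X : Type*} [MulAction G X] (M P : Subgroup G)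
    (hPM : P ≤ M) (O : X) (z : G) (hz1 : z ≠ 1) (hzP : z ∈ P)
    (hzc : ∀ y ∈ P, y * z = z * y)
    (hz : ∀ x ∈ P, (∀ y ∈ P, y * x = x * y) → x = 1 ∨ x = z)
    (hO : ∀ g : G, g * z = z * g → g • O = O)
    (gs1 gs2 gs3 : List G)
    (h1M : ∀ g ∈ gs1, g ∈ M) (h1 : (gs1.map (fun g => g • O)).Nodup)
    (h2M : ∀ g ∈ gs2, g ∈ M ∧ g • O = O) (h2 : (gs2.map (fun g => g * z * g⁻¹)).Nodup)
    (h3M : ∀ g ∈ gs3, g ∈ M ∧ g * z = z * g)
    (h3 : gs3.Pairwise (fun a b => ∃ y ∈ P, (a⁻¹ * b) * y * (a⁻¹ * b)⁻¹ ∉ P))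
    (hcount : Nat.card M ≤ gs1.length * gs2.length * gs3.length * Nat.card P) :
    ∀ g ∈ M, (∀ x ∈ P, g * x * g⁻¹ ∈ P) → g ∈ P := by
  let H1 : Subgroup G := M ⊓ MulAction.stabilizer G O
  let H2 : Subgroup G := H1 ⊓ Subgroup.centralizer {z}
  let N : Subgroup G := M ⊓ Subgroup.normalizer (P : Set G)
  have hcen : ∀ g : G, g ∈ Subgroup.centralizer {z} ↔ g * z = z * g := by
    intro g
    rw [Subgroup.mem_centralizer_iff]
    constructor
    · intro h; exact (h z rfl).symm
    · intro h y hy; rw [Set.mem_singleton_iff.mp hy]; exact h.symm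
  have hNH2 : N ≤ H2 := by
    intro g hg
    have hgM : g ∈ M := hg.1
    have hgN : g ∈ Subgroup.normalizer (P : Set G) := hg.2
    have hgz : g * z * g⁻¹ = z := by
      have h4 : g * z * g⁻¹ ∈ P := (Subgroup.mem_normalizer_iff.mp hgN z).mp hzP
      rcases hz _ h4 (by
        intro y hy
        have h5 : g⁻¹ * y * g ∈ P := by
          have := (Subgroup.mem_normalizer_iff.mp (Subgroup.inv_mem _ hgN) y).mp hy
          rwa [inv_inv] at this
        have h6 := hzc _ h5
        calc y * (g * z * g⁻¹) = g * ((g⁻¹ * y * g) * z) * g⁻¹ := by group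
          _ = g * (z * (g⁻¹ * y * g)) * g⁻¹ := by rw [h6]
          _ = g * z * g⁻¹ * y := by group) with h | h
      · exfalso
        apply hz1
        have : z = g⁻¹ * (g * z * g⁻¹) * g := by group
        rw [this, h]; group
      · exact h
    have hgz' : g * z = z * g := by
      calc g * z = g * z * g⁻¹ * g := by group
        _ = z * g := by rw [hgz]
    exact ⟨⟨hgM, MulAction.mem_stabilizer_iff.mpr (hO g hgz')⟩, (hcen g).mpr hgz'⟩
  have c1 : gs1.length * Nat.card H1 ≤ Nat.card M := by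
    apply length_mul_card_le M H1 inf_le_left gs1 h1M
    have := List.pairwise_map.mp h1
    refine this.imp ?_
    intro a b hab hmem
    apply hab
    have h4 : (a⁻¹ * b) • O = O := MulAction.mem_stabilizer_iff.mp hmem.2
    rw [mul_smul, inv_smul_eq_iff] at h4
    exact h4.symm
  have c2 : gs2.length * Nat.card H2 ≤ Nat.card H1 := by
    apply length_mul_card_le H1 H2 inf_le_left gs2
      (fun g hg => ⟨(h2M g hg).1, MulAction.mem_stabilizer_iff.mpr (h2M g hg).2⟩)
    have := List.pairwise_map.mp h2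
    refine this.imp ?_
    intro a b hab hmem
    apply hab
    have h4 : a⁻¹ * b * z = z * (a⁻¹ * b) := (hcen _).mp hmem.2
    calc a * z * a⁻¹ = a * (z * (a⁻¹ * b)) * b⁻¹ := by group
      _ = a * (a⁻¹ * b * z) * b⁻¹ := by rw [h4]
      _ = b * z * b⁻¹ := by group
  have c3 : gs3.length * Nat.card N ≤ Nat.card H2 := by
    apply length_mul_card_le H2 N hNH2 gs3
      (fun g hg => ⟨⟨(h3M g hg).1, MulAction.mem_stabilizer_iff.mpr (hO g (h3M g hg).2)⟩,
        (hcen g).mpr (h3M g hg).2⟩)
    refine h3.imp ?_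
    rintro a b ⟨y, hy, hny⟩ hmem
    exact hny ((Subgroup.mem_normalizer_iff.mp hmem.2 y).mp hy)
  have hPN : P ≤ N := fun x hx => ⟨hPM hx, Subgroup.le_normalizer hx⟩
  have hposP : 0 < Nat.card P := Nat.card_pos
  have hposM : 0 < Nat.card M := Nat.card_pos
  have hl : 0 < gs1.length * gs2.length * gs3.length := by
    by_contra hcon
    have : gs1.length * gs2.length * gs3.length = 0 := by omega
    rw [this, zero_mul] at hcount
    omega
  have hNP : Nat.card N ≤ Nat.card P := by
    have h5 : gs1.length * gs2.length * gs3.length * Nat.card N ≤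
        gs1.length * gs2.length * gs3.length * Nat.card P := by
      calc gs1.length * gs2.length * gs3.length * Nat.card N
          = gs1.length * (gs2.length * (gs3.length * Nat.card N)) := by ring
        _ ≤ gs1.length * (gs2.length * Nat.card H2) :=
          Nat.mul_le_mul_left _ (Nat.mul_le_mul_left _ c3)
        _ ≤ gs1.length * Nat.card H1 := Nat.mul_le_mul_left _ c2
        _ ≤ Nat.card M := c1
        _ ≤ _ := hcount
    exact Nat.le_of_mul_le_mul_left h5 hl
  have hEq : P = N := Subgroup.eq_of_le_of_card_ge hPN hNP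
  intro g hgM hg
  rw [hEq]
  exact ⟨hgM, mem_normalizer_of_conj_mem hg⟩

end

end Cfsg.Agent.Lib.Helper86
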