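import Mathlib

set_option autoImplicit false
set_option linter.style.haveILetI false
set_option linter.unusedSectionVars false
set_option linter.dupNamespace false
set_option linter.unusedVariables false

/-! # `2`-groups with an abelian subgroup of index two: fusion lemmas

Generic lemmas on a subgroup `S = A ∪ A t` (`t` an involution normalizing `A`) of a group `H`:
strongly closed subgroups and automorphisms of odd order, for the wreathed and the
semidihedral/dihedral type situations. -/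

namespace Cfsg.Agent.Lib.Helper86.Idx2

variable {H : Type*} [Group H]

theorem inv_of_sq {t : H} (ht : t * t = 1) : t⁻¹ = t := inv_eq_of_mul_eq_one_left ht

/-- the subgroup `A ∪ A t` -/
def ext2 (A : Subgroup H) (t : H) (ht : t * t = 1) (hA : ∀ a ∈ A, t * a * t ∈ A) : Subgroup H where
  carrier := {x | x ∈ A ∨ x * t ∈ A}
  one_mem' := Or.inl A.one_mem
  mul_mem' := by
    rintro x y (hx | hx) (hy | hy)
    · exact Or.inl (A.mul_mem hx hy)
    · right
      show x * y * t ∈ A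
      rw [mul_assoc]
      exact A.mul_mem hx hy
    · right
      show x * y * t ∈ A
      have e : x * y * t = (x * t) * (t * y * t) := by
        calc x * y * t = x * (t * t) * y * t := by rw [ht, mul_one]
          _ = (x * t) * (t * y * t) := by group
      rw [e]
      exact A.mul_mem hx (hA y hy)
    · left
      show x * y ∈ A
      have e : x * y = (x * t) * (t * (y * t) * t) := by
        calc x * y = x * (t * t) * y * (t * t) := by rw [ht, mul_one, mul_one]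
          _ = (x * t) * (t * (y * t) * t) := by group
      rw [e]
      exact A.mul_mem hx (hA _ hy)
  inv_mem' := by
    rintro x (hx | hx)
    · exact Or.inl (A.inv_mem hx)
    · right
      show x⁻¹ * t ∈ A
      have e : x⁻¹ * t = t * (x * t)⁻¹ * t := by
        rw [_root_.mul_inv_rev, inv_of_sq ht]
        calc x⁻¹ * t = (t * t) * x⁻¹ * t := by rw [ht, one_mul]
          _ = t * (t * x⁻¹) * t := by group
      rw [e]
      exact hA _ (A.inv_mem hx)

theorem mem_ext2 {A : Subgroup H} {t : H} {ht : t * t = 1} {hA : ∀ a ∈ A, t * a * t ∈ A} {x : H} :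
    x ∈ ext2 A t ht hA ↔ x ∈ A ∨ x * t ∈ A := Iff.rfl

theorem le_ext2 {A : Subgroup H} {t : H} {ht : t * t = 1} {hA : ∀ a ∈ A, t * a * t ∈ A} :
    A ≤ ext2 A t ht hA := fun x hx => Or.inl hx

theorem t_mem_ext2 {A : Subgroup H} {t : H} {ht : t * t = 1} {hA : ∀ a ∈ A, t * a * t ∈ A} :
    t ∈ ext2 A t ht hA := Or.inr (by rw [ht]; exact A.one_mem)

theorem card_ext2 {A : Subgroup H} {t : H} {ht : t * t = 1} {hA : ∀ a ∈ A, t * a * t ∈ A}
    (htA : t ∉ A) : Nat.card (ext2 A t ht hA) = Nat.card A * 2 := by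
  have h2 : A.relIndex (ext2 A t ht hA) = 2 := by
    rw [Subgroup.relIndex_eq_two_iff]
    refine ⟨t, t_mem_ext2, fun b hb => ?_⟩
    rcases hb with hb | hb
    · refine Or.inr ⟨hb, fun h => htA ?_⟩
      have := A.mul_mem (A.inv_mem hb) h
      rwa [inv_mul_cancel_left] at this
    · refine Or.inl ⟨hb, fun h => htA ?_⟩
      have := A.mul_mem (A.inv_mem h) hb
      rwa [inv_mul_cancel_left] at this
  have h := Subgroup.relIndex_mul_relIndex (H := ⊥) (K := A) (L := ext2 A t ht hA) bot_le le_ext2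
  rw [Subgroup.relIndex_bot_left, Subgroup.relIndex_bot_left, h2] at h
  exact h.symm

theorem pow_ext2 {A : Subgroup H} {t : H} {ht : t * t = 1} {hA : ∀ a ∈ A, t * a * t ∈ A}
    (hA2 : ∀ a ∈ A, ∃ n : ℕ, a ^ (2 ^ n) = 1) :
    ∀ x ∈ ext2 A t ht hA, ∃ n : ℕ, x ^ (2 ^ n) = 1 := by
  rintro x (hx | hx)
  · exact hA2 x hx
  · have hxx : x * x ∈ A := by
      have e : x * x = (x * t) * (t * (x * t) * t) := by
        calc x * x = x * (t * t) * x * (t * t) := by rw [ht, mul_one, mul_one]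
          _ = (x * t) * (t * (x * t) * t) := by group
      rw [e]
      exact A.mul_mem hx (hA _ hx)
    obtain ⟨n, hn⟩ := hA2 _ hxx
    refine ⟨n + 1, ?_⟩
    rw [pow_succ', pow_mul, pow_two]
    exact hn

theorem isPGroup_of_pow {S : Subgroup H} (h : ∀ x ∈ S, ∃ n : ℕ, x ^ (2 ^ n) = 1) :
    IsPGroup 2 S := fun x => by
  obtain ⟨n, hn⟩ := h x x.2
  exact ⟨n, Subtype.ext (by rw [Subgroup.coe_pow]; exact hn)⟩

/-- a subgroup of `2`-power order at least the `2`-part of the order of the group has odd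
index -/
theorem not_dvd_index_of_card [Finite H] {S : Subgroup H} (hS : IsPGroup 2 S) {e r : ℕ}
    (hcard : 2 ^ e ≤ Nat.card S) (hH : Nat.card H = 2 ^ e * r) (hr : r % 2 = 1) :
    ¬ 2 ∣ S.index := by
  obtain ⟨j, hj⟩ := (IsPGroup.iff_card (p := 2)).1 hS
  have hej : e ≤ j := by
    by_contra hcon
    push Not at hcon
    have : 2 ^ j < 2 ^ e := Nat.pow_lt_pow_right (by norm_num) hcon
    omega
  have h1 := S.index_mul_card
  rw [hj, hH] at h1
  obtain ⟨i, rfl⟩ : ∃ i, j = e + i := ⟨j - e, by omega⟩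
  have h2 : S.index * 2 ^ i = r := by
    have h3 : 2 ^ e * (S.index * 2 ^ i) = 2 ^ e * r := by rw [← h1, pow_add]; ring
    exact Nat.eq_of_mul_eq_mul_left (by positivity) h3
  intro hdvd
  have : 2 ∣ r := by rw [← h2]; exact Dvd.dvd.mul_right hdvd _
  omega

/-- a nontrivial subgroup of a `2`-group contains an involution -/
theorem exists_invol {S T : Subgroup H} (hS : ∀ x ∈ S, ∃ n : ℕ, x ^ (2 ^ n) = 1) (hTS : T ≤ S)
    (hT1 : T ≠ ⊥) : ∃ y ∈ T, y * y = 1 ∧ y ≠ 1 := by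
  obtain ⟨y, hyT, hy1⟩ : ∃ y ∈ T, y ≠ 1 := by
    by_contra hcon
    push Not at hcon
    exact hT1 ((Subgroup.eq_bot_iff_forall _).mpr hcon)
  obtain ⟨n, hn⟩ := hS y (hTS hyT)
  have key : ∀ n : ℕ, ∀ y ∈ T, y ≠ 1 → y ^ (2 ^ n) = 1 → ∃ y ∈ T, y * y = 1 ∧ y ≠ 1 := by
    intro n
    induction n with
    | zero =>
      intro y _ hy1 hy
      rw [pow_zero, pow_one] at hy
      exact absurd hy hy1
    | succ n ih =>
      intro y hyT hy1 hy
      by_cases h : y * y = 1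
      · exact ⟨y, hyT, h, hy1⟩
      · apply ih (y * y) (T.mul_mem hyT hyT) h
        rw [← pow_two, ← pow_mul, ← pow_succ']
        exact hy
  exact key n y hyT hy1 hn

/-- an element of odd order that moves `x` by an element `y` of `2`-power order which it
centralizes fixes `x` -/
theorem odd_fix {g x y : H} (hodd : Nat.Coprime (orderOf g) 2) (h1 : g * x * g⁻¹ = y * x)
    (h2 : g * y * g⁻¹ = y) {n : ℕ} (hy : y ^ (2 ^ n) = 1) : y = 1 := by
  have key : ∀ j : ℕ, g ^ j * x * (g ^ j)⁻¹ = y ^ j * x := by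
    intro j
    induction j with
    | zero => simp
    | succ j ih =>
      have e : g ^ (j + 1) * x * (g ^ (j + 1))⁻¹ = g * (g ^ j * x * (g ^ j)⁻¹) * g⁻¹ := by
        rw [pow_succ']; group
      have hyj : g * y ^ j * g⁻¹ = y ^ j := by rw [← conj_pow, h2]
      rw [e, ih]
      calc g * (y ^ j * x) * g⁻¹ = (g * y ^ j * g⁻¹) * (g * x * g⁻¹) := by group
        _ = y ^ (j + 1) * x := by rw [hyj, h1, ← mul_assoc, ← pow_succ]
  have h3 := key (orderOf g)
  rw [pow_orderOf_eq_one, one_mul, inv_one, mul_one] at h3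
  have h4 : y ^ orderOf g = 1 := by
    have := mul_right_cancel (a := y ^ orderOf g) (b := x) (c := 1) (by rw [one_mul]; exact h3.symm)
    exact this
  have h5 := pow_gcd_eq_one.2 ⟨h4, hy⟩
  have h6 : Nat.gcd (orderOf g) (2 ^ n) = 1 := Nat.Coprime.pow_right n hodd
  rw [h6, pow_one] at h5
  exact h5

/-- an element of odd order normalizing an abelian `2`-group and centralizing its involutions
centralizes it -/
theorem centralize_abelian_of_invol {A : Subgroup H} (hAc : ∀ x ∈ A, ∀ y ∈ A, x * y = y * x)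
    (hA2 : ∀ x ∈ A, ∃ n : ℕ, x ^ (2 ^ n) = 1) {g : H} (hg : ∀ x ∈ A, g * x * g⁻¹ ∈ A)
    (hodd : Nat.Coprime (orderOf g) 2) (hinv : ∀ x ∈ A, x * x = 1 → g * x * g⁻¹ = x) :
    ∀ x ∈ A, g * x * g⁻¹ = x := by
  have key : ∀ n : ℕ, ∀ x ∈ A, x ^ (2 ^ n) = 1 → g * x * g⁻¹ = x := by
    intro n
    induction n with
    | zero =>
      intro x _ hx
      rw [pow_zero, pow_one] at hx
      rw [hx, mul_one, mul_inv_cancel]
    | succ n ih =>
      intro x hx hxn
      have hxx : g * (x * x) * g⁻¹ = x * x := by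
        apply ih _ (A.mul_mem hx hx)
        rw [← pow_two, ← pow_mul, ← pow_succ']
        exact hxn
      have hgx := hg x hx
      have hy : g * x * g⁻¹ * x⁻¹ ∈ A := A.mul_mem hgx (A.inv_mem hx)
      have hc := hAc _ hgx _ (A.inv_mem hx)
      have hyy : (g * x * g⁻¹ * x⁻¹) * (g * x * g⁻¹ * x⁻¹) = 1 := by
        calc (g * x * g⁻¹ * x⁻¹) * (g * x * g⁻¹ * x⁻¹)
            = (g * x * g⁻¹) * (x⁻¹ * (g * x * g⁻¹)) * x⁻¹ := by group
          _ = (g * x * g⁻¹) * ((g * x * g⁻¹) * x⁻¹) * x⁻¹ := by rw [hc]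
          _ = (g * (x * x) * g⁻¹) * (x * x)⁻¹ := by group
          _ = 1 := by rw [hxx, mul_inv_cancel]
      have h1 : g * x * g⁻¹ = (g * x * g⁻¹ * x⁻¹) * x := by group
      have h2 := hinv _ hy hyy
      have h3 := odd_fix hodd h1 h2 (n := 1) (by rw [pow_one, pow_two]; exact hyy)
      rw [h1, h3, one_mul]
  intro x hx
  obtain ⟨n, hn⟩ := hA2 x hx
  exact key n x hx hn

/-! ### strongly closed subgroups -/

section Closed

variable {A S T : Subgroup H}

/-- all involutions of `S` lie in a nontrivial strongly closed subgroup, if they are all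
conjugate -/
theorem invol_mem_of_closed (hS2 : ∀ x ∈ S, ∃ n : ℕ, x ^ (2 ^ n) = 1) {z₀ : H} (hz₀ : z₀ ∈ S)
    (hinv : ∀ x ∈ S, x * x = 1 → x ≠ 1 → ∃ g : H, g * x * g⁻¹ = z₀)
    (hTS : T ≤ S) (hT1 : T ≠ ⊥)
    (hT : ∀ x ∈ T, ∀ g : H, g * x * g⁻¹ ∈ S → g * x * g⁻¹ ∈ T) :
    ∀ x ∈ S, x * x = 1 → x ≠ 1 → x ∈ T := by
  obtain ⟨y, hyT, hy2, hy1⟩ := exists_invol hS2 hTS hT1
  obtain ⟨g, hg⟩ := hinv y (hTS hyT) hy2 hy1
  have hz₀T : z₀ ∈ T := by
    have := hT y hyT g (by rw [hg]; exact hz₀)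
    rwa [hg] at this
  intro x hx hx2 hx1
  obtain ⟨g', hg'⟩ := hinv x hx hx2 hx1
  have e : g'⁻¹ * z₀ * g'⁻¹⁻¹ = x := by rw [← hg']; group
  have := hT z₀ hz₀T g'⁻¹ (by rw [e]; exact hx)
  rwa [e] at this

/-- strongly closed subgroups, semidihedral type: the involutions of `S = A ∪ A f` are
conjugate, and an element of `A` is conjugate to an element `c f` of order four -/
theorem sd_closed {f z₀ c x₄ g₄ : H}
    (hS : ∀ x, x ∈ S ↔ x ∈ A ∨ x * f ∈ A) (hS2 : ∀ x ∈ S, ∃ n : ℕ, x ^ (2 ^ n) = 1)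
    (hf : f * f = 1) (hfA : f ∉ A) (hz₀ : z₀ ∈ S)
    (hinv : ∀ x ∈ S, x * x = 1 → x ≠ 1 → ∃ g : H, g * x * g⁻¹ = z₀)
    (hc : c ∈ A) (hx₄ : x₄ ∈ A) (hx₄f : (x₄ * f) * (x₄ * f) = 1) (hg₄ : g₄ * x₄ * g₄⁻¹ = c * f)
    (hsq : ∀ x ∈ A, (x * f) * (x * f) = 1 ∨ (c⁻¹ * x * f) * (c⁻¹ * x * f) = 1)
    (hTS : T ≤ S) (hT1 : T ≠ ⊥)
    (hT : ∀ x ∈ T, ∀ g : H, g * x * g⁻¹ ∈ S → g * x * g⁻¹ ∈ T) : T = S := by
  have hall := invol_mem_of_closed hS2 hz₀ hinv hTS hT1 hT
  have hAf : ∀ x ∈ A, x * f ∈ S := fun x hx =>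
    (hS _).2 (Or.inr (by rw [mul_assoc, hf, mul_one]; exact hx))
  have hAfne : ∀ x ∈ A, x * f ≠ 1 := by
    intro x hx h
    apply hfA
    have : f = x⁻¹ := eq_inv_of_mul_eq_one_right h
    rw [this]
    exact A.inv_mem hx
  have hfT : f ∈ T := by
    have := hall (1 * f) (hAf 1 A.one_mem) (by rw [one_mul]; exact hf) (hAfne 1 A.one_mem)
    rwa [one_mul] at this
  have hK : ∀ x ∈ A, (x * f) * (x * f) = 1 → x ∈ T := by
    intro x hx h
    have h1 := hall _ (hAf x hx) h (hAfne x hx)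
    have h2 := T.mul_mem h1 hfT
    rwa [mul_assoc, hf, mul_one] at h2
  have hcT : c ∈ T := by
    have h1 := hK x₄ hx₄ hx₄f
    have h2 := hT x₄ h1 g₄ (by rw [hg₄]; exact hAf c hc)
    rw [hg₄] at h2
    have h3 := T.mul_mem h2 hfT
    rwa [mul_assoc, hf, mul_one] at h3
  have hAT : A ≤ T := by
    intro x hx
    rcases hsq x hx with h | h
    · exact hK x hx h
    · have h1 := hK (c⁻¹ * x) (A.mul_mem (A.inv_mem hc) hx) h
      have h2 := T.mul_mem hcT h1
      rwa [mul_inv_cancel_left] at h2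
  apply le_antisymm hTS
  intro x hx
  rcases (hS x).1 hx with h | h
  · exact hAT h
  · have h1 := T.mul_mem (hAT h) hfT
    rwa [mul_assoc, hf, mul_one] at h1

end Closed

/-! ### the wreathed case -/

section Wreath

variable {M : Type*} [CommGroup M] {A S T : Subgroup H} {d : M → M → H} {t : H}

/-- strongly closed subgroups, wreathed type -/
theorem wreath_closed {w z₀ : H}
    (hA : ∀ x, x ∈ A ↔ ∃ a b, x = d a b)
    (hS : ∀ x, x ∈ S ↔ x ∈ A ∨ x * t ∈ A) (hS2 : ∀ x ∈ S, ∃ n : ℕ, x ^ (2 ^ n) = 1)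
    (hd_mul : ∀ a b a' b', d a b * d a' b' = d (a * a') (b * b'))
    (hd_one : d 1 1 = 1)
    (ht : t * t = 1) (htd : ∀ a b, t * d a b * t = d b a) (htA : t ∉ A)
    (hw : ∀ a, w * d a a⁻¹ * w⁻¹ = d a 1)
    (hz₀ : z₀ ∈ S)
    (hinv : ∀ x ∈ S, x * x = 1 → x ≠ 1 → ∃ g : H, g * x * g⁻¹ = z₀)
    (hTS : T ≤ S) (hT1 : T ≠ ⊥)
    (hT : ∀ x ∈ T, ∀ g : H, g * x * g⁻¹ ∈ S → g * x * g⁻¹ ∈ T) : T = S := by
  have hall := invol_mem_of_closed hS2 hz₀ hinv hTS hT1 hT
  have hdA : ∀ a b, d a b ∈ A := fun a b => (hA _).2 ⟨a, b, rfl⟩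
  have hAS : A ≤ S := fun x hx => (hS x).2 (Or.inl hx)
  have hAt : ∀ x ∈ A, x * t ∈ S := fun x hx =>
    (hS _).2 (Or.inr (by rw [mul_assoc, ht, mul_one]; exact hx))
  have hAtne : ∀ x ∈ A, x * t ≠ 1 := by
    intro x hx h
    apply htA
    have : t = x⁻¹ := eq_inv_of_mul_eq_one_right h
    rw [this]
    exact A.inv_mem hx
  have htT : t ∈ T := by
    have := hall (1 * t) (hAt 1 A.one_mem) (by rw [one_mul]; exact ht) (hAtne 1 A.one_mem)
    rwa [one_mul] at this
  have h1 : ∀ a, d a a⁻¹ ∈ T := by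
    intro a
    have hsq : (d a a⁻¹ * t) * (d a a⁻¹ * t) = 1 := by
      calc (d a a⁻¹ * t) * (d a a⁻¹ * t) = d a a⁻¹ * (t * d a a⁻¹ * t) := by group
        _ = 1 := by rw [htd, hd_mul, mul_inv_cancel, inv_mul_cancel, hd_one]
    have h2 := hall _ (hAt _ (hdA a a⁻¹)) hsq (hAtne _ (hdA a a⁻¹))
    have h3 := T.mul_mem h2 htT
    rwa [mul_assoc, ht, mul_one] at h3
  have h2 : ∀ a, d a 1 ∈ T := by
    intro a
    have := hT _ (h1 a) w (by rw [hw]; exact hAS (hdA a 1))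
    rwa [hw] at this
  have h3 : ∀ a, d 1 a ∈ T := by
    intro a
    have := T.mul_mem (T.mul_mem htT (h2 a)) htT
    rwa [htd] at this
  have hAT : A ≤ T := by
    intro x hx
    obtain ⟨a, b, rfl⟩ := (hA x).1 hx
    have := T.mul_mem (h2 a) (h3 b)
    rwa [hd_mul, mul_one, one_mul] at this
  apply le_antisymm hTS
  intro x hx
  rcases (hS x).1 hx with h | h
  · exact hAT h
  · have h1 := T.mul_mem (hAT h) htT
    rwa [mul_assoc, ht, mul_one] at h1

/-- automorphisms of odd order, wreathed type -/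
theorem wreath_centralize {ν a₀ : M}
    (hA : ∀ x, x ∈ A ↔ ∃ a b, x = d a b)
    (hS : ∀ x, x ∈ S ↔ x ∈ A ∨ x * t ∈ A)
    (hd_mul : ∀ a b a' b', d a b * d a' b' = d (a * a') (b * b'))
    (hd_one : d 1 1 = 1)
    (hd_inj : ∀ a b a' b', d a b = d a' b' → a = a' ∧ b = b')
    (ht : t * t = 1) (htd : ∀ a b, t * d a b * t = d b a) (htA : t ∉ A)
    (hM2 : ∀ a : M, ∃ n : ℕ, a ^ (2 ^ n) = 1)
    (hν : ∀ a : M, a * a = 1 → a = 1 ∨ a = ν) (hν1 : ν ≠ 1) (hν2 : ν * ν = 1)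
    (ha₀ : a₀ * a₀ ≠ 1)
    {g : H} (hg : g ∈ Subgroup.normalizer (S : Set H)) (hodd : Nat.Coprime (orderOf g) 2) :
    ∀ x ∈ S, g * x * g⁻¹ = x := by
  have hdA : ∀ a b, d a b ∈ A := fun a b => (hA _).2 ⟨a, b, rfl⟩
  have hAS : A ≤ S := fun x hx => (hS x).2 (Or.inl hx)
  have htS : t ∈ S := (hS t).2 (Or.inr (by rw [ht]; exact A.one_mem))
  have hconj : ∀ k : H, k ∈ Subgroup.normalizer (S : Set H) → ∀ x ∈ S, k * x * k⁻¹ ∈ S :=
    fun k hk x hx => (Subgroup.mem_normalizer_iff.1 hk x).1 hx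
  have hginv : g⁻¹ ∈ Subgroup.normalizer (S : Set H) := Subgroup.inv_mem _ hg
  have hAc : ∀ x ∈ A, ∀ y ∈ A, x * y = y * x := by
    intro x hx y hy
    obtain ⟨a, b, rfl⟩ := (hA x).1 hx
    obtain ⟨a', b', rfl⟩ := (hA y).1 hy
    rw [hd_mul, hd_mul, mul_comm a, mul_comm b]
  have hpow : ∀ (a b : M) (k : ℕ), d a b ^ k = d (a ^ k) (b ^ k) := by
    intro a b k
    induction k with
    | zero => rw [pow_zero, pow_zero, pow_zero, hd_one]
    | succ k ih => rw [pow_succ, ih, hd_mul, ← pow_succ, ← pow_succ]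
  have hA2 : ∀ x ∈ A, ∃ n : ℕ, x ^ (2 ^ n) = 1 := by
    intro x hx
    obtain ⟨a, b, rfl⟩ := (hA x).1 hx
    obtain ⟨n, hn⟩ := hM2 a
    obtain ⟨m, hm⟩ := hM2 b
    refine ⟨n + m, ?_⟩
    rw [hpow, pow_add, pow_mul, hn, one_pow, mul_comm (2 ^ n), pow_mul, hm, one_pow, hd_one]
  have hsqA : ∀ s ∈ S, s * s ∈ A := by
    intro s hs
    rcases (hS s).1 hs with h | h
    · exact A.mul_mem h h
    · obtain ⟨a, b, hab⟩ := (hA _).1 h
      have e : s * s = (s * t) * (t * (s * t) * t) := by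
        calc s * s = s * (t * t) * s * (t * t) := by rw [ht, mul_one, mul_one]
          _ = (s * t) * (t * (s * t) * t) := by group
      rw [e, hab, htd]
      exact A.mul_mem (hdA _ _) (hdA _ _)
  have hchar : ∀ x ∈ S, (∀ s ∈ S, x * (s * s) = (s * s) * x) → x ∈ A := by
    intro x hx hcomm
    rcases (hS x).1 hx with h | h
    · exact h
    · exfalso
      obtain ⟨a, b, hab⟩ := (hA _).1 h
      have hx' : x = d a b * t := by rw [← hab, mul_assoc, ht, mul_one]
      have h1 := hcomm (d a₀ 1) (hAS (hdA _ _))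
      rw [hd_mul, mul_one, hx'] at h1
      have h2 : d a b * t * d (a₀ * a₀) 1 = d a (b * (a₀ * a₀)) * t := by
        calc d a b * t * d (a₀ * a₀) 1 = d a b * t * d (a₀ * a₀) 1 * (t * t) := by
              rw [ht, mul_one]
          _ = d a b * (t * d (a₀ * a₀) 1 * t) * t := by group
          _ = d a (b * (a₀ * a₀)) * t := by rw [htd, hd_mul, mul_one]
      have h5 : d (a₀ * a₀) 1 * (d a b * t) = d (a₀ * a₀ * a) (1 * b) * t := by
        rw [← mul_assoc, hd_mul]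
      rw [h2, h5] at h1
      have h3 := (hd_inj _ _ _ _ (mul_right_cancel h1)).1
      apply ha₀
      have : a₀ * a₀ * a = 1 * a := by rw [one_mul]; exact h3.symm
      exact mul_right_cancel this
  have hAinv : ∀ k : H, k ∈ Subgroup.normalizer (S : Set H) → ∀ x ∈ A, k * x * k⁻¹ ∈ A := by
    intro k hk x hx
    apply hchar _ (hconj k hk x (hAS hx))
    intro s hs
    have hs' : k⁻¹ * s * k⁻¹⁻¹ ∈ S := hconj k⁻¹ (Subgroup.inv_mem _ hk) s hs
    have h1 := hAc x hx _ (hsqA _ hs')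
    calc k * x * k⁻¹ * (s * s)
        = k * (x * ((k⁻¹ * s * k⁻¹⁻¹) * (k⁻¹ * s * k⁻¹⁻¹))) * k⁻¹ := by group
      _ = k * (((k⁻¹ * s * k⁻¹⁻¹) * (k⁻¹ * s * k⁻¹⁻¹)) * x) * k⁻¹ := by rw [h1]
      _ = s * s * (k * x * k⁻¹) := by group
  have hcen : ∀ x ∈ S, (∀ s ∈ S, x * s = s * x) → ∃ a, x = d a a := by
    intro x hx hcomm
    rcases (hS x).1 hx with h | h
    · obtain ⟨a, b, rfl⟩ := (hA _).1 h
      have h1 := hcomm t htS
      have h2 : t * d a b * t = d a b := by rw [← h1, mul_assoc, ht, mul_one]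
      rw [htd] at h2
      obtain ⟨h3, -⟩ := hd_inj _ _ _ _ h2
      exact ⟨a, by rw [h3]⟩
    · exfalso
      obtain ⟨a, b, hab⟩ := (hA _).1 h
      have hx' : x = d a b * t := by rw [← hab, mul_assoc, ht, mul_one]
      have h1 := hcomm (d a₀ 1) (hAS (hdA _ _))
      rw [hx'] at h1
      have h2 : d a b * t * d a₀ 1 = d a (b * a₀) * t := by
        calc d a b * t * d a₀ 1 = d a b * t * d a₀ 1 * (t * t) := by rw [ht, mul_one]
          _ = d a b * (t * d a₀ 1 * t) * t := by group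
          _ = d a (b * a₀) * t := by rw [htd, hd_mul, mul_one]
      have h5 : d a₀ 1 * (d a b * t) = d (a₀ * a) (1 * b) * t := by
        rw [← mul_assoc, hd_mul]
      rw [h2, h5] at h1
      have h3 := (hd_inj _ _ _ _ (mul_right_cancel h1)).1
      apply ha₀
      have h4 : a₀ = 1 := by
        have : a₀ * a = 1 * a := by rw [one_mul]; exact h3.symm
        exact mul_right_cancel this
      rw [h4, mul_one]
  have hzc : ∀ s ∈ S, d ν ν * s = s * d ν ν := by
    intro s hs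
    rcases (hS s).1 hs with h | h
    · exact hAc _ (hdA ν ν) _ h
    · have h1 : d ν ν * t = t * d ν ν := by
        have := htd ν ν
        calc d ν ν * t = (t * d ν ν * t) * t := by rw [this]
          _ = t * d ν ν := by rw [mul_assoc, ht, mul_one]
      calc d ν ν * s = d ν ν * ((s * t) * t) := by rw [mul_assoc s, ht, mul_one]
        _ = (d ν ν * (s * t)) * t := (mul_assoc _ _ _).symm
        _ = ((s * t) * d ν ν) * t := by rw [hAc _ (hdA ν ν) _ h]
        _ = (s * t) * (t * d ν ν) := by rw [mul_assoc, h1]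
        _ = s * d ν ν := by rw [← mul_assoc, mul_assoc s, ht, mul_one]
  have hzne : d ν ν ≠ 1 := by
    intro h
    rw [← hd_one] at h
    exact hν1 (hd_inj _ _ _ _ h).1
  have hz : g * d ν ν * g⁻¹ = d ν ν := by
    have h1 : g * d ν ν * g⁻¹ ∈ S := hconj g hg _ (hAS (hdA ν ν))
    obtain ⟨a, ha⟩ := hcen _ h1 (by
      intro s hs
      have hs' : g⁻¹ * s * g⁻¹⁻¹ ∈ S := hconj g⁻¹ hginv s hs
      have h2 := hzc _ hs'
      calc g * d ν ν * g⁻¹ * s = g * (d ν ν * (g⁻¹ * s * g⁻¹⁻¹)) * g⁻¹ := by group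
        _ = g * ((g⁻¹ * s * g⁻¹⁻¹) * d ν ν) * g⁻¹ := by rw [h2]
        _ = s * (g * d ν ν * g⁻¹) := by group)
    have h3 : (g * d ν ν * g⁻¹) * (g * d ν ν * g⁻¹) = 1 := by
      calc (g * d ν ν * g⁻¹) * (g * d ν ν * g⁻¹) = g * (d ν ν * d ν ν) * g⁻¹ := by group
        _ = 1 := by rw [hd_mul, hν2, hd_one, mul_one, mul_inv_cancel]
    rw [ha, hd_mul, ← hd_one] at h3
    have h4 := (hd_inj _ _ _ _ h3).1
    rcases hν a h4 with h5 | h5
    · exfalso
      rw [h5, hd_one] at ha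
      apply hzne
      have : d ν ν = g⁻¹ * (g * d ν ν * g⁻¹) * g := by group
      rw [this, ha]; group
    · rw [ha, h5]
  have hinvA : ∀ x ∈ A, x * x = 1 → x = 1 ∨ x = d ν 1 ∨ x = d 1 ν ∨ x = d ν ν := by
    intro x hx hxx
    obtain ⟨a, b, rfl⟩ := (hA x).1 hx
    rw [hd_mul, ← hd_one] at hxx
    obtain ⟨h1, h2⟩ := hd_inj _ _ _ _ hxx
    rcases hν a h1 with h3 | h3 <;> rcases hν b h2 with h4 | h4
    · left; rw [h3, h4, hd_one]
    · right; right; left; rw [h3, h4]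
    · right; left; rw [h3, h4]
    · right; right; right; rw [h3, h4]
  have im : ∀ x ∈ A, x * x = 1 → x ≠ 1 → x ≠ d ν ν →
      (g * x * g⁻¹ = d ν 1 ∨ g * x * g⁻¹ = d 1 ν) := by
    intro x hx hxx hx1 hxz
    have h1 : (g * x * g⁻¹) * (g * x * g⁻¹) = 1 := by
      calc (g * x * g⁻¹) * (g * x * g⁻¹) = g * (x * x) * g⁻¹ := by group
        _ = 1 := by rw [hxx, mul_one, mul_inv_cancel]
    rcases hinvA _ (hAinv g hg x hx) h1 with h | h | h | h
    · exfalso; apply hx1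
      have : x = g⁻¹ * (g * x * g⁻¹) * g := by group
      rw [this, h]; group
    · exact Or.inl h
    · exact Or.inr h
    · exfalso; apply hxz
      calc x = g⁻¹ * (g * x * g⁻¹) * g := by group
        _ = g⁻¹ * d ν ν * g := by rw [h]
        _ = g⁻¹ * (g * d ν ν * g⁻¹) * g := by rw [hz]
        _ = d ν ν := by group
  have hzpow : d ν ν ^ (2 ^ 1) = 1 := by
    rw [pow_one, pow_two, hd_mul, hν2, hd_one]
  have hx1 : g * d ν 1 * g⁻¹ = d ν 1 := by
    rcases im (d ν 1) (hdA _ _) (by rw [hd_mul, hν2, mul_one, hd_one])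
        (fun h => hν1 (by rw [← hd_one] at h; exact (hd_inj _ _ _ _ h).1))
        (fun h => hν1 (hd_inj _ _ _ _ h).2.symm) with h | h
    · exact h
    · exfalso
      apply hzne
      refine odd_fix hodd (x := d ν 1) ?_ hz hzpow
      rw [h, hd_mul, hν2, mul_one]
  have hx2 : g * d 1 ν * g⁻¹ = d 1 ν := by
    rcases im (d 1 ν) (hdA _ _) (by rw [hd_mul, hν2, mul_one, hd_one])
        (fun h => hν1 (by rw [← hd_one] at h; exact (hd_inj _ _ _ _ h).2))
        (fun h => hν1 (hd_inj _ _ _ _ h).1.symm) with h | h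
    · exfalso
      apply hzne
      refine odd_fix hodd (x := d 1 ν) ?_ hz hzpow
      rw [h, hd_mul, hν2, mul_one]
    · exact h
  have hgA : ∀ x ∈ A, g * x * g⁻¹ = x := by
    apply centralize_abelian_of_invol hAc hA2 (hAinv g hg) hodd
    intro x hx hxx
    rcases hinvA x hx hxx with h | h | h | h
    · rw [h, mul_one, mul_inv_cancel]
    · rw [h]; exact hx1
    · rw [h]; exact hx2
    · rw [h]; exact hz
  have hgt : g * t * g⁻¹ = t := by
    have h1 : g * t * g⁻¹ ∈ S := hconj g hg t htS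
    have h2 : g * t * g⁻¹ * t ∈ A := by
      rcases (hS _).1 h1 with h | h
      · exfalso
        apply htA
        have := hAinv g⁻¹ hginv _ h
        have e : g⁻¹ * (g * t * g⁻¹) * g⁻¹⁻¹ = t := by group
        rwa [e] at this
      · exact h
    have h3 : g * t * g⁻¹ = (g * t * g⁻¹ * t) * t := by rw [mul_assoc _ t t, ht, mul_one]
    obtain ⟨n, hn⟩ := hA2 _ h2
    have h4 := odd_fix hodd h3 (hgA _ h2) hn
    rw [h3, h4, one_mul]
  intro x hx
  rcases (hS x).1 hx with h | h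
  · exact hgA x h
  · have hx' : x = (x * t) * t := by rw [mul_assoc, ht, mul_one]
    calc g * x * g⁻¹ = g * ((x * t) * t) * g⁻¹ := by rw [← hx']
      _ = (g * (x * t) * g⁻¹) * (g * t * g⁻¹) := by group
      _ = x := by rw [hgA _ h, hgt, ← hx']

end Wreath

end Cfsg.Agent.Lib.Helper86.Idx2
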