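import Mathlib

set_option autoImplicit false
set_option linter.unusedSectionVars false
set_option linter.style.haveILetI false

/-! # Counting fixed points and orbits for subgroups of a finite symmetric group

Generic tools: fixed points of an element of prime order on an invariant set are counted
modulo the prime; orbit-stabilizer for subgroups of `Equiv.Perm Ω` with stabilizers again
subgroups of `Equiv.Perm Ω`; a group of order 40 has commuting elements of orders 5 and 2. -/

namespace Cfsg.Agent.Lib.Helper86.PermCount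

variable {Ω : Type*} [Fintype Ω] [DecidableEq Ω]

/-- the fixed points of a permutation, as a finset -/
def fixF (σ : Equiv.Perm Ω) : Finset Ω := Finset.univ.filter fun p => σ p = p

theorem mem_fixF {σ : Equiv.Perm Ω} {p : Ω} : p ∈ fixF σ ↔ σ p = p := by
  simp [fixF]

/-- an element of prime order `ℓ` (or trivial) fixes, on any invariant finite set, a number of
points congruent to the size of the set modulo `ℓ` -/
theorem card_filter_fixed_modEq {σ : Equiv.Perm Ω} {ℓ : ℕ} [hℓ : Fact ℓ.Prime] (hσ : σ ^ ℓ = 1)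
    (O : Finset Ω) (hO : ∀ p ∈ O, σ p ∈ O) :
    O.card ≡ (O.filter fun p => σ p = p).card [MOD ℓ] := by
  classical
  let f : Function.End {p // p ∈ O} := fun x => ⟨σ x.1, hO x.1 x.2⟩
  have hpow : ∀ n : ℕ, ∀ x : {p // p ∈ O}, ((f ^ n) x).1 = (σ ^ n) x.1 := by
    intro n
    induction n with
    | zero => intro x; rfl
    | succ n ih =>
      intro x
      rw [pow_succ, pow_succ]
      show ((f ^ n) (f x)).1 = (σ ^ n) (σ x.1)
      rw [ih]
  have hf : f ^ ℓ ^ 1 = 1 := by
    rw [pow_one]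
    funext x
    apply Subtype.ext
    rw [hpow, hσ]
    rfl
  have h := Equiv.Perm.card_fixedPoints_modEq (p := ℓ) (n := 1) hf
  rw [Fintype.card_coe] at h
  have h2 : Fintype.card (Function.fixedPoints f) = (O.filter fun p => σ p = p).card := by
    rw [← Fintype.card_coe]
    apply Fintype.card_congr
    exact
      { toFun := fun x => ⟨x.1.1, by
          rw [Finset.mem_filter]
          exact ⟨x.1.2, congrArg Subtype.val x.2⟩⟩
        invFun := fun y => ⟨⟨y.1, (Finset.mem_filter.1 y.2).1⟩, by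
          show f _ = _
          apply Subtype.ext
          exact (Finset.mem_filter.1 y.2).2⟩
        left_inv := fun x => rfl
        right_inv := fun y => rfl }
  rw [h2] at h
  exact h

/-- the stabilizer of a point inside a subgroup of permutations -/
def stb (K : Subgroup (Equiv.Perm Ω)) (p : Ω) : Subgroup (Equiv.Perm Ω) :=
  K ⊓ MulAction.stabilizer (Equiv.Perm Ω) p

theorem mem_stb {K : Subgroup (Equiv.Perm Ω)} {p : Ω} {σ : Equiv.Perm Ω} :
    σ ∈ stb K p ↔ σ ∈ K ∧ σ p = p := Iff.rfl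

theorem stb_le (K : Subgroup (Equiv.Perm Ω)) (p : Ω) : stb K p ≤ K := inf_le_left

/-- the orbit of a point under a subgroup of permutations, as a finset -/
noncomputable def orbF (K : Subgroup (Equiv.Perm Ω)) (p : Ω) : Finset Ω := by
  classical
  exact Finset.univ.filter fun r => ∃ σ ∈ K, σ p = r

theorem mem_orbF {K : Subgroup (Equiv.Perm Ω)} {p r : Ω} :
    r ∈ orbF K p ↔ ∃ σ ∈ K, σ p = r := by
  classical
  simp [orbF]

theorem self_mem_orbF (K : Subgroup (Equiv.Perm Ω)) (p : Ω) : p ∈ orbF K p :=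
  mem_orbF.2 ⟨1, K.one_mem, rfl⟩

theorem orbF_invariant {K : Subgroup (Equiv.Perm Ω)} {p : Ω} {σ : Equiv.Perm Ω} (hσ : σ ∈ K) :
    ∀ r ∈ orbF K p, σ r ∈ orbF K p := by
  intro r hr
  obtain ⟨τ, hτ, rfl⟩ := mem_orbF.1 hr
  exact mem_orbF.2 ⟨σ * τ, K.mul_mem hσ hτ, rfl⟩

/-- orbit-stabilizer -/
theorem card_stb_mul_card_orbF (K : Subgroup (Equiv.Perm Ω)) (p : Ω) :
    Nat.card (stb K p) * (orbF K p).card = Nat.card K := by
  classical
  have h1 := MulAction.index_stabilizer (↥K) p
  have h2 := Subgroup.index_mul_card (MulAction.stabilizer (↥K) p)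
  have h3 : Nat.card (MulAction.stabilizer (↥K) p) = Nat.card (stb K p) := by
    have : MulAction.stabilizer (↥K) p = (stb K p).subgroupOf K := by
      ext g
      rw [Subgroup.mem_subgroupOf, mem_stb, MulAction.mem_stabilizer_iff]
      constructor
      · intro h; exact ⟨g.2, h⟩
      · intro h; exact h.2
    rw [this]
    exact Nat.card_congr (Subgroup.subgroupOfEquivOfLe (stb_le K p)).toEquiv
  have h4 : (MulAction.orbit (↥K) p).ncard = (orbF K p).card := by
    rw [← Set.ncard_coe_finset]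
    congr 1
    ext r
    rw [Finset.mem_coe, mem_orbF, MulAction.mem_orbit_iff]
    constructor
    · rintro ⟨g, hg⟩; exact ⟨g.1, g.2, hg⟩
    · rintro ⟨σ, hσ, hg⟩; exact ⟨⟨σ, hσ⟩, hg⟩
  rw [h1, h4, h3] at h2
  rw [mul_comm]; exact h2

/-- Cauchy's theorem inside a subgroup of permutations -/
theorem exists_orderOf_eq (K : Subgroup (Equiv.Perm Ω)) (ℓ : ℕ) [Fact ℓ.Prime]
    (h : ℓ ∣ Nat.card K) : ∃ σ ∈ K, orderOf σ = ℓ := by
  obtain ⟨x, hx⟩ := exists_prime_orderOf_dvd_card' ℓ h
  exact ⟨x.1, x.2, by rw [← hx]; exact Subgroup.orderOf_coe x⟩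

theorem pow_eq_one_of_orderOf {σ : Equiv.Perm Ω} {ℓ : ℕ} (h : orderOf σ = ℓ) : σ ^ ℓ = 1 := by
  rw [← h]; exact pow_orderOf_eq_one σ

/-- counting the orbit modulo `ℓ` by the fixed points of an element with `σ ^ ℓ = 1` -/
theorem card_orbF_modEq {K : Subgroup (Equiv.Perm Ω)} {σ : Equiv.Perm Ω} (hσ : σ ∈ K) {ℓ : ℕ}
    [Fact ℓ.Prime] (h : σ ^ ℓ = 1) (p : Ω) :
    (orbF K p).card ≡ (orbF K p ∩ fixF σ).card [MOD ℓ] := by
  have := card_filter_fixed_modEq h (orbF K p) (orbF_invariant hσ)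
  have e : (orbF K p).filter (fun r => σ r = r) = orbF K p ∩ fixF σ := by
    ext r
    rw [Finset.mem_filter, Finset.mem_inter, mem_fixF]
  rwa [e] at this

/-- the orbit of a point outside a pointwise fixed set avoids that set -/
theorem orbF_disjoint {K : Subgroup (Equiv.Perm Ω)} {A : Finset Ω}
    (hA : ∀ σ ∈ K, ∀ a ∈ A, σ a = a) {p : Ω} (hp : p ∉ A) : Disjoint (orbF K p) A := by
  rw [Finset.disjoint_left]
  intro r hr hrA
  obtain ⟨σ, hσ, rfl⟩ := mem_orbF.1 hr
  have h1 := hA σ⁻¹ (K.inv_mem hσ) _ hrA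
  have h2 : σ⁻¹ (σ p) = p := by simp
  rw [h2] at h1
  exact hp (h1 ▸ hrA)

theorem card_orbF_add_le {K : Subgroup (Equiv.Perm Ω)} {A : Finset Ω} {p : Ω}
    (h : Disjoint (orbF K p) A) : (orbF K p).card + A.card ≤ Fintype.card Ω := by
  rw [← Finset.card_union_of_disjoint h]
  exact Finset.card_le_univ _

/-- an element whose fixed points are exactly the pointwise fixed set `A`: orbits outside `A`
have size divisible by `ℓ` -/
theorem card_orbF_modEq_zero {K : Subgroup (Equiv.Perm Ω)} {A : Finset Ω}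
    (hA : ∀ σ ∈ K, ∀ a ∈ A, σ a = a) {σ : Equiv.Perm Ω} (hσ : σ ∈ K) {ℓ : ℕ}
    [Fact ℓ.Prime] (h : σ ^ ℓ = 1) (hc : (fixF σ).card = A.card) {p : Ω} (hp : p ∉ A) :
    (orbF K p).card ≡ 0 [MOD ℓ] := by
  have h1 := card_orbF_modEq hσ h p
  have hsub : A ⊆ fixF σ := fun a ha => mem_fixF.2 (hA σ hσ a ha)
  have he : fixF σ = A := (Finset.eq_of_subset_of_card_le hsub (le_of_eq hc)).symm
  have h2 : orbF K p ∩ fixF σ = ∅ := by
    rw [he]; exact Finset.disjoint_iff_inter_eq_empty.1 (orbF_disjoint hA hp)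
  rwa [h2, Finset.card_empty] at h1

/-- an element with exactly one more fixed point than the pointwise fixed set `A`: the orbit
of that point has size `≡ 1` modulo `ℓ` -/
theorem exists_card_orbF_modEq_one {K : Subgroup (Equiv.Perm Ω)} {A : Finset Ω}
    (hA : ∀ σ ∈ K, ∀ a ∈ A, σ a = a) {τ : Equiv.Perm Ω} (hτ : τ ∈ K) {ℓ : ℕ}
    [Fact ℓ.Prime] (h : τ ^ ℓ = 1) (hc : (fixF τ).card = A.card + 1) :
    ∃ p, p ∉ A ∧ fixF τ = insert p A ∧ (orbF K p).card ≡ 1 [MOD ℓ] := by
  have hsub : A ⊆ fixF τ := fun a ha => mem_fixF.2 (hA τ hτ a ha)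
  have h1 : (fixF τ \ A).card = 1 := by
    rw [Finset.card_sdiff_of_subset hsub, hc]; omega
  obtain ⟨p, hp⟩ := Finset.card_eq_one.1 h1
  have hpm : p ∈ fixF τ \ A := by rw [hp]; exact Finset.mem_singleton_self p
  rw [Finset.mem_sdiff] at hpm
  have he : fixF τ = insert p A := by
    ext r
    rw [Finset.mem_insert]
    constructor
    · intro hr
      by_cases hrA : r ∈ A
      · exact Or.inr hrA
      · left
        have : r ∈ fixF τ \ A := Finset.mem_sdiff.2 ⟨hr, hrA⟩
        rw [hp] at this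
        exact Finset.mem_singleton.1 this
    · rintro (rfl | hr)
      · exact hpm.1
      · exact hsub hr
  refine ⟨p, hpm.2, he, ?_⟩
  have h2 := card_orbF_modEq hτ h p
  have h3 : orbF K p ∩ fixF τ = {p} := by
    ext r
    rw [Finset.mem_inter, Finset.mem_singleton, he, Finset.mem_insert]
    constructor
    · rintro ⟨hr, rfl | hrA⟩
      · rfl
      · exact absurd hrA (Finset.disjoint_left.1 (orbF_disjoint hA hpm.2) hr)
    · rintro rfl
      exact ⟨self_mem_orbF K r, Or.inl rfl⟩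
  rwa [h3, Finset.card_singleton] at h2

/-- the stabilizer of `p` fixes `insert p A` pointwise -/
theorem stb_fixes {K : Subgroup (Equiv.Perm Ω)} {A : Finset Ω}
    (hA : ∀ σ ∈ K, ∀ a ∈ A, σ a = a) (p : Ω) :
    ∀ σ ∈ stb K p, ∀ a ∈ insert p A, σ a = a := by
  intro σ hσ a ha
  rw [Finset.mem_insert] at ha
  rcases ha with rfl | ha
  · exact hσ.2
  · exact hA σ hσ.1 a ha

theorem card_orbF_pos (K : Subgroup (Equiv.Perm Ω)) (p : Ω) : 0 < (orbF K p).card :=
  Finset.card_pos.2 ⟨p, self_mem_orbF K p⟩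

/-- an orbit of size one is a fixed point -/
theorem fixed_of_card_orbF_eq_one {K : Subgroup (Equiv.Perm Ω)} {p : Ω}
    (h : (orbF K p).card = 1) : ∀ σ ∈ K, σ p = p := by
  intro σ hσ
  obtain ⟨a, ha⟩ := Finset.card_eq_one.1 h
  have h1 : p ∈ orbF K p := self_mem_orbF K p
  have h2 : σ p ∈ orbF K p := mem_orbF.2 ⟨σ, hσ, rfl⟩
  rw [ha, Finset.mem_singleton] at h1 h2
  exact h2.trans h1.symm

/-- a group of order 40 has commuting elements of orders 5 and 2 -/
theorem exists_commute_of_card_forty {K : Type*} [Group K] (hK : Nat.card K = 40) :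
    ∃ f e : K, orderOf f = 5 ∧ orderOf e = 2 ∧ Commute f e := by
  classical
  haveI : Finite K := Nat.finite_of_card_ne_zero (by omega)
  haveI : Fact (Nat.Prime 5) := ⟨by norm_num⟩
  haveI : Fact (Nat.Prime 2) := ⟨by norm_num⟩
  let P : Sylow 5 K := default
  have hf5 : Nat.factorization 40 5 = 1 := by
    have : (40 : ℕ) = 5 ^ 1 * 8 := by norm_num
    rw [this, Nat.factorization_mul (by norm_num) (by norm_num), Nat.Prime.factorization_pow (by norm_num)]
    simp
    exact Nat.factorization_eq_zero_of_not_dvd (by norm_num)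
  have hf2 : Nat.factorization 40 2 = 3 := by
    have : (40 : ℕ) = 2 ^ 3 * 5 := by norm_num
    rw [this, Nat.factorization_mul (by norm_num) (by norm_num), Nat.Prime.factorization_pow (by norm_num)]
    simp
    exact Nat.factorization_eq_zero_of_not_dvd (by norm_num)
  have hP : Nat.card P = 5 := by
    rw [Sylow.card_eq_multiplicity, hK, hf5]; norm_num
  have hidx : (P : Subgroup K).index = 8 := by
    have := Subgroup.index_mul_card (P : Subgroup K)
    rw [hK] at this
    have hP' : Nat.card (P : Subgroup K) = 5 := hP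
    rw [hP'] at this; omega
  have hcard : Nat.card (Sylow 5 K) = 1 := by
    have h1 := card_sylow_modEq_one 5 K
    have h2 := P.card_dvd_index
    rw [hidx] at h2
    have h3 : Nat.card (Sylow 5 K) ≤ 8 := Nat.le_of_dvd (by norm_num) h2
    unfold Nat.ModEq at h1
    generalize Nat.card (Sylow 5 K) = n at h1 h2 h3
    interval_cases n <;> simp_all
  haveI : Subsingleton (Sylow 5 K) := (Nat.card_eq_one_iff_unique.1 hcard).1
  have hN : (P : Subgroup K).Normal := Sylow.normal_of_subsingleton P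
  obtain ⟨f0, hf0⟩ := exists_prime_orderOf_dvd_card' (G := ↥(P : Subgroup K)) 5
    (by rw [show Nat.card ↥(P : Subgroup K) = 5 from hP])
  have hf : orderOf (f0 : K) = 5 := (Subgroup.orderOf_coe f0).trans hf0
  let S : Sylow 2 K := default
  have hS : Nat.card ↥(S : Subgroup K) = 8 := by
    have := Sylow.card_eq_multiplicity S
    rw [hK, hf2] at this
    rw [this]; norm_num
  let φ : ↥(S : Subgroup K) → ↥(P : Subgroup K) := fun g =>
    ⟨g.1 * f0.1 * g.1⁻¹, hN.conj_mem f0.1 f0.2 g.1⟩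
  haveI : Fintype ↥(S : Subgroup K) := Fintype.ofFinite _
  haveI : Fintype ↥(P : Subgroup K) := Fintype.ofFinite _
  obtain ⟨g1, g2, hne, heq⟩ := Fintype.exists_ne_map_eq_of_card_lt φ (by
    rw [← Nat.card_eq_fintype_card, ← Nat.card_eq_fintype_card, hS,
      show Nat.card ↥(P : Subgroup K) = 5 from hP]; norm_num)
  have heq' : g1.1 * f0.1 * g1.1⁻¹ = g2.1 * f0.1 * g2.1⁻¹ := congrArg Subtype.val heq
  let e0 : ↥(S : Subgroup K) := g2⁻¹ * g1
  have he0 : e0 ≠ 1 := by
    intro h
    apply hne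
    have : g2 * e0 = g2 := by rw [h, mul_one]
    rw [← this]; simp [e0]
  have hcomm : Commute (f0 : K) (e0 : K) := by
    show (f0 : K) * ((g2⁻¹ * g1 : ↥(S : Subgroup K)) : K) = ((g2⁻¹ * g1 : ↥(S : Subgroup K)) : K) * (f0 : K)
    have h1 : ((g2⁻¹ * g1 : ↥(S : Subgroup K)) : K) = (g2 : K)⁻¹ * (g1 : K) := rfl
    rw [h1]
    have h2 : (g1 : K) * (f0 : K) = (g2 : K) * (f0 : K) * (g2 : K)⁻¹ * (g1 : K) := by
      rw [← heq']; group
    calc (f0 : K) * ((g2 : K)⁻¹ * (g1 : K))
        = (g2 : K)⁻¹ * ((g2 : K) * (f0 : K) * (g2 : K)⁻¹ * (g1 : K)) := by group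
      _ = (g2 : K)⁻¹ * ((g1 : K) * (f0 : K)) := by rw [← h2]
      _ = (g2 : K)⁻¹ * (g1 : K) * (f0 : K) := by group
  have hdvd : orderOf e0 ∣ 8 := by
    rw [← hS]; exact orderOf_dvd_natCard e0
  have h2dvd : 2 ∣ orderOf e0 := by
    have hle : orderOf e0 ≤ 8 := Nat.le_of_dvd (by norm_num) hdvd
    have hne1 : orderOf e0 ≠ 1 := fun h => he0 (orderOf_eq_one_iff.1 h)
    generalize orderOf e0 = n at hdvd hle hne1
    interval_cases n <;> simp_all
  have hpos : orderOf e0 ≠ 0 := (orderOf_pos e0).ne'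
  refine ⟨f0.1, ((e0 ^ (orderOf e0 / 2) : ↥(S : Subgroup K)) : K), hf, ?_, ?_⟩
  · rw [Subgroup.orderOf_coe]
    exact orderOf_pow_orderOf_div hpos h2dvd
  · rw [Subgroup.coe_pow]
    exact hcomm.pow_right _

end Cfsg.Agent.Lib.Helper86.PermCount
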