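import Mathlib
import Cfsg.Agent.Lib.Helper6.M24Fix
import Cfsg.Agent.Lib.Helper7.GolayOctad
import Cfsg.Agent.Lib.Helper86.PermCount

set_option autoImplicit false
set_option linter.style.haveILetI false

/-! # Subgroups of index 24 of `M24` are point stabilizers

A subgroup of `M24` of the order of `M23` fixes one of the 24 points.  The proof counts fixed
points of elements of orders 23, 11, 7, 5 and 2 on orbits. -/

namespace Cfsg.Agent.Lib.Helper86.M24Index

open Cfsg Cfsg.Agent.Lib.Helper86.PermCount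

theorem card_golayPt : Fintype.card GolayPt = 24 := by decide

theorem ne_one_of_orderOf {σ : Equiv.Perm GolayPt} {ℓ : ℕ} (hℓ : 1 < ℓ) (h : orderOf σ = ℓ) :
    σ ≠ 1 := by
  rintro rfl
  rw [orderOf_one] at h; omega

theorem card_fixF_le {σ : Equiv.Perm GolayPt} (hσ : σ ∈ M24) (hne : σ ≠ 1) :
    (fixF σ).card ≤ 8 :=
  Cfsg.Agent.Lib.Helper6.Cls.card_fixed_le_eight hσ hne

theorem card_fixF_modEq {σ : Equiv.Perm GolayPt} {ℓ : ℕ} [Fact ℓ.Prime] (h : orderOf σ = ℓ) :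
    24 ≡ (fixF σ).card [MOD ℓ] := by
  have := card_filter_fixed_modEq (pow_eq_one_of_orderOf h) Finset.univ
    (fun _ _ => Finset.mem_univ _)
  rw [Finset.card_univ, card_golayPt] at this
  exact this

theorem card_fixF_23 {σ : Equiv.Perm GolayPt} (hσ : σ ∈ M24) (h : orderOf σ = 23) :
    (fixF σ).card = 1 := by
  haveI : Fact (Nat.Prime 23) := ⟨by norm_num⟩
  have h1 := card_fixF_le hσ (ne_one_of_orderOf (by norm_num) h)
  have h2 := card_fixF_modEq h
  unfold Nat.ModEq at h2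
  omega

theorem card_fixF_11 {σ : Equiv.Perm GolayPt} (hσ : σ ∈ M24) (h : orderOf σ = 11) :
    (fixF σ).card = 2 := by
  haveI : Fact (Nat.Prime 11) := ⟨by norm_num⟩
  have h1 := card_fixF_le hσ (ne_one_of_orderOf (by norm_num) h)
  have h2 := card_fixF_modEq h
  unfold Nat.ModEq at h2
  omega

theorem card_fixF_7 {σ : Equiv.Perm GolayPt} (hσ : σ ∈ M24) (h : orderOf σ = 7) :
    (fixF σ).card = 3 := by
  haveI : Fact (Nat.Prime 7) := ⟨by norm_num⟩
  have h1 := card_fixF_le hσ (ne_one_of_orderOf (by norm_num) h)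
  have h2 := card_fixF_modEq h
  unfold Nat.ModEq at h2
  omega

theorem card_fixF_5 {σ : Equiv.Perm GolayPt} (hσ : σ ∈ M24) (h : orderOf σ = 5) :
    (fixF σ).card = 4 := by
  haveI : Fact (Nat.Prime 5) := ⟨by norm_num⟩
  have h1 := card_fixF_le hσ (ne_one_of_orderOf (by norm_num) h)
  have h2 := card_fixF_modEq h
  unfold Nat.ModEq at h2
  omega

/-- an involution of `M24` with a fixed point has exactly eight fixed points -/
theorem card_fixF_two {σ : Equiv.Perm GolayPt} (hσ : σ ∈ M24) (h : orderOf σ = 2)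
    {p : GolayPt} (hp : σ p = p) : (fixF σ).card = 8 := by
  obtain ⟨k, -, h1 | h1⟩ := Cfsg.Agent.Lib.Helper6.Cls.inv_cases hσ h
  · exact h1.1
  · exact absurd hp (h1.1 p)

/-- no subgroup of `M24` of order 40 fixes four points -/
theorem no_forty {K : Subgroup (Equiv.Perm GolayPt)} (hK : K ≤ M24) (hc : Nat.card K = 40)
    {A : Finset GolayPt} (hA : ∀ σ ∈ K, ∀ a ∈ A, σ a = a) (hAc : A.card = 4) : False := by
  classical
  haveI : Fact (Nat.Prime 5) := ⟨by norm_num⟩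
  obtain ⟨f, e, hf, he, hcomm⟩ := exists_commute_of_card_forty (K := ↥K) hc
  have hf' : orderOf (f : Equiv.Perm GolayPt) = 5 := (Subgroup.orderOf_coe f).trans hf
  have he' : orderOf (e : Equiv.Perm GolayPt) = 2 := (Subgroup.orderOf_coe e).trans he
  have hfA : fixF (f : Equiv.Perm GolayPt) = A := by
    symm
    apply Finset.eq_of_subset_of_card_le
    · intro a ha; exact mem_fixF.2 (hA f.1 f.2 a ha)
    · rw [card_fixF_5 (hK f.2) hf', hAc]
  obtain ⟨u, hu⟩ : ∃ u, u ∈ A := Finset.card_pos.1 (by rw [hAc]; norm_num)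
  have he8 : (fixF (e : Equiv.Perm GolayPt)).card = 8 :=
    card_fixF_two (hK e.2) he' (hA e.1 e.2 u hu)
  have hc' : (f : Equiv.Perm GolayPt) * (e : Equiv.Perm GolayPt)
      = (e : Equiv.Perm GolayPt) * (f : Equiv.Perm GolayPt) := by
    have := congrArg Subtype.val hcomm.eq
    exact this
  have hinv : ∀ p ∈ fixF (e : Equiv.Perm GolayPt),
      (f : Equiv.Perm GolayPt) p ∈ fixF (e : Equiv.Perm GolayPt) := by
    intro p hp
    rw [mem_fixF] at hp ⊢
    have h1 : ((e : Equiv.Perm GolayPt) * (f : Equiv.Perm GolayPt)) p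
        = ((f : Equiv.Perm GolayPt) * (e : Equiv.Perm GolayPt)) p := by rw [hc']
    rw [Equiv.Perm.mul_apply, Equiv.Perm.mul_apply, hp] at h1
    exact h1
  have h1 := card_filter_fixed_modEq (pow_eq_one_of_orderOf hf') _ hinv
  have h2 : (fixF (e : Equiv.Perm GolayPt)).filter
      (fun p => (f : Equiv.Perm GolayPt) p = p) = A := by
    ext p
    rw [Finset.mem_filter]
    constructor
    · rintro ⟨-, hp⟩
      rw [← hfA]; exact mem_fixF.2 hp
    · intro hp
      exact ⟨mem_fixF.2 (hA e.1 e.2 p hp), hA f.1 f.2 p hp⟩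
  rw [h2, he8, hAc] at h1
  unfold Nat.ModEq at h1
  omega

/-- a subgroup of `M24` of the order of `M23` fixes a point -/
theorem exists_fixed_of_card {H : Subgroup (Equiv.Perm GolayPt)} (hH : H ≤ M24)
    (hc : Nat.card H = 10200960) : ∃ q, ∀ h ∈ H, h q = q := by
  classical
  haveI : Fact (Nat.Prime 23) := ⟨by norm_num⟩
  haveI : Fact (Nat.Prime 11) := ⟨by norm_num⟩
  haveI : Fact (Nat.Prime 7) := ⟨by norm_num⟩
  haveI : Fact (Nat.Prime 5) := ⟨by norm_num⟩
  -- stage 0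
  have hA0 : ∀ σ ∈ H, ∀ a ∈ (∅ : Finset GolayPt), σ a = a :=
    fun _ _ a ha => absurd ha (Finset.notMem_empty a)
  obtain ⟨x, hxH, hx⟩ := exists_orderOf_eq H 23 (by rw [hc]; norm_num)
  obtain ⟨q, -, -, hq1⟩ := exists_card_orbF_modEq_one hA0 hxH (pow_eq_one_of_orderOf hx)
    (by rw [card_fixF_23 (hH hxH) hx]; rfl)
  refine ⟨q, ?_⟩
  by_contra hcon
  have hne1 : (orbF H q).card ≠ 1 := fun h1 => hcon (fixed_of_card_orbF_eq_one h1)
  have hle : (orbF H q).card ≤ 24 := by rw [← card_golayPt]; exact Finset.card_le_univ _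
  have h24 : (orbF H q).card = 24 := by
    have := card_orbF_pos H q
    unfold Nat.ModEq at hq1; omega
  have hc1 : Nat.card (stb H q) = 425040 := by
    have := card_stb_mul_card_orbF H q
    rw [h24, hc] at this; omega
  -- stage 1
  obtain ⟨A1, hA1def⟩ : ∃ A1 : Finset GolayPt, A1 = insert q ∅ := ⟨_, rfl⟩
  have hA1c : A1.card = 1 := by rw [hA1def]; simp
  have hA1 : ∀ σ ∈ stb H q, ∀ a ∈ A1, σ a = a := by
    rw [hA1def]; exact stb_fixes hA0 q
  obtain ⟨K1, hK1def⟩ : ∃ K1 : Subgroup (Equiv.Perm GolayPt), K1 = stb H q := ⟨_, rfl⟩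
  rw [← hK1def] at hA1 hc1
  have hM1 : K1 ≤ M24 := by rw [hK1def]; exact (stb_le H q).trans hH
  obtain ⟨x1, hx1K, hx1⟩ := exists_orderOf_eq K1 23 (by rw [hc1]; norm_num)
  obtain ⟨y1, hy1K, hy1⟩ := exists_orderOf_eq K1 11 (by rw [hc1]; norm_num)
  obtain ⟨r, hrA, -, hr1⟩ := exists_card_orbF_modEq_one hA1 hy1K (pow_eq_one_of_orderOf hy1)
    (by rw [card_fixF_11 (hM1 hy1K) hy1, hA1c])
  have hr0 := card_orbF_modEq_zero hA1 hx1K (pow_eq_one_of_orderOf hx1)
    (by rw [card_fixF_23 (hM1 hx1K) hx1, hA1c]) hrA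
  have hrle := card_orbF_add_le (orbF_disjoint hA1 hrA)
  rw [card_golayPt, hA1c] at hrle
  have h23 : (orbF K1 r).card = 23 := by
    have := card_orbF_pos K1 r
    unfold Nat.ModEq at hr0 hr1; omega
  have hc2 : Nat.card (stb K1 r) = 18480 := by
    have := card_stb_mul_card_orbF K1 r
    rw [h23, hc1] at this; omega
  -- stage 2
  obtain ⟨A2, hA2def⟩ : ∃ A2 : Finset GolayPt, A2 = insert r A1 := ⟨_, rfl⟩
  have hA2c : A2.card = 2 := by rw [hA2def, Finset.card_insert_of_notMem hrA, hA1c]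
  have hA2 : ∀ σ ∈ stb K1 r, ∀ a ∈ A2, σ a = a := by
    rw [hA2def]; exact stb_fixes hA1 r
  obtain ⟨K2, hK2def⟩ : ∃ K2 : Subgroup (Equiv.Perm GolayPt), K2 = stb K1 r := ⟨_, rfl⟩
  rw [← hK2def] at hA2 hc2
  have hM2 : K2 ≤ M24 := by rw [hK2def]; exact (stb_le K1 r).trans hM1
  obtain ⟨x2, hx2K, hx2⟩ := exists_orderOf_eq K2 11 (by rw [hc2]; norm_num)
  obtain ⟨y2, hy2K, hy2⟩ := exists_orderOf_eq K2 7 (by rw [hc2]; norm_num)
  obtain ⟨s, hsA, -, hs1⟩ := exists_card_orbF_modEq_one hA2 hy2K (pow_eq_one_of_orderOf hy2)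
    (by rw [card_fixF_7 (hM2 hy2K) hy2, hA2c])
  have hs0 := card_orbF_modEq_zero hA2 hx2K (pow_eq_one_of_orderOf hx2)
    (by rw [card_fixF_11 (hM2 hx2K) hx2, hA2c]) hsA
  have hsle := card_orbF_add_le (orbF_disjoint hA2 hsA)
  rw [card_golayPt, hA2c] at hsle
  have h22 : (orbF K2 s).card = 22 := by
    have := card_orbF_pos K2 s
    unfold Nat.ModEq at hs0 hs1; omega
  have hc3 : Nat.card (stb K2 s) = 840 := by
    have := card_stb_mul_card_orbF K2 s
    rw [h22, hc2] at this; omega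
  -- stage 3
  obtain ⟨A3, hA3def⟩ : ∃ A3 : Finset GolayPt, A3 = insert s A2 := ⟨_, rfl⟩
  have hA3c : A3.card = 3 := by rw [hA3def, Finset.card_insert_of_notMem hsA, hA2c]
  have hA3 : ∀ σ ∈ stb K2 s, ∀ a ∈ A3, σ a = a := by
    rw [hA3def]; exact stb_fixes hA2 s
  obtain ⟨K3, hK3def⟩ : ∃ K3 : Subgroup (Equiv.Perm GolayPt), K3 = stb K2 s := ⟨_, rfl⟩
  rw [← hK3def] at hA3 hc3
  have hM3 : K3 ≤ M24 := by rw [hK3def]; exact (stb_le K2 s).trans hM2
  obtain ⟨x3, hx3K, hx3⟩ := exists_orderOf_eq K3 7 (by rw [hc3]; norm_num)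
  obtain ⟨y3, hy3K, hy3⟩ := exists_orderOf_eq K3 5 (by rw [hc3]; norm_num)
  obtain ⟨u, huA, -, hu1⟩ := exists_card_orbF_modEq_one hA3 hy3K (pow_eq_one_of_orderOf hy3)
    (by rw [card_fixF_5 (hM3 hy3K) hy3, hA3c])
  have hu0 := card_orbF_modEq_zero hA3 hx3K (pow_eq_one_of_orderOf hx3)
    (by rw [card_fixF_7 (hM3 hx3K) hx3, hA3c]) huA
  have hule := card_orbF_add_le (orbF_disjoint hA3 huA)
  rw [card_golayPt, hA3c] at hule
  have h21 : (orbF K3 u).card = 21 := by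
    have := card_orbF_pos K3 u
    unfold Nat.ModEq at hu0 hu1; omega
  have hc4 : Nat.card (stb K3 u) = 40 := by
    have := card_stb_mul_card_orbF K3 u
    rw [h21, hc3] at this; omega
  -- stage 4
  exact no_forty ((stb_le K3 u).trans hM3) hc4 (stb_fixes hA3 u)
    (by rw [Finset.card_insert_of_notMem huA, hA3c])

end Cfsg.Agent.Lib.Helper86.M24Index
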