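import Mathlib
import Cfsg.Agent.Lib.Helper86.MathieuSmall

set_option autoImplicit false

/-! # `2`-groups of permutations of the 24 points given by polycyclic lists of tables -/

namespace Cfsg.Agent.Lib.Helper86

open Cfsg Cfsg.Agent.Lib.Helper6.Golay Cfsg.Agent.Lib.Helper6.M24 Cfsg.Agent.Lib.Helper6.M12
open scoped Pointwise

theorem tabValid_orMask {a : List ℕ} (ha : tabValid a = true) : orMask a = 16777215 := by
  unfold tabValid at ha
  simp only [Bool.and_eq_true] at ha
  exact Nat.eq_of_beq_eq_true ha.2.1

theorem tabValid_tabMul {a b : List ℕ} (ha : tabValid a = true) (hb : tabValid b = true) :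
    tabValid (tabMul a b) = true := by
  have hlb := tabValid_length hb
  have hmem : ∀ x ∈ tabMul a b, x < 24 := by
    intro x hx
    unfold tabMul at hx
    rw [List.mem_map] at hx
    obtain ⟨j, hj, rfl⟩ := hx
    exact getD_lt ha (tabValid_lt hb j hj)
  unfold tabValid
  simp only [Bool.and_eq_true]
  refine ⟨?_, ?_, ?_⟩
  · have : (tabMul a b).length = 24 := by unfold tabMul; rw [List.length_map, hlb]
    rw [this]; rfl
  · have : orMask (tabMul a b) = 16777215 := by
      apply Nat.eq_of_testBit_eq
      intro i
      by_cases hi : i < 24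
      · have h1 : (16777215 : ℕ).testBit i = true := by
          rw [show (16777215 : ℕ) = 2 ^ 24 - 1 by norm_num, Nat.testBit_two_pow_sub_one]
          simpa using hi
        rw [h1, testBit_orMask]
        obtain ⟨k, hk, hki⟩ := List.getElem_of_mem (tabValid_mem ha i hi)
        have hk24 : k < 24 := by rw [tabValid_length ha] at hk; exact hk
        have hkb := tabValid_mem hb k hk24
        unfold tabMul
        rw [List.mem_map]
        refine ⟨k, hkb, ?_⟩
        rw [List.getD_eq_getElem _ _ hk, hki]
      · have h1 : (16777215 : ℕ).testBit i = false := by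
          rw [show (16777215 : ℕ) = 2 ^ 24 - 1 by norm_num, Nat.testBit_two_pow_sub_one]
          simpa using hi
        rw [h1]
        by_contra hcon
        rw [Bool.not_eq_false, testBit_orMask] at hcon
        exact hi (hmem i hcon)
    rw [this]; rfl
  · rw [List.all_eq_true]
    intro x hx
    have := hmem x hx
    simpa [Nat.blt] using this

theorem tabPermD_mul {a b : List ℕ} (ha : tabValid a = true) (hb : tabValid b = true) :
    tabPermD (tabMul a b) = tabPermD a * tabPermD b := by
  rw [tabPermD_eq ha, tabPermD_eq hb, tabPermD_eq (tabValid_tabMul ha hb), tabPerm_mul]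

theorem tabPermD_inj {a b : List ℕ} (ha : tabValid a = true) (hb : tabValid b = true)
    (e : tabPermD a = tabPermD b) : a = b := by
  rw [tabPermD_eq ha, tabPermD_eq hb] at e
  exact tabPerm_inj ha hb e

theorem tabValid_range : tabValid (List.range 24) = true := by decide +kernel

theorem tabMul_range {a : List ℕ} (ha : tabValid a = true) : tabMul a (List.range 24) = a := by
  apply tabPermD_inj (tabValid_tabMul ha tabValid_range) ha
  rw [tabPermD_mul ha tabValid_range, tabPermD_one, mul_one]

/-! ### polycyclic lists -/

/-- all products `y₁^{e₁} ⋯ yₙ^{eₙ}`, `eᵢ ∈ {0, 1}` -/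
def pcList : List (List ℕ) → List (List ℕ)
  | [] => [List.range 24]
  | y :: ys => pcList ys ++ (pcList ys).map (tabMul y)

theorem pcList_length (ys : List (List ℕ)) : (pcList ys).length = 2 ^ ys.length := by
  induction ys with
  | nil => rfl
  | cons y ys ih =>
    show (pcList ys ++ (pcList ys).map (tabMul y)).length = _
    rw [List.length_append, List.length_map, ih, List.length_cons, pow_succ]
    ring

/-- the subgroup generated by the tables `ys` -/
noncomputable def pcGroup (ys : List (List ℕ)) : Subgroup (Equiv.Perm GolayPt) :=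
  Subgroup.closure {σ | ∃ y ∈ ys, σ = tabPermD y}

theorem pcGroup_mono {y : List ℕ} {ys : List (List ℕ)} : pcGroup ys ≤ pcGroup (y :: ys) := by
  apply Subgroup.closure_mono
  rintro σ ⟨y', hy', rfl⟩
  exact ⟨y', List.mem_cons_of_mem _ hy', rfl⟩

theorem tabPermD_mem_pcGroup {y : List ℕ} {ys : List (List ℕ)} (hy : y ∈ ys) :
    tabPermD y ∈ pcGroup ys :=
  Subgroup.subset_closure ⟨y, hy, rfl⟩

theorem pcList_valid : ∀ {ys : List (List ℕ)}, ys.all tabValid = true →
    ∀ t ∈ pcList ys, tabValid t = true
  | [], _, t, ht => by
    rw [pcList, List.mem_singleton] at ht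
    rw [ht]; exact tabValid_range
  | y :: ys, h, t, ht => by
    rw [List.all_cons, Bool.and_eq_true] at h
    rw [pcList, List.mem_append, List.mem_map] at ht
    rcases ht with ht | ⟨t', ht', rfl⟩
    · exact pcList_valid h.2 t ht
    · exact tabValid_tabMul h.1 (pcList_valid h.2 t' ht')

theorem range_mem_pcList : ∀ ys : List (List ℕ), List.range 24 ∈ pcList ys
  | [] => by rw [pcList]; exact List.mem_singleton.2 rfl
  | y :: ys => by
    rw [pcList, List.mem_append]
    exact Or.inl (range_mem_pcList ys)

theorem pcList_mem : ∀ {ys : List (List ℕ)}, ys.all tabValid = true →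
    ∀ t ∈ pcList ys, tabPermD t ∈ pcGroup ys
  | [], _, t, ht => by
    rw [pcList, List.mem_singleton] at ht
    rw [ht, tabPermD_one]; exact Subgroup.one_mem _
  | y :: ys, h, t, ht => by
    have h' := h
    rw [List.all_cons, Bool.and_eq_true] at h
    rw [pcList, List.mem_append, List.mem_map] at ht
    rcases ht with ht | ⟨t', ht', rfl⟩
    · exact pcGroup_mono (pcList_mem h.2 t ht)
    · rw [tabPermD_mul h.1 (pcList_valid h.2 t' ht')]
      exact Subgroup.mul_mem _ (tabPermD_mem_pcGroup (List.mem_cons_self))
        (pcGroup_mono (pcList_mem h.2 t' ht'))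

/-- membership of a code in a list of codes -/
def memB (c : ℕ) : List ℕ → Bool
  | [] => false
  | a :: l => or (Nat.beq a c) (memB c l)

theorem memB_iff (c : ℕ) : ∀ l : List ℕ, memB c l = true ↔ c ∈ l
  | [] => by simp [memB]
  | a :: l => by
    rw [memB, Bool.or_eq_true, memB_iff c l, List.mem_cons]
    constructor
    · rintro (h | h)
      · exact Or.inl (Nat.eq_of_beq_eq_true h).symm
      · exact Or.inr h
    · rintro (h | h)
      · rw [h]; exact Or.inl (Nat.beq_refl a)
      · exact Or.inr h

/-- pairwise distinct codes -/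
def distinctB : List ℕ → Bool
  | [] => true
  | a :: l => and (not (memB a l)) (distinctB l)

theorem distinctB_nodup : ∀ l : List ℕ, distinctB l = true → l.Nodup
  | [], _ => List.nodup_nil
  | a :: l, h => by
    rw [distinctB, Bool.and_eq_true, Bool.not_eq_true', ← Bool.not_eq_true, memB_iff] at h
    exact List.nodup_cons.2 ⟨h.1, distinctB_nodup l h.2⟩

/-- a table as a single number (radix 32, first entry lowest) -/
def tcode : List ℕ → ℕ
  | [] => 0
  | a :: l => Nat.add a (Nat.mul 32 (tcode l))

theorem tcode_inj : ∀ {a b : List ℕ}, a.length = b.length → (∀ i ∈ a, i < 24) →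
    (∀ i ∈ b, i < 24) → tcode a = tcode b → a = b
  | [], [], _, _, _, _ => rfl
  | [], _ :: _, h, _, _, _ => by simp at h
  | _ :: _, [], h, _, _, _ => by simp at h
  | x :: a, y :: b, h, ha, hb, e => by
    have hx := ha x List.mem_cons_self
    have hy := hb y List.mem_cons_self
    have e' : x + 32 * tcode a = y + 32 * tcode b := e
    have h1 : x = y := by omega
    have h2 : tcode a = tcode b := by omega
    rw [h1, tcode_inj (by simpa using h) (fun i hi => ha i (List.mem_cons_of_mem _ hi))
      (fun i hi => hb i (List.mem_cons_of_mem _ hi)) h2]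

theorem tcode_mem {t : List ℕ} {L : List (List ℕ)} (hv : tabValid t = true)
    (hL : ∀ t' ∈ L, tabValid t' = true) (h : tcode t ∈ L.map tcode) : t ∈ L := by
  rw [List.mem_map] at h
  obtain ⟨t', ht', e⟩ := h
  have : t' = t := tcode_inj (by rw [tabValid_length (hL t' ht'), tabValid_length hv])
    (tabValid_lt (hL t' ht')) (tabValid_lt hv) e
  rwa [← this]

/-- the list of the group elements is closed under left multiplication by the generators -/
def closedOK (ys : List (List ℕ)) : Bool :=
  (pcList ys).all (fun t => ys.all (fun y => memB (tcode (tabMul y t)) ((pcList ys).map tcode)))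

theorem pcGroup_le {ys : List (List ℕ)} (hv : ys.all tabValid = true) (hc : closedOK ys = true)
    {σ : Equiv.Perm GolayPt} (hσ : σ ∈ pcGroup ys) : ∃ t ∈ pcList ys, σ = tabPermD t := by
  have hvy : ∀ y ∈ ys, tabValid y = true := List.all_eq_true.1 hv
  have key : ∀ τ ∈ Submonoid.closure {σ : Equiv.Perm GolayPt | ∃ y ∈ ys, σ = tabPermD y},
      ∃ t ∈ pcList ys, τ = tabPermD t := by
    intro τ hτ
    induction hτ using Submonoid.closure_induction_left with
    | one => exact ⟨_, range_mem_pcList ys, tabPermD_one.symm⟩
    | mul_left x hx τ _ ih =>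
      obtain ⟨y, hy, rfl⟩ := hx
      obtain ⟨t, ht, rfl⟩ := ih
      have htv := pcList_valid hv t ht
      refine ⟨tabMul y t, ?_, (tabPermD_mul (hvy y hy) htv).symm⟩
      unfold closedOK at hc
      rw [List.all_eq_true] at hc
      have h2 := hc t ht
      rw [List.all_eq_true] at h2
      have h3 := h2 y hy
      rw [memB_iff] at h3
      exact tcode_mem (tabValid_tabMul (hvy y hy) htv) (pcList_valid hv) h3
  apply key
  have h1 : σ ∈ (pcGroup ys).toSubmonoid := hσ
  unfold pcGroup at h1
  rwa [Subgroup.closure_toSubmonoid_of_finite] at h1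

theorem mem_pcList_of_mem {ys : List (List ℕ)} (hv : ys.all tabValid = true)
    (hc : closedOK ys = true) {t : List ℕ} (ht : tabValid t = true)
    (h : tabPermD t ∈ pcGroup ys) : t ∈ pcList ys := by
  obtain ⟨t', ht', e⟩ := pcGroup_le hv hc h
  rw [tabPermD_inj ht (pcList_valid hv t' ht') e]
  exact ht'

theorem card_pcGroup {ys : List (List ℕ)} (hv : ys.all tabValid = true)
    (hc : closedOK ys = true) (hd : distinctB ((pcList ys).map tcode) = true) :
    Nat.card (pcGroup ys) = 2 ^ ys.length := by
  have hnd : (pcList ys).Nodup := (distinctB_nodup _ hd).of_map _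
  let φ : {t // t ∈ (pcList ys).toFinset} → pcGroup ys := fun t =>
    ⟨tabPermD t.1, pcList_mem hv t.1 (List.mem_toFinset.1 t.2)⟩
  have hφ : Function.Bijective φ := by
    constructor
    · intro a b hab
      have := congrArg Subtype.val hab
      exact Subtype.ext (tabPermD_inj (pcList_valid hv a.1 (List.mem_toFinset.1 a.2))
        (pcList_valid hv b.1 (List.mem_toFinset.1 b.2)) this)
    · intro σ
      obtain ⟨t, ht, e⟩ := pcGroup_le hv hc σ.2
      exact ⟨⟨t, List.mem_toFinset.2 ht⟩, Subtype.ext e.symm⟩
  rw [← Nat.card_congr (Equiv.ofBijective φ hφ), Nat.card_eq_fintype_card, Fintype.card_coe,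
    List.toFinset_card_of_nodup hnd, pcList_length]

end Cfsg.Agent.Lib.Helper86
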