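import Mathlib
import Cfsg.Agent.Lib.Helper86.TabGroup
import Cfsg.Agent.Lib.Helper86.FusionData

set_option autoImplicit false

/-! # Simplicity of `2`-fusion systems of permutation groups on the 24 points, by certificate

`isSimple_of_cert`: for a subgroup `M` of the permutations of the 24 points (with a boolean
membership test on tables), a polycyclic list `ys` of tables generating a `2`-subgroup `P` of
order the full `2`-part of `|M|`, its central involution `z`, coset representatives along
`M ≥ Stab_M(Fix z) ≥ C_M(z) ≥ N_M(P)` and a fusion chain from `z` to all of `P`, the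
`2`-fusion system of `M` on any Sylow `2`-subgroup is simple. -/

namespace Cfsg.Agent.Lib.Helper86

open Cfsg Cfsg.Agent.Lib.Helper6.Golay Cfsg.Agent.Lib.Helper6.M24 Cfsg.Agent.Lib.Helper6.M12
open scoped Pointwise

/-! ### products of tables -/

theorem tabValid_tabProd : ∀ {L : List (List ℕ)}, (∀ t ∈ L, tabValid t = true) →
    tabValid (tabProd L) = true
  | [], _ => tabValid_range
  | a :: _, h => tabValid_tabMul (h a List.mem_cons_self)
      (tabValid_tabProd (fun t ht => h t (List.mem_cons_of_mem _ ht)))

theorem tabPermD_tabProd : ∀ {L : List (List ℕ)}, (∀ t ∈ L, tabValid t = true) →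
    tabPermD (tabProd L) = (L.map tabPermD).prod
  | [], _ => by rw [List.map_nil, List.prod_nil]; exact tabPermD_one
  | a :: L, h => by
    have hL : ∀ t ∈ L, tabValid t = true := fun t ht => h t (List.mem_cons_of_mem _ ht)
    rw [List.map_cons, List.prod_cons, ← tabPermD_tabProd hL]
    exact tabPermD_mul (h a List.mem_cons_self) (tabValid_tabProd hL)

/-- equality of tables through codes -/
def tabEq (a b : List ℕ) : Bool := Nat.beq (tcode a) (tcode b)

theorem tabEq_iff {a b : List ℕ} (ha : tabValid a = true) (hb : tabValid b = true) :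
    tabEq a b = true ↔ a = b := by
  unfold tabEq
  constructor
  · intro h
    exact tcode_inj (by rw [tabValid_length ha, tabValid_length hb]) (tabValid_lt ha)
      (tabValid_lt hb) (Nat.eq_of_beq_eq_true h)
  · intro h
    rw [h]; exact Nat.beq_refl _

/-- the two tables commute -/
def commB (a b : List ℕ) : Bool := tabEq (tabMul a b) (tabMul b a)

theorem commB_iff {a b : List ℕ} (ha : tabValid a = true) (hb : tabValid b = true) :
    commB a b = true ↔ tabPermD a * tabPermD b = tabPermD b * tabPermD a := by
  unfold commB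
  rw [tabEq_iff (tabValid_tabMul ha hb) (tabValid_tabMul hb ha), ← tabPermD_mul ha hb,
    ← tabPermD_mul hb ha]
  constructor
  · intro h; rw [h]
  · intro h; exact tabPermD_inj (tabValid_tabMul ha hb) (tabValid_tabMul hb ha) h

/-! ### the center -/

/-- `z` is a nontrivial element of the group, central, and the only nontrivial central element -/
def centerOK (ys : List (List ℕ)) (z : List ℕ) : Bool :=
  and (tabValid z) (and (memB (tcode z) ((pcList ys).map tcode))
   (and (not (tabEq z (List.range 24)))
    (and (ys.all (fun y => commB y z))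
     ((pcList ys).all (fun t => or (not (ys.all (fun y => commB y t)))
        (or (tabEq t (List.range 24)) (tabEq t z)))))))

theorem centerOK_spec {ys : List (List ℕ)} {z : List ℕ} (hv : ys.all tabValid = true)
    (hc : closedOK ys = true) (h : centerOK ys z = true) :
    tabValid z = true ∧ tabPermD z ∈ pcGroup ys ∧ tabPermD z ≠ 1 ∧
    (∀ y ∈ pcGroup ys, y * tabPermD z = tabPermD z * y) ∧
    (∀ x ∈ pcGroup ys, (∀ y ∈ pcGroup ys, y * x = x * y) → x = 1 ∨ x = tabPermD z) := by
  have hvy : ∀ y ∈ ys, tabValid y = true := List.all_eq_true.1 hv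
  unfold centerOK at h
  simp only [Bool.and_eq_true] at h
  obtain ⟨hzv, hzL, hz1, hzc, hall⟩ := h
  rw [memB_iff] at hzL
  have hzmem := tcode_mem hzv (pcList_valid hv) hzL
  refine ⟨hzv, pcList_mem hv z hzmem, ?_, ?_, ?_⟩
  · intro h1
    rw [← tabPermD_one] at h1
    have := tabPermD_inj hzv tabValid_range h1
    rw [this] at hz1
    have h2 : tabEq (List.range 24) (List.range 24) = true :=
      (tabEq_iff tabValid_range tabValid_range).2 rfl
    rw [h2] at hz1
    exact absurd hz1 (by decide)
  · have hle : pcGroup ys ≤ Subgroup.centralizer {tabPermD z} := by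
      unfold pcGroup
      rw [Subgroup.closure_le]
      rintro σ ⟨y, hy, rfl⟩
      rw [SetLike.mem_coe, Subgroup.mem_centralizer_iff]
      intro w hw
      rw [Set.mem_singleton_iff.mp hw]
      exact ((commB_iff (hvy y hy) hzv).1 (List.all_eq_true.1 hzc y hy)).symm
    intro y hy
    have := Subgroup.mem_centralizer_iff.mp (hle hy) (tabPermD z) rfl
    exact this.symm
  · intro x hx hcomm
    obtain ⟨t, ht, rfl⟩ := pcGroup_le hv hc hx
    have htv := pcList_valid hv t ht
    have h1 := List.all_eq_true.1 hall t ht
    have h2 : ys.all (fun y => commB y t) = true := by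
      rw [List.all_eq_true]
      intro y hy
      exact (commB_iff (hvy y hy) htv).2 (hcomm _ (tabPermD_mem_pcGroup hy))
    rw [h2] at h1
    simp only [Bool.not_true, Bool.false_or, Bool.or_eq_true] at h1
    rcases h1 with h1 | h1
    · left
      rw [(tabEq_iff htv tabValid_range).1 h1, tabPermD_one]
    · right
      rw [(tabEq_iff htv hzv).1 h1]

/-! ### fixed points -/

/-- the mask `maskO` is the set of fixed points of the table `z` -/
def fixOK (z : List ℕ) (maskO : ℕ) : Bool :=
  (List.range 24).all (fun i => not (xor (Nat.beq (z.getD i 0) i)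
    (Nat.beq (Nat.land (Nat.shiftRight maskO i) 1) 1)))

theorem fixOK_spec {z : List ℕ} {maskO : ℕ} (hv : tabValid z = true)
    (h : fixOK z maskO = true) (p : GolayPt) :
    tabPermD z p = p ↔ p ∈ suppMask maskO := by
  unfold fixOK at h
  rw [List.all_eq_true] at h
  have h1 := h (idx p) (List.mem_range.2 (idx_lt p))
  rw [land_shiftRight_one] at h1
  rw [tabPermD_eq hv, tabPerm_apply, mem_suppMask]
  have h2 : pt (z.getD (idx p) 0) = p ↔ z.getD (idx p) 0 = idx p := by
    constructor
    · intro e
      have := congrArg idx e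
      rwa [idx_pt (getD_lt hv (idx_lt p))] at this
    · intro e
      rw [e, pt_idx]
  rw [h2]
  by_cases hb : maskO.testBit (idx p) = true
  · rw [hb] at h1
    simp only [Bool.toNat_true, Nat.beq_refl, Bool.not_eq_true', Bool.xor_true,
      Bool.not_eq_false'] at h1
    exact ⟨fun _ => hb, fun _ => Nat.eq_of_beq_eq_true h1⟩
  · rw [Bool.not_eq_true] at hb
    rw [hb] at h1
    have h3 : Nat.beq 0 1 = false := rfl
    simp only [Bool.toNat_false, h3, Bool.xor_false, Bool.not_eq_true'] at h1
    constructor
    · intro e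
      rw [e, Nat.beq_refl] at h1
      exact absurd h1 (by decide)
    · intro e
      rw [hb] at e
      exact absurd e (by decide)

theorem smul_eq_of_commute {zσ g : Equiv.Perm GolayPt} {O : Finset GolayPt}
    (hfix : ∀ p, zσ p = p ↔ p ∈ O) (h : g * zσ = zσ * g) : g • O = O := by
  rw [smul_finset_eq]
  apply Finset.eq_of_subset_of_card_le
  · intro q hq
    rw [Finset.mem_image] at hq
    obtain ⟨p, hp, rfl⟩ := hq
    rw [← hfix]
    have h1 := congrArg (fun f : Equiv.Perm GolayPt => f p) h
    simp only [Equiv.Perm.mul_apply] at h1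
    rw [← h1, (hfix p).2 hp]
  · rw [Finset.card_image_of_injective _ g.injective]

theorem tabPermD_smul_suppMask {t : List ℕ} (hv : tabValid t = true) (n : ℕ) :
    tabPermD t • suppMask n = suppMask (pm t 0 n) := by
  rw [tabPermD_eq hv]
  exact (maps_tabPerm t hv n).image

/-! ### the three lists of coset representatives -/

/-- the images of the mask under the tables are pairwise distinct -/
def masksOK (maskO : ℕ) (ts : List (List ℕ)) : Bool :=
  and ((ts.map (fun t => pm t 0 maskO)).all (fun m => Nat.blt m 16777216))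
    (distinctB (ts.map (fun t => pm t 0 maskO)))

theorem masksOK_spec {maskO : ℕ} {ts : List (List ℕ)} (hv : ∀ t ∈ ts, tabValid t = true)
    (h : masksOK maskO ts = true) :
    ((ts.map tabPermD).map (fun g => g • suppMask maskO)).Nodup := by
  unfold masksOK at h
  rw [Bool.and_eq_true, List.all_eq_true] at h
  obtain ⟨hlt, hd⟩ := h
  have hnd := distinctB_nodup _ hd
  have e : (ts.map tabPermD).map (fun g => g • suppMask maskO) =
      (ts.map (fun t => pm t 0 maskO)).map suppMask := by
    rw [List.map_map, List.map_map]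
    apply List.map_congr_left
    intro t ht
    exact tabPermD_smul_suppMask (hv t ht) maskO
  rw [e]
  apply List.Nodup.map_on _ hnd
  intro a ha b hb hab
  have h1 := hlt a ha
  have h2 := hlt b hb
  simp only [Nat.blt_eq] at h1 h2
  exact suppMask_inj (by norm_num; exact h1) (by norm_num; exact h2) hab

/-- second list: elements `b` of `M` fixing the mask, with the tables of `b z b⁻¹`, pairwise
distinct -/
def ts2OK (inM : List ℕ → Bool) (z : List ℕ) (maskO : ℕ) (ts2 : List (List ℕ × List ℕ)) : Bool :=
  and (ts2.all (fun p => and (inM p.1) (and (Nat.beq (pm p.1 0 maskO) maskO)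
      (and (tabValid p.2) (tabEq (tabMul p.1 z) (tabMul p.2 p.1))))))
    (distinctB (ts2.map (fun p => tcode p.2)))

/-- `R` holds between each entry and every later one -/
def pairsOK {α : Type} (f : α → α → Bool) : List α → Bool
  | [] => true
  | a :: l => and (l.all (f a)) (pairsOK f l)

theorem pairsOK_spec {α : Type} (f : α → α → Bool) : ∀ l : List α, pairsOK f l = true →
    l.Pairwise (fun a b => f a b = true)
  | [], _ => List.Pairwise.nil
  | a :: l, h => by
    rw [pairsOK, Bool.and_eq_true, List.all_eq_true] at h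
    exact List.Pairwise.cons h.1 (pairsOK_spec f l h.2)

/-- third list: elements `c` of `M` commuting with `z`, with their inverses, such that
`a⁻¹ b` never normalizes the group -/
def ts3OK (inM : List ℕ → Bool) (ys : List (List ℕ)) (z : List ℕ)
    (ts3 : List (List ℕ × List ℕ)) : Bool :=
  and (ts3.all (fun p => and (inM p.1) (and (tabValid p.2)
      (and (tabEq (tabMul p.1 p.2) (List.range 24)) (commB p.1 z)))))
    (pairsOK (fun a b => ys.any (fun y =>
      not (memB (tcode (tabProd [a.2, b.1, y, b.2, a.1])) ((pcList ys).map tcode)))) ts3)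

/-! ### fusion chains -/

/-- a fusion chain: each step `(c, w, v)` certifies `c * ∏ D[wᵢ] = v * c` with `c ∈ M` and `v`
in the group; `v` is then appended to `D` -/
def chainOK (inM : List ℕ → Bool) (Lc : List ℕ) :
    List (List ℕ) → List (List ℕ × List ℕ × List ℕ) → Bool
  | _, [] => true
  | D, (c, w, v) :: rest =>
    and (inM c) (and (tabValid v) (and (memB (tcode v) Lc)
      (and (tabEq (tabMul c (tabProd (w.map (fun i => D.getD i (List.range 24))))) (tabMul v c))
        (chainOK inM Lc (D ++ [v]) rest))))

/-- the tables derived by a fusion chain -/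
def chainOut : List (List ℕ) → List (List ℕ × List ℕ × List ℕ) → List (List ℕ)
  | D, [] => D
  | D, (_, _, v) :: rest => chainOut (D ++ [v]) rest

theorem chain_spec (M P T : Subgroup (Equiv.Perm GolayPt)) (inM : List ℕ → Bool)
    (hinM : ∀ t, inM t = true → tabValid t = true ∧ tabPermD t ∈ M) (Lc : List ℕ)
    (hL : ∀ t, tabValid t = true → tcode t ∈ Lc → tabPermD t ∈ P)
    (hT : ∀ x ∈ T, ∀ g ∈ M, g * x * g⁻¹ ∈ P → g * x * g⁻¹ ∈ T) :
    ∀ (steps : List (List ℕ × List ℕ × List ℕ)) (D : List (List ℕ)),
      (∀ t ∈ D, tabValid t = true ∧ tabPermD t ∈ T) → chainOK inM Lc D steps = true →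
      ∀ t ∈ chainOut D steps, tabValid t = true ∧ tabPermD t ∈ T
  | [], D, hD, _ => hD
  | (c, w, v) :: rest, D, hD, h => by
    rw [chainOK] at h
    simp only [Bool.and_eq_true] at h
    obtain ⟨hc, hvv, hvL, heq, hrest⟩ := h
    rw [memB_iff] at hvL
    obtain ⟨hcv, hcM⟩ := hinM c hc
    have hget : ∀ i : ℕ, tabValid (D.getD i (List.range 24)) = true ∧
        tabPermD (D.getD i (List.range 24)) ∈ T := by
      intro i
      by_cases hi : i < D.length
      · rw [List.getD_eq_getElem _ _ hi]
        exact hD _ (List.getElem_mem hi)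
      · rw [List.getD_eq_default _ _ (by omega)]
        exact ⟨tabValid_range, by rw [tabPermD_one]; exact T.one_mem⟩
    have hwv : ∀ t ∈ w.map (fun i => D.getD i (List.range 24)), tabValid t = true := by
      intro t ht
      rw [List.mem_map] at ht
      obtain ⟨i, _, rfl⟩ := ht
      exact (hget i).1
    have huv := tabValid_tabProd hwv
    have huT : tabPermD (tabProd (w.map (fun i => D.getD i (List.range 24)))) ∈ T := by
      rw [tabPermD_tabProd hwv]
      apply Subgroup.list_prod_mem
      intro x hx
      rw [List.mem_map] at hx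
      obtain ⟨t, ht, rfl⟩ := hx
      rw [List.mem_map] at ht
      obtain ⟨i, _, rfl⟩ := ht
      exact (hget i).2
    have e1 := (tabEq_iff (tabValid_tabMul hcv huv) (tabValid_tabMul hvv hcv)).1 heq
    have e2 : tabPermD c * tabPermD (tabProd (w.map (fun i => D.getD i (List.range 24)))) =
        tabPermD v * tabPermD c := by
      rw [← tabPermD_mul hcv huv, ← tabPermD_mul hvv hcv, e1]
    have e3 : tabPermD c * tabPermD (tabProd (w.map (fun i => D.getD i (List.range 24)))) *
        (tabPermD c)⁻¹ = tabPermD v := by
      rw [e2, mul_inv_cancel_right]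
    have hvT : tabPermD v ∈ T := by
      have := hT _ huT _ hcM (by rw [e3]; exact hL v hvv hvL)
      rwa [e3] at this
    apply chain_spec M P T inM hinM Lc hL hT rest (D ++ [v]) _ hrest
    intro t ht
    rw [List.mem_append, List.mem_singleton] at ht
    rcases ht with ht | rfl
    · exact hD t ht
    · exact ⟨hvv, hvT⟩

/-! ### the certificate theorem -/

theorem isSimple_of_cert (M : Subgroup (Equiv.Perm GolayPt)) (inM : List ℕ → Bool)
    (hinM : ∀ t, inM t = true → tabValid t = true ∧ tabPermD t ∈ M)
    (ys : List (List ℕ)) (z : List ℕ) (maskO : ℕ) (ts1 : List (List ℕ))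
    (ts2 ts3 : List (List ℕ × List ℕ)) (steps : List (List ℕ × List ℕ × List ℕ)) (m : ℕ)
    (hM : Nat.card M = 2 ^ ys.length * m) (hm : m % 2 = 1) (hn : ys ≠ [])
    (hcount : m = ts1.length * ts2.length * ts3.length)
    (h1 : ys.all inM = true) (h2 : closedOK ys = true)
    (h3 : distinctB ((pcList ys).map tcode) = true)
    (h4 : centerOK ys z = true) (h5 : fixOK z maskO = true)
    (h6 : ts1.all inM = true) (h7 : masksOK maskO ts1 = true)
    (h8 : ts2OK inM z maskO ts2 = true) (h9 : ts3OK inM ys z ts3 = true)
    (h10 : chainOK inM ((pcList ys).map tcode) [z] steps = true)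
    (h11 : ys.all (fun y => memB (tcode y) ((chainOut [z] steps).map tcode)) = true)
    (S : Sylow 2 M) : (Cfsg.groupFusionSystem (S : Subgroup M)).IsSimple 2 := by
  have hyM : ∀ y ∈ ys, tabValid y = true ∧ tabPermD y ∈ M := fun y hy =>
    hinM y (List.all_eq_true.1 h1 y hy)
  have hv : ys.all tabValid = true := List.all_eq_true.2 (fun y hy => (hyM y hy).1)
  have hvy : ∀ y ∈ ys, tabValid y = true := fun y hy => (hyM y hy).1
  have hPM : pcGroup ys ≤ M := by
    unfold pcGroup
    rw [Subgroup.closure_le]
    rintro σ ⟨y, hy, rfl⟩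
    exact (hyM y hy).2
  have hP : Nat.card (pcGroup ys) = 2 ^ ys.length := card_pcGroup hv h2 h3
  have hP2 : IsPGroup 2 (pcGroup ys) := IsPGroup.of_card hP
  obtain ⟨hzv, hzP, hz1, hzc, hzcen⟩ := centerOK_spec hv h2 h4
  have hfix := fixOK_spec hzv h5
  have hLc : ∀ t, tabValid t = true → tcode t ∈ (pcList ys).map tcode →
      tabPermD t ∈ pcGroup ys := fun t ht hm =>
    pcList_mem hv t (tcode_mem ht (pcList_valid hv) hm)
  apply isSimple_of_subgroup_data M (pcGroup ys) hPM ys.length m hP hM (by omega)
    (by rw [Ne, List.length_eq_zero_iff]; exact hn)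
  · -- no proper nontrivial strongly closed subgroup
    intro T hTP hT1 hT
    have hzT := mem_of_closed_of_center hPM hP2 hzcen hTP hT1 hT
    have hchain := chain_spec M (pcGroup ys) T inM hinM _ hLc hT steps [z]
      (by
        intro t ht
        rw [List.mem_singleton] at ht
        rw [ht]; exact ⟨hzv, hzT⟩) h10
    apply le_antisymm hTP
    unfold pcGroup
    rw [Subgroup.closure_le]
    rintro σ ⟨y, hy, rfl⟩
    have h12 := List.all_eq_true.1 h11 y hy
    rw [memB_iff] at h12
    exact (hchain y (tcode_mem (hvy y hy) (fun t ht => (hchain t ht).1) h12)).2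
  · -- self-normalizing
    unfold ts2OK at h8
    rw [Bool.and_eq_true, List.all_eq_true] at h8
    obtain ⟨h8a, h8b⟩ := h8
    unfold ts3OK at h9
    rw [Bool.and_eq_true, List.all_eq_true] at h9
    obtain ⟨h9a, h9b⟩ := h9
    have h2spec : ∀ p ∈ ts2, tabValid p.1 = true ∧ tabPermD p.1 ∈ M ∧
        tabPermD p.1 • suppMask maskO = suppMask maskO ∧ tabValid p.2 = true ∧
        tabPermD p.1 * tabPermD z * (tabPermD p.1)⁻¹ = tabPermD p.2 := by
      intro p hp
      have h := h8a p hp
      simp only [Bool.and_eq_true] at h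
      obtain ⟨hpM, hpO, hpv, hpe⟩ := h
      obtain ⟨hv1, hM1⟩ := hinM _ hpM
      refine ⟨hv1, hM1, ?_, hpv, ?_⟩
      · rw [tabPermD_smul_suppMask hv1, Nat.eq_of_beq_eq_true hpO]
      · have e := (tabEq_iff (tabValid_tabMul hv1 hzv) (tabValid_tabMul hpv hv1)).1 hpe
        rw [← tabPermD_mul hv1 hzv, e, tabPermD_mul hpv hv1, mul_inv_cancel_right]
    have h3spec : ∀ p ∈ ts3, tabValid p.1 = true ∧ tabPermD p.1 ∈ M ∧ tabValid p.2 = true ∧
        tabPermD p.2 = (tabPermD p.1)⁻¹ ∧
        tabPermD p.1 * tabPermD z = tabPermD z * tabPermD p.1 := by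
      intro p hp
      have h := h9a p hp
      simp only [Bool.and_eq_true] at h
      obtain ⟨hpM, hpv, hpe, hpc⟩ := h
      obtain ⟨hv1, hM1⟩ := hinM _ hpM
      refine ⟨hv1, hM1, hpv, ?_, (commB_iff hv1 hzv).1 hpc⟩
      have e := (tabEq_iff (tabValid_tabMul hv1 hpv) tabValid_range).1 hpe
      have e2 : tabPermD p.1 * tabPermD p.2 = 1 := by
        rw [← tabPermD_mul hv1 hpv, e, tabPermD_one]
      exact eq_inv_of_mul_eq_one_right e2
    apply self_normalizing_of_count M (pcGroup ys) hPM (suppMask maskO) (tabPermD z) hz1 hzP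
      hzc hzcen (fun g hg => smul_eq_of_commute hfix hg)
      (ts1.map tabPermD) (ts2.map (fun p => tabPermD p.1)) (ts3.map (fun p => tabPermD p.1))
    · intro g hg
      rw [List.mem_map] at hg
      obtain ⟨t, ht, rfl⟩ := hg
      exact (hinM t (List.all_eq_true.1 h6 t ht)).2
    · exact masksOK_spec (fun t ht => (hinM t (List.all_eq_true.1 h6 t ht)).1) h7
    · intro g hg
      rw [List.mem_map] at hg
      obtain ⟨p, hp, rfl⟩ := hg
      exact ⟨(h2spec p hp).2.1, (h2spec p hp).2.2.1⟩
    · have e : (ts2.map (fun p => tabPermD p.1)).map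
          (fun g => g * tabPermD z * g⁻¹) = (ts2.map Prod.snd).map tabPermD := by
        rw [List.map_map, List.map_map]
        apply List.map_congr_left
        intro p hp
        exact (h2spec p hp).2.2.2.2
      rw [e]
      have hnd : (ts2.map Prod.snd).Nodup := by
        have := distinctB_nodup _ h8b
        have e2 : ts2.map (fun p => tcode p.2) = (ts2.map Prod.snd).map tcode := by
          rw [List.map_map]; rfl
        rw [e2] at this
        exact this.of_map _
      apply List.Nodup.map_on _ hnd
      intro a ha b hb hab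
      rw [List.mem_map] at ha hb
      obtain ⟨pa, hpa, rfl⟩ := ha
      obtain ⟨pb, hpb, rfl⟩ := hb
      exact tabPermD_inj (h2spec pa hpa).2.2.2.1 (h2spec pb hpb).2.2.2.1 hab
    · intro g hg
      rw [List.mem_map] at hg
      obtain ⟨p, hp, rfl⟩ := hg
      exact ⟨(h3spec p hp).2.1, (h3spec p hp).2.2.2.2⟩
    · rw [List.pairwise_map]
      refine (pairsOK_spec _ _ h9b).imp_of_mem ?_
      intro a b ha hb hab
      rw [List.any_eq_true] at hab
      obtain ⟨y, hy, hny⟩ := hab
      obtain ⟨hav, -, hav2, hainv, -⟩ := h3spec a ha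
      obtain ⟨hbv, -, hbv2, hbinv, -⟩ := h3spec b hb
      refine ⟨tabPermD y, tabPermD_mem_pcGroup hy, ?_⟩
      have hyv := hvy y hy
      have hwv : ∀ t ∈ [a.2, b.1, y, b.2, a.1], tabValid t = true := by
        intro t ht
        simp only [List.mem_cons, List.not_mem_nil, or_false] at ht
        rcases ht with rfl | rfl | rfl | rfl | rfl
        · exact hav2
        · exact hbv
        · exact hyv
        · exact hbv2
        · exact hav
      have e : (tabPermD a.1)⁻¹ * tabPermD b.1 * tabPermD y *
          ((tabPermD a.1)⁻¹ * tabPermD b.1)⁻¹ =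
          tabPermD (tabProd [a.2, b.1, y, b.2, a.1]) := by
        rw [tabPermD_tabProd hwv]
        simp only [List.map_cons, List.map_nil, List.prod_cons, List.prod_nil, mul_one]
        rw [hainv, hbinv]
        group
      rw [e]
      intro hmem
      have := mem_pcList_of_mem hv h2 (tabValid_tabProd hwv) hmem
      have h13 : memB (tcode (tabProd [a.2, b.1, y, b.2, a.1])) ((pcList ys).map tcode) = true :=
        (memB_iff _ _).2 (List.mem_map_of_mem this)
      rw [h13] at hny
      exact absurd hny (by decide)
    · rw [hM, hP, List.length_map, List.length_map, List.length_map, hcount]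
      exact le_of_eq (by ring)

end Cfsg.Agent.Lib.Helper86
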