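import Mathlib
import Cfsg.Agent.Lib.Helper86.TabGroup

set_option autoImplicit false

/-! # A cheap test for polycyclic lists of tables

`pcOK ys` checks, for each generator `y` on top of the remaining ones `ys'`, that `y²` lies in
the list of `ys'`, that `x y ∈ y · (list of ys')` for the generators `x` of `ys'`, and that `y`
is not in the list of `ys'`. It implies the brute-force tests `closedOK` and `distinctB` of
`TabGroup`. -/

namespace Cfsg.Agent.Lib.Helper86

open Cfsg Cfsg.Agent.Lib.Helper6.Golay Cfsg.Agent.Lib.Helper6.M24 Cfsg.Agent.Lib.Helper6.M12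
open scoped Pointwise

/-- the polycyclic test -/
def pcOK : List (List ℕ) → Bool
  | [] => true
  | y :: ys => and (memB (tcode (tabMul y y)) ((pcList ys).map tcode))
      (and (ys.all (fun x => memB (tcode (tabMul x y))
        ((pcList ys).map (fun t => tcode (tabMul y t)))))
        (and (not (memB (tcode y) ((pcList ys).map tcode))) (pcOK ys)))

theorem distinctB_of_nodup : ∀ l : List ℕ, l.Nodup → distinctB l = true
  | [], _ => rfl
  | a :: l, h => by
    rw [List.nodup_cons] at h
    rw [distinctB, Bool.and_eq_true, Bool.not_eq_true', ← Bool.not_eq_true, memB_iff]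
    exact ⟨h.1, distinctB_of_nodup l h.2⟩

theorem pcOK_aux : ∀ {ys : List (List ℕ)}, ys.all tabValid = true → pcOK ys = true →
    (∀ σ ∈ pcGroup ys, ∃ t ∈ pcList ys, σ = tabPermD t) ∧ (pcList ys).Nodup
  | [], _, _ => by
    refine ⟨?_, List.nodup_singleton _⟩
    intro σ hσ
    have h1 : pcGroup [] = ⊥ := by
      unfold pcGroup
      rw [Subgroup.closure_eq_bot_iff]
      rintro σ ⟨y, hy, -⟩
      simp at hy
    rw [h1, Subgroup.mem_bot] at hσ
    exact ⟨_, List.mem_singleton.2 rfl, by rw [hσ, tabPermD_one]⟩
  | y :: ys, hv, h => by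
    have hv' := hv
    rw [List.all_cons, Bool.and_eq_true] at hv'
    obtain ⟨hyv, hvs⟩ := hv'
    have hvy : ∀ x ∈ ys, tabValid x = true := List.all_eq_true.1 hvs
    rw [pcOK] at h
    simp only [Bool.and_eq_true, Bool.not_eq_true'] at h
    obtain ⟨hsq, hconj, hny, hrec⟩ := h
    obtain ⟨ihle, ihnd⟩ := pcOK_aux hvs hrec
    have hLv := pcList_valid hvs
    rw [memB_iff] at hsq
    have hsq' : tabPermD y * tabPermD y ∈ pcGroup ys := by
      rw [← tabPermD_mul hyv hyv]
      exact pcList_mem hvs _ (tcode_mem (tabValid_tabMul hyv hyv) hLv hsq)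
    have hconj' : ∀ x ∈ ys, ∃ q ∈ pcGroup ys, tabPermD x * tabPermD y = tabPermD y * q := by
      intro x hx
      have h1 := List.all_eq_true.1 hconj x hx
      rw [memB_iff, List.mem_map] at h1
      obtain ⟨t, ht, e⟩ := h1
      have e' := tcode_inj (by
          rw [tabValid_length (tabValid_tabMul hyv (hLv t ht)),
            tabValid_length (tabValid_tabMul (hvy x hx) hyv)])
        (tabValid_lt (tabValid_tabMul hyv (hLv t ht)))
        (tabValid_lt (tabValid_tabMul (hvy x hx) hyv)) e
      refine ⟨tabPermD t, pcList_mem hvs t ht, ?_⟩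
      rw [← tabPermD_mul (hvy x hx) hyv, ← tabPermD_mul hyv (hLv t ht), e']
    have hny' : tabPermD y ∉ pcGroup ys := by
      intro hmem
      obtain ⟨t, ht, e⟩ := ihle _ hmem
      have := tabPermD_inj hyv (hLv t ht) e
      rw [this] at hny
      have h2 : memB (tcode t) ((pcList ys).map tcode) = true :=
        (memB_iff _ _).2 (List.mem_map_of_mem ht)
      rw [h2] at hny
      exact absurd hny (by decide)
    constructor
    · -- every element of the closure is `q` or `y q`
      have key : ∀ τ ∈ Submonoid.closure
          {σ : Equiv.Perm GolayPt | ∃ y' ∈ y :: ys, σ = tabPermD y'},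
          τ ∈ pcGroup ys ∨ ∃ q ∈ pcGroup ys, τ = tabPermD y * q := by
        intro τ hτ
        induction hτ using Submonoid.closure_induction_left with
        | one => exact Or.inl (Subgroup.one_mem _)
        | mul_left x hx τ _ ih =>
          obtain ⟨y', hy', rfl⟩ := hx
          rw [List.mem_cons] at hy'
          rcases hy' with rfl | hy'
          · rcases ih with ih | ⟨q, hq, rfl⟩
            · exact Or.inr ⟨τ, ih, rfl⟩
            · left
              rw [← mul_assoc]
              exact Subgroup.mul_mem _ hsq' hq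
          · rcases ih with ih | ⟨q, hq, rfl⟩
            · exact Or.inl (Subgroup.mul_mem _ (tabPermD_mem_pcGroup hy') ih)
            · right
              obtain ⟨q', hq', e⟩ := hconj' y' hy'
              refine ⟨q' * q, Subgroup.mul_mem _ hq' hq, ?_⟩
              rw [← mul_assoc, e, mul_assoc]
      intro σ hσ
      have h1 : σ ∈ (pcGroup (y :: ys)).toSubmonoid := hσ
      unfold pcGroup at h1
      rw [Subgroup.closure_toSubmonoid_of_finite] at h1
      rcases key σ h1 with h2 | ⟨q, hq, rfl⟩
      · obtain ⟨t, ht, e⟩ := ihle σ h2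
        exact ⟨t, by rw [pcList, List.mem_append]; exact Or.inl ht, e⟩
      · obtain ⟨t, ht, rfl⟩ := ihle q hq
        refine ⟨tabMul y t, ?_, (tabPermD_mul hyv (hLv t ht)).symm⟩
        rw [pcList, List.mem_append]
        exact Or.inr (List.mem_map_of_mem ht)
    · rw [pcList, List.nodup_append]
      refine ⟨ihnd, ?_, ?_⟩
      · apply List.Nodup.map_on _ ihnd
        intro a ha b hb hab
        have e : tabPermD y * tabPermD a = tabPermD y * tabPermD b := by
          rw [← tabPermD_mul hyv (hLv a ha), ← tabPermD_mul hyv (hLv b hb), hab]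
        exact tabPermD_inj (hLv a ha) (hLv b hb) (mul_left_cancel e)
      · intro a ha b hb hab
        rw [List.mem_map] at hb
        obtain ⟨t, ht, rfl⟩ := hb
        apply hny'
        have e : tabPermD y = tabPermD a * (tabPermD t)⁻¹ := by
          rw [hab, tabPermD_mul hyv (hLv t ht), mul_inv_cancel_right]
        rw [e]
        exact Subgroup.mul_mem _ (pcList_mem hvs a ha) (Subgroup.inv_mem _ (pcList_mem hvs t ht))

theorem pcOK_spec {ys : List (List ℕ)} (hv : ys.all tabValid = true) (h : pcOK ys = true) :
    closedOK ys = true ∧ distinctB ((pcList ys).map tcode) = true := by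
  obtain ⟨hle, hnd⟩ := pcOK_aux hv h
  have hvy : ∀ y ∈ ys, tabValid y = true := List.all_eq_true.1 hv
  have hLv := pcList_valid hv
  constructor
  · unfold closedOK
    rw [List.all_eq_true]
    intro t ht
    rw [List.all_eq_true]
    intro y hy
    rw [memB_iff]
    have h1 : tabPermD (tabMul y t) ∈ pcGroup ys := by
      rw [tabPermD_mul (hvy y hy) (hLv t ht)]
      exact Subgroup.mul_mem _ (tabPermD_mem_pcGroup hy) (pcList_mem hv t ht)
    obtain ⟨t', ht', e⟩ := hle _ h1
    rw [tabPermD_inj (tabValid_tabMul (hvy y hy) (hLv t ht)) (hLv t' ht') e]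
    exact List.mem_map_of_mem ht'
  · apply distinctB_of_nodup
    apply List.Nodup.map_on _ hnd
    intro a ha b hb hab
    exact tcode_inj (by rw [tabValid_length (hLv a ha), tabValid_length (hLv b hb)])
      (tabValid_lt (hLv a ha)) (tabValid_lt (hLv b hb)) hab

end Cfsg.Agent.Lib.Helper86
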