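import Mathlib
import Cfsg.Agent.Lib.Helper86.Simple
import Cfsg.Agent.Lib.Helper4.SylowTwo

set_option autoImplicit false

/-! # Simplicity criterion for `F_S(G)`, generator form

`F_S(G)` is simple as soon as no proper nontrivial subgroup of `S` is closed under fusion and
`N_G(S)` is generated by elements lying in `O^{p'}(N_G(R))` for subgroups `R ≤ S` that are normal
in `S` and self-centralizing in `G`.  The data may be given for one Sylow subgroup; the
conclusion holds for all of them. -/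

namespace Cfsg.Agent.Lib.Helper86

open Cfsg Cfsg.FusionSystem Cfsg.Agent.Lib.Helper84 Cfsg.Agent.Lib.Helper34

/-- the elements of `p`-power order of the normalizer of `R` -/
def pElts {G : Type*} [Group G] (p : ℕ) (R : Subgroup G) : Set G :=
  {g : G | g ∈ Subgroup.normalizer (R : Set G) ∧ ∃ k : ℕ, orderOf g = p ^ k}

/-- the elements of `N_G(S)` lying in `O^{p'}(N_G(R))` for some `R ≤ S` normal in `S` and
self-centralizing in `G` -/
def goodGens {G : Type*} [Group G] (p : ℕ) (S : Subgroup G) : Set G :=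
  {m : G | m ∈ Subgroup.normalizer (S : Set G) ∧
    ∃ R : Subgroup G, R ≤ S ∧ S ≤ Subgroup.normalizer (R : Set G) ∧
      Subgroup.centralizer (R : Set G) ≤ R ∧ m ∈ Subgroup.closure (pElts p R)}

theorem isFullyNormalized_of_le_normalizer {G : Type*} [Group G] {S R : Subgroup G} [Finite S]
    (hRS : R ≤ S) (hN : S ≤ Subgroup.normalizer (R : Set G)) :
    (groupFusionSystem S).IsFullyNormalized R := by
  refine ⟨hRS, fun Q _ => ?_⟩
  have h1 : normalizerIn S R = S := inf_eq_left.2 hN
  rw [h1]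
  exact Subgroup.card_le_of_le inf_le_left

theorem isCentric_of_centralizer_le {G : Type*} [Group G] {S R : Subgroup G}
    (hRS : R ≤ S) (hC : Subgroup.centralizer (R : Set G) ≤ R) :
    (groupFusionSystem S).IsCentric R := by
  refine ⟨hRS, ?_⟩
  rintro Q ⟨φ, ⟨-, -, g, hg⟩, rfl⟩ x hx
  have hxc : x ∈ Subgroup.centralizer ((φ.range : Subgroup G) : Set G) := hx.2
  have h1 : g⁻¹ * x * g ∈ Subgroup.centralizer (R : Set G) := by
    rw [Subgroup.mem_centralizer_iff]
    intro y hy
    have h2 := (Subgroup.mem_centralizer_iff.1 hxc) (φ ⟨y, hy⟩) ⟨⟨y, hy⟩, rfl⟩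
    rw [hg] at h2
    have h3 : y * (g⁻¹ * x * g) = g⁻¹ * (g * y * g⁻¹ * x) * g := by group
    rw [h3, h2]; group
  have h3 := hC h1
  refine ⟨⟨g⁻¹ * x * g, h3⟩, ?_⟩
  rw [hg]
  show g * (g⁻¹ * x * g) * g⁻¹ = x
  group

/-- **Simplicity criterion, generator form.** -/
theorem groupFusionSystem_isSimple_of_gens {G : Type*} [Group G] [Finite G] (p : ℕ)
    [Fact p.Prime] (S : Sylow p G) (hS1 : (S : Subgroup G) ≠ ⊥)
    (ha : ∀ T : Subgroup G, T ≤ (S : Subgroup G) → T ≠ ⊥ →
      (∀ x ∈ T, ∀ g : G, g * x * g⁻¹ ∈ (S : Subgroup G) → g * x * g⁻¹ ∈ T) →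
      T = (S : Subgroup G))
    (hb : Subgroup.normalizer ((S : Subgroup G) : Set G)
      ≤ Subgroup.closure (goodGens p (S : Subgroup G))) :
    (Cfsg.groupFusionSystem (S : Subgroup G)).IsSimple p := by
  have hsat := groupFusionSystem_isSaturated S
  have hSp : IsPGroup p (S : Subgroup G) := S.isPGroup'
  refine ⟨hsat, hS1, ?_⟩
  intro T E hE
  obtain ⟨⟨hEsat, -, hinv⟩, -⟩ := hE
  have hEF := hinv.1
  have hsc := hinv.2.1
  by_cases hT1 : T = ⊥
  · exact Or.inl hT1
  right
  have hT : T = (S : Subgroup G) := by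
    refine ha T hsc.1 hT1 ?_
    intro x hx g hgx
    have hzT : Subgroup.zpowers x ≤ T := (Subgroup.zpowers_le).mpr hx
    have hmem : conjHom (Subgroup.zpowers x) g ∈
        (groupFusionSystem (S : Subgroup G)).Hom (Subgroup.zpowers x) := by
      refine ⟨hzT.trans hsc.1, ?_, g, fun y => rfl⟩
      rintro ⟨_, i, rfl⟩
      show g * x ^ i * g⁻¹ ∈ (S : Subgroup G)
      rw [← conj_zpow]
      exact Subgroup.zpow_mem _ hgx i
    exact hsc.2 _ hzT _ hmem ⟨x, Subgroup.mem_zpowers x⟩
  subst hT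
  refine ⟨rfl, ?_⟩
  -- the elements of `N_G(S)` inducing `E`-automorphisms of `S`
  have hKS : Subgroup.closure (goodGens p (S : Subgroup G))
      ≤ ((E.autGroup (S : Subgroup G)).comap (S : Subgroup G).normalizerMonoidHom).map
        (Subgroup.normalizer ((S : Subgroup G) : Set G)).subtype := by
    rw [Subgroup.closure_le]
    rintro g ⟨hgS, R, hRS, hSR, hCR, hg⟩
    have hRfn : (groupFusionSystem (S : Subgroup G)).IsFullyNormalized R :=
      isFullyNormalized_of_le_normalizer hRS hSR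
    have hRc : (groupFusionSystem (S : Subgroup G)).IsCentric R :=
      isCentric_of_centralizer_le hRS hCR
    have hfa := (fullyNormalized_imp hSp _ hsat hRfn).1
    obtain ⟨Rs, hRs⟩ := hfa.2
    have hK : Subgroup.closure (pElts p R)
        ≤ ((E.autGroup R).comap R.normalizerMonoidHom).map
          (Subgroup.normalizer (R : Set G)).subtype := by
      rw [Subgroup.closure_le]
      rintro m ⟨hmN, k, hk⟩
      refine ⟨⟨m, hmN⟩, ?_, rfl⟩
      show R.normalizerMonoidHom ⟨m, hmN⟩ ∈ E.autGroup R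
      have hmA : R.normalizerMonoidHom ⟨m, hmN⟩
          ∈ (groupFusionSystem (S : Subgroup G)).autGroup R := by
        rw [groupFusionSystem_autGroup_eq _ hRS]
        exact ⟨_, rfl⟩
      have hord : ∃ j, orderOf (⟨R.normalizerMonoidHom ⟨m, hmN⟩, hmA⟩ :
          (groupFusionSystem (S : Subgroup G)).autGroup R) = p ^ j := by
        have h1 : orderOf (R.normalizerMonoidHom ⟨m, hmN⟩)
            ∣ orderOf (⟨m, hmN⟩ : Subgroup.normalizer (R : Set G)) := orderOf_map_dvd _ _
        have h2 : orderOf (⟨m, hmN⟩ : Subgroup.normalizer (R : Set G)) = orderOf m :=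
          Subgroup.orderOf_mk m hmN
        rw [h2, hk] at h1
        obtain ⟨j, -, hj⟩ := (Nat.dvd_prime_pow Fact.out).mp h1
        exact ⟨j, by rw [← hj]; exact Subgroup.orderOf_mk _ _⟩
      obtain ⟨j, hj⟩ := hord
      have hDB : (Rs : Subgroup ((groupFusionSystem (S : Subgroup G)).autGroup R))
          ≤ (E.autGroup R).subgroupOf ((groupFusionSystem (S : Subgroup G)).autGroup R) := by
        rw [hRs]
        intro x hx
        exact Subgroup.mem_subgroupOf.mpr
          (autInducedBy_le_autGroup E hRS (Subgroup.mem_subgroupOf.mp hx))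
      have hB : ∀ a : (groupFusionSystem (S : Subgroup G)).autGroup R,
          ∀ b ∈ (E.autGroup R).subgroupOf ((groupFusionSystem (S : Subgroup G)).autGroup R),
          a * b * a⁻¹ ∈ (E.autGroup R).subgroupOf
            ((groupFusionSystem (S : Subgroup G)).autGroup R) := by
        intro a b hb'
        rw [Subgroup.mem_subgroupOf] at hb' ⊢
        rw [mem_autGroup_iff E hRS] at hb' ⊢
        exact conj_mem_of_invariant E _ hinv hRS
          ((mem_autGroup_iff _ hRS (a : MulAut R)).mp a.2) hb'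
      have hmem := mem_of_orderOf_prime_pow _ _ hDB Rs.isPGroup' Rs.not_dvd_index hB hj
      exact Subgroup.mem_subgroupOf.mp hmem
    obtain ⟨g', hg', hg'g⟩ := hK hg
    have hg'g' : (g' : G) = g := hg'g
    have hRE : conjHom R g ∈ E.Hom R := by
      have h1 : autMap (R.normalizerMonoidHom g') ∈ E.Hom R :=
        (mem_autGroup_iff E hRS _).mp hg'
      apply hom_of_eq E h1
      intro x
      show g * (x : G) * g⁻¹ = (g' : G) * x * (g' : G)⁻¹
      rw [hg'g']
    have hgR : g ∈ Subgroup.normalizer (R : Set G) := by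
      rw [← hg'g']
      exact g'.2
    have hgF : ∀ P : Subgroup G, P ≤ (S : Subgroup G) →
        conjHom P g ∈ (groupFusionSystem (S : Subgroup G)).Hom P :=
      fun P hP => ⟨hP, fun x => (Subgroup.mem_normalizer_iff.mp hgS _).mp (hP x.2), g,
        fun x => rfl⟩
    have hfinal := conjHom_mem_of_centric hSp _ E hsat hEsat hEF hgS hgF _ R hRS rfl hRc hgR hRE
    refine ⟨⟨g, hgS⟩, ?_, rfl⟩
    show (S : Subgroup G).normalizerMonoidHom ⟨g, hgS⟩ ∈ E.autGroup (S : Subgroup G)
    rw [mem_autGroup_iff E le_rfl]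
    exact hom_of_eq E hfinal (fun x => rfl)
  have main : ∀ α ∈ (groupFusionSystem (S : Subgroup G)).autGroup (S : Subgroup G),
      autMap α ∈ E.Hom (S : Subgroup G) := by
    intro α hα
    rw [mem_autGroup_iff _ le_rfl] at hα
    obtain ⟨-, -, g, hg⟩ := hα
    have hgS : g ∈ Subgroup.normalizer ((S : Subgroup G) : Set G) :=
      mem_normalizer_of_finite (fun x hx => by
        have := hg ⟨x, hx⟩
        rw [← this]
        exact (α _).2)
    obtain ⟨g', hg', hg'g⟩ := hKS (hb hgS)
    have hg'g' : (g' : G) = g := hg'g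
    have h1 : autMap ((S : Subgroup G).normalizerMonoidHom g') ∈ E.Hom (S : Subgroup G) :=
      (mem_autGroup_iff E le_rfl _).mp hg'
    apply hom_of_eq E h1
    intro x
    show ((α x : (S : Subgroup G)) : G) = (g' : G) * x * (g' : G)⁻¹
    rw [hg'g']
    exact hg x
  intro P
  apply Set.Subset.antisymm (hEF P)
  intro φ hφ
  obtain ⟨α, hα, φ₀, hφ₀, hαφ⟩ := hinv.2.2.2 P (hom_le _ hφ) φ hφ
  have hc := E.comp_mem hφ₀ (main α hα) (fun x => hom_mem_S E hφ₀ x)
  exact hom_of_eq E hc (fun x => hαφ x _)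

/-- conjugation transports the generating set -/
theorem conj_mem_goodGens {G : Type*} [Group G] [Finite G] (p : ℕ) {P S : Subgroup G} (c : G)
    (hmem : ∀ x : G, x ∈ S ↔ c⁻¹ * x * c ∈ P) {m : G} (hm : m ∈ goodGens p P) :
    c * m * c⁻¹ ∈ goodGens p S := by
  obtain ⟨hmN, R, hRP, hPR, hCR, hmR⟩ := hm
  have e1 : ∀ x : G, c⁻¹ * (c * x * c⁻¹) * c = x := fun x => by group
  have e2 : ∀ x : G, c * (c⁻¹ * x * c) * c⁻¹ = x := fun x => by group
  refine ⟨?_, conjSubgroup c R, ?_, ?_, ?_, ?_⟩
  · apply mem_normalizer_of_finite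
    intro x hx
    rw [hmem] at hx ⊢
    have h1 := (Subgroup.mem_normalizer_iff.mp hmN _).mp hx
    have e : c⁻¹ * (c * m * c⁻¹ * x * (c * m * c⁻¹)⁻¹) * c = m * (c⁻¹ * x * c) * m⁻¹ := by group
    rw [e]; exact h1
  · intro y hy
    obtain ⟨x, hx, rfl⟩ := mem_conjSubgroup.1 hy
    rw [hmem, e1]
    exact hRP hx
  · intro s hs
    apply mem_normalizer_of_finite
    intro y hy
    obtain ⟨x, hx, rfl⟩ := mem_conjSubgroup.1 hy
    have h1 : c⁻¹ * s * c ∈ Subgroup.normalizer (R : Set G) := hPR ((hmem s).1 hs)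
    have h2 := (Subgroup.mem_normalizer_iff.mp h1 _).mp hx
    have e : s * (c * x * c⁻¹) * s⁻¹ = c * (c⁻¹ * s * c * x * (c⁻¹ * s * c)⁻¹) * c⁻¹ := by group
    rw [e]
    exact conj_mem_conjSubgroup h2
  · intro x hx
    have h1 : c⁻¹ * x * c ∈ Subgroup.centralizer (R : Set G) := by
      rw [Subgroup.mem_centralizer_iff]
      intro y hy
      have h2 := (Subgroup.mem_centralizer_iff.1 hx) (c * y * c⁻¹) (conj_mem_conjSubgroup hy)
      have e : y * (c⁻¹ * x * c) = c⁻¹ * (c * y * c⁻¹ * x) * c := by group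
      rw [e, h2]; group
    have h3 := conj_mem_conjSubgroup (g := c) (hCR h1)
    rwa [e2] at h3
  · have h1 : Subgroup.closure (pElts p R)
        ≤ (Subgroup.closure (pElts p (conjSubgroup c R))).comap (MulAut.conj c).toMonoidHom := by
      rw [Subgroup.closure_le]
      rintro k ⟨hkN, j, hj⟩
      show c * k * c⁻¹ ∈ Subgroup.closure (pElts p (conjSubgroup c R))
      apply Subgroup.subset_closure
      refine ⟨?_, j, ?_⟩
      · rw [normalizer_conjSubgroup]
        exact conj_mem_conjSubgroup hkN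
      · rw [← hj]
        exact (MulAut.conj c).orderOf_eq k
    exact h1 hmR

/-- **Simplicity criterion, generator form, with the data given for one Sylow subgroup.** -/
theorem isSimple_of_sylow_gens {G : Type*} [Group G] [Finite G] (p : ℕ) [Fact p.Prime]
    (P : Sylow p G) (hP1 : (P : Subgroup G) ≠ ⊥)
    (ha : ∀ T : Subgroup G, T ≤ (P : Subgroup G) → T ≠ ⊥ →
      (∀ x ∈ T, ∀ g : G, g * x * g⁻¹ ∈ (P : Subgroup G) → g * x * g⁻¹ ∈ T) →
      T = (P : Subgroup G))
    (hb : Subgroup.normalizer ((P : Subgroup G) : Set G)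
      ≤ Subgroup.closure (goodGens p (P : Subgroup G)))
    (S : Sylow p G) : (Cfsg.groupFusionSystem (S : Subgroup G)).IsSimple p := by
  obtain ⟨c, hc⟩ := MulAction.exists_smul_eq G P S
  have hmem : ∀ x : G, x ∈ (S : Subgroup G) ↔ c⁻¹ * x * c ∈ (P : Subgroup G) := by
    intro x
    rw [← hc]
    exact Helper4.mem_sylow_smul_iff
  have e1 : ∀ x : G, c⁻¹ * (c * x * c⁻¹) * c = x := fun x => by group
  have e2 : ∀ x : G, c * (c⁻¹ * x * c) * c⁻¹ = x := fun x => by group
  apply groupFusionSystem_isSimple_of_gens p S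
  · intro hbot
    apply hP1
    rw [Subgroup.eq_bot_iff_forall]
    intro x hx
    have h1 : c * x * c⁻¹ ∈ (S : Subgroup G) := by rw [hmem, e1]; exact hx
    rw [hbot, Subgroup.mem_bot] at h1
    have h2 := e1 x
    rw [h1] at h2
    rw [← h2]
    group
  · intro T hTS hT1 hT
    let T' : Subgroup G := T.comap (MulAut.conj c).toMonoidHom
    have hT'mem : ∀ x, x ∈ T' ↔ c * x * c⁻¹ ∈ T := fun x => Iff.rfl
    have h1 : T' ≤ (P : Subgroup G) := by
      intro x hx
      have := hTS ((hT'mem x).1 hx)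
      rwa [hmem, e1] at this
    have h2 : T' ≠ ⊥ := by
      intro hbot
      apply hT1
      rw [Subgroup.eq_bot_iff_forall]
      intro x hx
      have h3 : c⁻¹ * x * c ∈ T' := by rw [hT'mem, e2]; exact hx
      rw [hbot, Subgroup.mem_bot] at h3
      have h4 := e2 x
      rw [h3] at h4
      rw [← h4]
      group
    have h3 : ∀ x ∈ T', ∀ g : G, g * x * g⁻¹ ∈ (P : Subgroup G) → g * x * g⁻¹ ∈ T' := by
      intro x hx g hg
      rw [hT'mem] at hx ⊢
      have e : c * (g * x * g⁻¹) * c⁻¹ = (c * g * c⁻¹) * (c * x * c⁻¹) * (c * g * c⁻¹)⁻¹ := by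
        group
      rw [e]
      apply hT _ hx
      rw [← e, hmem, e1]
      exact hg
    have h4 := ha T' h1 h2 h3
    apply le_antisymm hTS
    intro x hx
    have h5 : c⁻¹ * x * c ∈ T' := by rw [h4]; exact (hmem x).1 hx
    rw [hT'mem, e2] at h5
    exact h5
  · intro g hg
    have h1 : c⁻¹ * g * c ∈ Subgroup.normalizer ((P : Subgroup G) : Set G) := by
      apply mem_normalizer_of_finite
      intro x hx
      have hx' : c * x * c⁻¹ ∈ (S : Subgroup G) := by rw [hmem, e1]; exact hx
      have h2 := (Subgroup.mem_normalizer_iff.mp hg _).mp hx'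
      rw [hmem] at h2
      have e : c⁻¹ * (g * (c * x * c⁻¹) * g⁻¹) * c = c⁻¹ * g * c * x * (c⁻¹ * g * c)⁻¹ := by
        group
      rwa [e] at h2
    have h3 : Subgroup.closure (goodGens p (P : Subgroup G))
        ≤ (Subgroup.closure (goodGens p (S : Subgroup G))).comap (MulAut.conj c).toMonoidHom := by
      rw [Subgroup.closure_le]
      intro m hm
      show c * m * c⁻¹ ∈ Subgroup.closure (goodGens p (S : Subgroup G))
      exact Subgroup.subset_closure (conj_mem_goodGens p c hmem hm)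
    have h4 : c * (c⁻¹ * g * c) * c⁻¹ ∈ Subgroup.closure (goodGens p (S : Subgroup G)) :=
      h3 (hb h1)
    rwa [e2] at h4

end Cfsg.Agent.Lib.Helper86
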