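import Mathlib
import Cfsg.Agent.Lib.Helper86.SimpleGen

set_option autoImplicit false
set_option linter.style.haveILetI false
set_option linter.unusedSectionVars false
set_option linter.dupNamespace false
set_option linter.unusedVariables false

/-! # Simplicity criterion for the fusion system of a central quotient

Let `π : H → G` be a surjection whose kernel is the centre of `H` and has no `p`-torsion.
The data of the generator form of the simplicity criterion can be given upstairs, in `H`. -/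

namespace Cfsg.Agent.Lib.Helper86

section QuotCrit

variable {H G : Type*} [Group H] [Group G] (p : ℕ) [Fact p.Prime] (π : H →* G)

/-- `p`-elements with the same image in a quotient by a central `p'`-subgroup are equal -/
theorem eq_of_map_eq_of_central
    (hker : ∀ z : H, π z = 1 ↔ z ∈ Subgroup.center H)
    (hpf : ∀ z ∈ Subgroup.center H, ∀ a : ℕ, z ^ (p ^ a) = 1 → z = 1)
    {x y : H} {a b : ℕ} (hx : x ^ (p ^ a) = 1) (hy : y ^ (p ^ b) = 1)
    (h : π x = π y) : x = y := by
  have hz : y⁻¹ * x ∈ Subgroup.center H := by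
    rw [← hker, map_mul, map_inv, h, inv_mul_cancel]
  have hc : Commute y (y⁻¹ * x) := (Subgroup.mem_center_iff.1 hz y)
  have h1 : (y * (y⁻¹ * x)) ^ (p ^ (a + b)) = y ^ (p ^ (a + b)) * (y⁻¹ * x) ^ (p ^ (a + b)) :=
    hc.mul_pow _
  rw [mul_inv_cancel_left] at h1
  have hx' : x ^ (p ^ (a + b)) = 1 := by rw [pow_add, pow_mul, hx, one_pow]
  have hy' : y ^ (p ^ (a + b)) = 1 := by rw [pow_add, mul_comm, pow_mul, hy, one_pow]
  rw [hx', hy', one_mul] at h1
  have h2 := hpf _ hz (a + b) h1.symm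
  exact (inv_mul_eq_one.1 h2).symm

theorem conj_pow_one' {u g : H} {k : ℕ} (hu : u ^ k = 1) : (g * u * g⁻¹) ^ k = 1 := by
  rw [conj_pow, hu, mul_one, mul_inv_cancel]

theorem orderOf_map_of_pow {t : H} {a : ℕ} (ht : t ^ (p ^ a) = 1) :
    ∃ k : ℕ, orderOf (π t) = p ^ k := by
  have h : (π t) ^ (p ^ a) = 1 := by rw [← map_pow, ht, map_one]
  obtain ⟨k, -, hk⟩ := (Nat.dvd_prime_pow Fact.out).1 (orderOf_dvd_of_pow_eq_one h)
  exact ⟨k, hk⟩

/-- **Simplicity criterion for central quotients.** -/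
theorem isSimple_of_central_quotient [Finite H] [Finite G]
    (hπ : Function.Surjective π)
    (hker : ∀ z : H, π z = 1 ↔ z ∈ Subgroup.center H)
    (hpf : ∀ z ∈ Subgroup.center H, ∀ a : ℕ, z ^ (p ^ a) = 1 → z = 1)
    (U : Subgroup H) (hUp : ∀ u ∈ U, ∃ a : ℕ, u ^ (p ^ a) = 1) (hidx : ¬ p ∣ U.index)
    (hU1 : U ≠ ⊥)
    (ha : ∀ T : Subgroup H, T ≤ U → T ≠ ⊥ →
      (∀ x ∈ T, ∀ g : H, g * x * g⁻¹ ∈ U → g * x * g⁻¹ ∈ T) → T = U)
    (gens : Set H) (hgen : Subgroup.normalizer (U : Set H) ≤ Subgroup.closure gens)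
    (hgens : ∀ d ∈ gens, d ∈ Subgroup.normalizer (U : Set H) ∧
      ∃ R : Subgroup H, R ≤ U ∧ U ≤ Subgroup.normalizer (R : Set H) ∧
        (∀ g : H, (∀ a ∈ R, g * a = a * g) → ∃ z ∈ Subgroup.center H, z * g ∈ R) ∧
        d ∈ Subgroup.closure
          {m : H | m ∈ Subgroup.normalizer (R : Set H) ∧ ∃ a : ℕ, m ^ (p ^ a) = 1})
    (S : Sylow p G) : (Cfsg.groupFusionSystem (S : Subgroup G)).IsSimple p := by
  have hUpg : IsPGroup p U := fun u => by
    obtain ⟨a, ha⟩ := hUp u u.2
    exact ⟨a, Subtype.ext (by rw [Subgroup.coe_pow]; exact ha)⟩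
  let P : Sylow p G := (hUpg.map π).toSylow
    (fun h => hidx (h.trans (Subgroup.index_map_dvd _ hπ)))
  have hP : (P : Subgroup G) = U.map π := rfl
  have heq : ∀ {x y : H} {a b : ℕ}, x ^ (p ^ a) = 1 → y ^ (p ^ b) = 1 → π x = π y → x = y :=
    fun hx hy h => eq_of_map_eq_of_central p π hker hpf hx hy h
  -- lifting normalizers
  have hnorm : ∀ {A : Subgroup H}, A ≤ U → ∀ {g : H},
      π g ∈ Subgroup.normalizer ((A.map π : Subgroup G) : Set G) →
      ∀ u ∈ A, g * u * g⁻¹ ∈ A := by
    intro A hA g hg u hu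
    have h1 : π (g * u * g⁻¹) ∈ A.map π := by
      rw [map_mul, map_mul, map_inv]
      exact (Subgroup.mem_normalizer_iff.1 hg _).1 (Subgroup.mem_map_of_mem _ hu)
    obtain ⟨u', hu', hu'eq⟩ := Subgroup.mem_map.1 h1
    obtain ⟨a, ha'⟩ := hUp u (hA hu)
    obtain ⟨b, hb'⟩ := hUp u' (hA hu')
    have := heq hb' (conj_pow_one' (g := g) ha') hu'eq
    rw [← this]
    exact hu'
  -- lifting centralizers
  have hcent : ∀ {A : Subgroup H}, A ≤ U → ∀ {g : H},
      π g ∈ Subgroup.centralizer ((A.map π : Subgroup G) : Set G) →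
      ∀ a ∈ A, g * a = a * g := by
    intro A hA g hg a haA
    have h1 : π (g * a * g⁻¹) = π a := by
      rw [map_mul, map_mul, map_inv]
      have := Subgroup.mem_centralizer_iff.1 hg (π a) (Subgroup.mem_map_of_mem _ haA)
      rw [← this, mul_inv_cancel_right]
    obtain ⟨k, hk⟩ := hUp a (hA haA)
    have := heq (conj_pow_one' (g := g) hk) hk h1
    rw [mul_inv_eq_iff_eq_mul] at this
    exact this
  apply isSimple_of_sylow_gens p P ?_ ?_ ?_ S
  · -- the Sylow subgroup is nontrivial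
    intro hbot
    rw [hP] at hbot
    apply hU1
    rw [Subgroup.eq_bot_iff_forall]
    intro u hu
    have h1 : π u = 1 := by
      have := Subgroup.mem_map_of_mem π hu
      rw [hbot, Subgroup.mem_bot] at this
      exact this
    obtain ⟨a, ha'⟩ := hUp u hu
    exact hpf u ((hker u).1 h1) a ha'
  · -- strongly closed subgroups
    intro T hTP hT hcl
    rw [hP] at hTP hcl ⊢
    have h1 : U ⊓ T.comap π = U := by
      refine ha _ inf_le_left ?_ ?_
      · intro hbot
        obtain ⟨⟨x, hxT⟩, hx1⟩ := Subgroup.ne_bot_iff_exists_ne_one.1 hT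
        obtain ⟨u, hu, hux⟩ := Subgroup.mem_map.1 (hTP hxT)
        have huT' : u ∈ U ⊓ T.comap π :=
          ⟨hu, by show π u ∈ T; rw [hux]; exact hxT⟩
        rw [hbot, Subgroup.mem_bot] at huT'
        apply hx1
        apply Subtype.ext
        show x = 1
        rw [← hux, huT', map_one]
      · intro x hx g hgx
        refine ⟨hgx, ?_⟩
        show π (g * x * g⁻¹) ∈ T
        rw [map_mul, map_mul, map_inv]
        apply hcl _ hx.2
        rw [← map_inv, ← map_mul, ← map_mul]
        exact Subgroup.mem_map_of_mem _ hgx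
    apply le_antisymm hTP
    rw [Subgroup.map_le_iff_le_comap, ← h1]
    exact inf_le_right
  · -- generation of the normalizer
    intro x hx
    rw [hP] at hx ⊢
    obtain ⟨g, rfl⟩ := hπ x
    have hgN : g ∈ Subgroup.normalizer (U : Set H) :=
      mem_normalizer_of_finite (fun u hu => hnorm le_rfl hx u hu)
    have hg := hgen hgN
    have h1 : π g ∈ (Subgroup.closure gens).map π := Subgroup.mem_map_of_mem _ hg
    rw [MonoidHom.map_closure] at h1
    refine Subgroup.closure_mono ?_ h1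
    rintro _ ⟨d, hd, rfl⟩
    obtain ⟨hdN, R, hRU, hUR, hRc, hdR⟩ := hgens d hd
    refine ⟨Subgroup.le_normalizer_map π (Subgroup.mem_map_of_mem _ hdN), R.map π,
      Subgroup.map_mono hRU, (Subgroup.map_mono hUR).trans (Subgroup.le_normalizer_map π), ?_, ?_⟩
    · intro y hy
      obtain ⟨g', rfl⟩ := hπ y
      obtain ⟨z, hz, hzg⟩ := hRc g' (fun a haR => hcent hRU hy a haR)
      refine Subgroup.mem_map.2 ⟨z * g', hzg, ?_⟩
      rw [map_mul, (hker z).2 hz, one_mul]
    · have h2 : π d ∈ (Subgroup.closure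
          {m : H | m ∈ Subgroup.normalizer (R : Set H) ∧ ∃ a : ℕ, m ^ (p ^ a) = 1}).map π :=
        Subgroup.mem_map_of_mem _ hdR
      rw [MonoidHom.map_closure] at h2
      refine Subgroup.closure_mono ?_ h2
      rintro _ ⟨m, ⟨hmN, a, hma⟩, rfl⟩
      exact ⟨Subgroup.le_normalizer_map π (Subgroup.mem_map_of_mem _ hmN),
        orderOf_map_of_pow p π hma⟩

end QuotCrit

end Cfsg.Agent.Lib.Helper86
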