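import Mathlib
import Cfsg.Agent.Lib.Helper86.QuotCrit
import Cfsg.Agent.Lib.Helper86.SimpleCrit

set_option autoImplicit false
set_option linter.style.haveILetI false
set_option linter.unusedSectionVars false
set_option linter.dupNamespace false
set_option linter.unusedVariables false

/-! # Simplicity criterion, self-automizing form, for one Sylow subgroup and for central
quotients -/

namespace Cfsg.Agent.Lib.Helper86

open Cfsg Cfsg.FusionSystem Cfsg.Agent.Lib.Helper84 Cfsg.Agent.Lib.Helper34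

/-- **Simplicity criterion, self-automizing form, with the data given for one Sylow subgroup.** -/
theorem isSimple_of_sylow_inner {G : Type*} [Group G] [Finite G] (p : ℕ) [Fact p.Prime]
    (P : Sylow p G) (hP1 : (P : Subgroup G) ≠ ⊥)
    (ha : ∀ T : Subgroup G, T ≤ (P : Subgroup G) → T ≠ ⊥ →
      (∀ x ∈ T, ∀ g : G, g * x * g⁻¹ ∈ (P : Subgroup G) → g * x * g⁻¹ ∈ T) →
      T = (P : Subgroup G))
    (hb : ∀ g ∈ Subgroup.normalizer ((P : Subgroup G) : Set G),
      ∃ s ∈ (P : Subgroup G), ∀ x ∈ (P : Subgroup G), g * x * g⁻¹ = s * x * s⁻¹)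
    (S : Sylow p G) : (Cfsg.groupFusionSystem (S : Subgroup G)).IsSimple p := by
  obtain ⟨c, hc⟩ := MulAction.exists_smul_eq G P S
  have hmem : ∀ x : G, x ∈ (S : Subgroup G) ↔ c⁻¹ * x * c ∈ (P : Subgroup G) := by
    intro x
    rw [← hc]
    exact Helper4.mem_sylow_smul_iff
  have e1 : ∀ x : G, c⁻¹ * (c * x * c⁻¹) * c = x := fun x => by group
  have e2 : ∀ x : G, c * (c⁻¹ * x * c) * c⁻¹ = x := fun x => by group
  apply groupFusionSystem_isSimple_of_inner p S
  · intro hbot
    apply hP1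
    rw [Subgroup.eq_bot_iff_forall]
    intro x hx
    have h1 : c * x * c⁻¹ ∈ (S : Subgroup G) := by rw [hmem, e1]; exact hx
    rw [hbot, Subgroup.mem_bot] at h1
    have h2 := e1 x
    rw [h1] at h2
    rw [← h2]
    group
  · intro T hTS hT1 hT
    let T' : Subgroup G := T.comap (MulAut.conj c).toMonoidHom
    have hT'mem : ∀ x, x ∈ T' ↔ c * x * c⁻¹ ∈ T := fun x => Iff.rfl
    have h1 : T' ≤ (P : Subgroup G) := by
      intro x hx
      have := hTS ((hT'mem x).1 hx)
      rwa [hmem, e1] at this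
    have h2 : T' ≠ ⊥ := by
      intro hbot
      apply hT1
      rw [Subgroup.eq_bot_iff_forall]
      intro x hx
      have h3 : c⁻¹ * x * c ∈ T' := by rw [hT'mem, e2]; exact hx
      rw [hbot, Subgroup.mem_bot] at h3
      have h4 := e2 x
      rw [h3] at h4
      rw [← h4]
      group
    have h3 : ∀ x ∈ T', ∀ g : G, g * x * g⁻¹ ∈ (P : Subgroup G) → g * x * g⁻¹ ∈ T' := by
      intro x hx g hg
      rw [hT'mem] at hx ⊢
      have e : c * (g * x * g⁻¹) * c⁻¹ = (c * g * c⁻¹) * (c * x * c⁻¹) * (c * g * c⁻¹)⁻¹ := by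
        group
      rw [e]
      apply hT _ hx
      rw [← e, hmem, e1]
      exact hg
    have h4 := ha T' h1 h2 h3
    apply le_antisymm hTS
    intro x hx
    have h5 : c⁻¹ * x * c ∈ T' := by rw [h4]; exact (hmem x).1 hx
    rw [hT'mem, e2] at h5
    exact h5
  · intro g hg
    have h1 : c⁻¹ * g * c ∈ Subgroup.normalizer ((P : Subgroup G) : Set G) := by
      apply mem_normalizer_of_finite
      intro x hx
      have hx' : c * x * c⁻¹ ∈ (S : Subgroup G) := by rw [hmem, e1]; exact hx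
      have h2 := (Subgroup.mem_normalizer_iff.mp hg _).mp hx'
      rw [hmem] at h2
      have e : c⁻¹ * (g * (c * x * c⁻¹) * g⁻¹) * c = c⁻¹ * g * c * x * (c⁻¹ * g * c)⁻¹ := by
        group
      rwa [e] at h2
    obtain ⟨s, hs, hsx⟩ := hb _ h1
    refine ⟨c * s * c⁻¹, by rw [hmem, e1]; exact hs, ?_⟩
    intro x hx
    have h2 := hsx (c⁻¹ * x * c) ((hmem x).1 hx)
    have e3 : g * x * g⁻¹
        = c * ((c⁻¹ * g * c) * (c⁻¹ * x * c) * (c⁻¹ * g * c)⁻¹) * c⁻¹ := by group
    rw [e3, h2]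
    group

section QuotInner

variable {H G : Type*} [Group H] [Group G] (p : ℕ) [Fact p.Prime] (π : H →* G)

/-- **Simplicity criterion for central quotients, self-automizing form.** -/
theorem isSimple_of_central_quotient_inner [Finite H] [Finite G]
    (hπ : Function.Surjective π)
    (hker : ∀ z : H, π z = 1 ↔ z ∈ Subgroup.center H)
    (hpf : ∀ z ∈ Subgroup.center H, ∀ a : ℕ, z ^ (p ^ a) = 1 → z = 1)
    (U : Subgroup H) (hUp : ∀ u ∈ U, ∃ a : ℕ, u ^ (p ^ a) = 1) (hidx : ¬ p ∣ U.index)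
    (hU1 : U ≠ ⊥)
    (ha : ∀ T : Subgroup H, T ≤ U → T ≠ ⊥ →
      (∀ x ∈ T, ∀ g : H, g * x * g⁻¹ ∈ U → g * x * g⁻¹ ∈ T) → T = U)
    (hc : ∀ g ∈ Subgroup.normalizer (U : Set H), Nat.Coprime (orderOf g) p →
      ∀ x ∈ U, g * x * g⁻¹ = x)
    (S : Sylow p G) : (Cfsg.groupFusionSystem (S : Subgroup G)).IsSimple p := by
  have hUpg : IsPGroup p U := fun u => by
    obtain ⟨a, ha⟩ := hUp u u.2
    exact ⟨a, Subtype.ext (by rw [Subgroup.coe_pow]; exact ha)⟩
  let PH : Sylow p H := hUpg.toSylow hidx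
  have hPH : (PH : Subgroup H) = U := rfl
  let P : Sylow p G := (hUpg.map π).toSylow
    (fun h => hidx (h.trans (Subgroup.index_map_dvd _ hπ)))
  have hP : (P : Subgroup G) = U.map π := rfl
  have heq : ∀ {x y : H} {a b : ℕ}, x ^ (p ^ a) = 1 → y ^ (p ^ b) = 1 → π x = π y → x = y :=
    fun hx hy h => eq_of_map_eq_of_central p π hker hpf hx hy h
  have hnorm : ∀ {g : H},
      π g ∈ Subgroup.normalizer ((U.map π : Subgroup G) : Set G) →
      ∀ u ∈ U, g * u * g⁻¹ ∈ U := by
    intro g hg u hu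
    have h1 : π (g * u * g⁻¹) ∈ U.map π := by
      rw [map_mul, map_mul, map_inv]
      exact (Subgroup.mem_normalizer_iff.1 hg _).1 (Subgroup.mem_map_of_mem _ hu)
    obtain ⟨u', hu', hu'eq⟩ := Subgroup.mem_map.1 h1
    obtain ⟨a, ha'⟩ := hUp u hu
    obtain ⟨b, hb'⟩ := hUp u' hu'
    have := heq hb' (conj_pow_one' (g := g) ha') hu'eq
    rw [← this]
    exact hu'
  apply isSimple_of_sylow_inner p P ?_ ?_ ?_ S
  · intro hbot
    rw [hP] at hbot
    apply hU1
    rw [Subgroup.eq_bot_iff_forall]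
    intro u hu
    have h1 : π u = 1 := by
      have := Subgroup.mem_map_of_mem π hu
      rw [hbot, Subgroup.mem_bot] at this
      exact this
    obtain ⟨a, ha'⟩ := hUp u hu
    exact hpf u ((hker u).1 h1) a ha'
  · intro T hTP hT hcl
    rw [hP] at hTP hcl ⊢
    have h1 : U ⊓ T.comap π = U := by
      refine ha _ inf_le_left ?_ ?_
      · intro hbot
        obtain ⟨⟨x, hxT⟩, hx1⟩ := Subgroup.ne_bot_iff_exists_ne_one.1 hT
        obtain ⟨u, hu, hux⟩ := Subgroup.mem_map.1 (hTP hxT)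
        have huT' : u ∈ U ⊓ T.comap π :=
          ⟨hu, by show π u ∈ T; rw [hux]; exact hxT⟩
        rw [hbot, Subgroup.mem_bot] at huT'
        apply hx1
        apply Subtype.ext
        show x = 1
        rw [← hux, huT', map_one]
      · intro x hx g hgx
        refine ⟨hgx, ?_⟩
        show π (g * x * g⁻¹) ∈ T
        rw [map_mul, map_mul, map_inv]
        apply hcl _ hx.2
        rw [← map_inv, ← map_mul, ← map_mul]
        exact Subgroup.mem_map_of_mem _ hgx
    apply le_antisymm hTP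
    rw [Subgroup.map_le_iff_le_comap, ← h1]
    exact inf_le_right
  · intro x hx
    rw [hP] at hx ⊢
    obtain ⟨g, rfl⟩ := hπ x
    have hgN : g ∈ Subgroup.normalizer (U : Set H) :=
      mem_normalizer_of_finite (fun u hu => hnorm hx u hu)
    obtain ⟨s, hs, hsx⟩ := exists_inner_of_coprime_centralize PH
      (fun g' hg' hcop x' hx' => hc g' hg' hcop x' hx') (g := g) hgN
    refine ⟨π s, Subgroup.mem_map_of_mem _ hs, ?_⟩
    rintro _ ⟨u, hu, rfl⟩
    rw [← map_inv, ← map_mul, ← map_mul, hsx u hu, map_mul, map_mul, map_inv]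

end QuotInner

end Cfsg.Agent.Lib.Helper86
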