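import Mathlib
import Cfsg.Agent.Lib.Helper5.CardSL
import Cfsg.Agent.Lib.Helper86.QuotInner
import Cfsg.Agent.Lib.Helper86.Idx2

set_option autoImplicit false
set_option linter.style.haveILetI false
set_option linter.unusedSectionVars false
set_option linter.dupNamespace false
set_option linter.unusedVariables false
set_option linter.unusedSimpArgs false

/-! # `SL_3(F)`: order, centre, and the reduction of the simplicity of the `2`-fusion system of
`PSL_3(F)` to data in `SL_3(F)` -/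

namespace Cfsg.Agent.Lib.Helper86.SL3

open Matrix

variable {F : Type*} [Field F]

/-- the special linear group of degree three -/
abbrev SL3 (F : Type*) [Field F] := Matrix.SpecialLinearGroup (Fin 3) F

theorem card_SL3 [Fintype F] (n : ℕ) (hq : Fintype.card F = n + 1) :
    Nat.card (SL3 F) = n ^ 2 * (n + 1) ^ 3 * (n + 2) * ((n + 1) ^ 2 + (n + 1) + 1) := by
  have h1 := Matrix.card_GL_field (𝔽 := F) 3
  have h2 := Cfsg.Agent.Lib.Helper5.card_GL_eq_card_SL_mul (n := Fin 3) (F := F)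
  rw [h1, Fin.prod_univ_three, hq] at h2
  simp only [Fin.val_zero, Fin.val_one, Fin.val_two, pow_zero, pow_one, Nat.add_sub_cancel]
    at h2
  have e0 : (n + 1) ^ 3 - 1 = n * ((n + 1) ^ 2 + (n + 1) + 1) := by
    apply Nat.sub_eq_of_eq_add; ring
  have e1 : (n + 1) ^ 3 - (n + 1) = (n + 1) * n * (n + 2) := by
    apply Nat.sub_eq_of_eq_add; ring
  have e2 : (n + 1) ^ 3 - (n + 1) ^ 2 = (n + 1) ^ 2 * n := by
    apply Nat.sub_eq_of_eq_add; ring
  rw [e0, e1, e2] at h2
  have hn : 0 < n := by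
    have := Fintype.one_lt_card (α := F)
    omega
  apply Nat.eq_of_mul_eq_mul_right hn
  rw [← h2]
  ring

theorem center_two_free {z : SL3 F} (hz : z ∈ Subgroup.center (SL3 F)) (k : ℕ)
    (hk : z ^ (2 ^ k) = 1) : z = 1 := by
  obtain ⟨r, hr, hrz⟩ := Matrix.SpecialLinearGroup.mem_center_iff.1 hz
  have h1 : r ^ (2 ^ k) = 1 := by
    have h2 := congrArg (fun M : SL3 F => M.1 0 0) hk
    simp only [Matrix.SpecialLinearGroup.coe_pow, Matrix.SpecialLinearGroup.coe_one] at h2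
    rw [← hrz, ← map_pow, Matrix.scalar_apply, Matrix.diagonal_apply_eq,
      Matrix.one_apply_eq] at h2
    exact h2
  rw [Fintype.card_fin] at hr
  have h3 := pow_gcd_eq_one.2 ⟨hr, h1⟩
  have h4 : Nat.gcd 3 (2 ^ k) = 1 := Nat.Coprime.pow_right k (by norm_num)
  rw [h4, pow_one] at h3
  apply Subtype.ext
  rw [← hrz, h3, map_one]
  rfl

/-- reduction to `SL_3(F)` -/
theorem psl3_simple [Fintype F] (U : Subgroup (SL3 F))
    (hUp : ∀ u ∈ U, ∃ a : ℕ, u ^ (2 ^ a) = 1) (hidx : ¬ 2 ∣ U.index) (hU1 : U ≠ ⊥)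
    (ha : ∀ T : Subgroup (SL3 F), T ≤ U → T ≠ ⊥ →
      (∀ x ∈ T, ∀ g : SL3 F, g * x * g⁻¹ ∈ U → g * x * g⁻¹ ∈ T) → T = U)
    (hc : ∀ g ∈ Subgroup.normalizer (U : Set (SL3 F)), Nat.Coprime (orderOf g) 2 →
      ∀ x ∈ U, g * x * g⁻¹ = x)
    (S : Sylow 2 (Matrix.ProjectiveSpecialLinearGroup (Fin 3) F)) :
    (Cfsg.groupFusionSystem
      (S : Subgroup (Matrix.ProjectiveSpecialLinearGroup (Fin 3) F))).IsSimple 2 :=
  isSimple_of_central_quotient_inner 2 (QuotientGroup.mk' (Subgroup.center (SL3 F)))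
    (QuotientGroup.mk'_surjective _) (fun z => QuotientGroup.eq_one_iff z)
    (fun z hz a h => center_two_free hz a h) U hUp hidx hU1 ha hc S

end Cfsg.Agent.Lib.Helper86.SL3
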