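import Mathlib
import Cfsg.Agent.Lib.Helper86.SL3Common

set_option autoImplicit false
set_option linter.style.haveILetI false
set_option linter.unusedSectionVars false
set_option linter.dupNamespace false
set_option linter.unusedVariables false
set_option linter.unusedSimpArgs false

/-! # The `2`-fusion system of `PSL_3(F)`, `|F| ≡ 1 (mod 4)`: wreathed Sylow `2`-subgroups -/

namespace Cfsg.Agent.Lib.Helper86.SL3

open Matrix Cfsg.Agent.Lib.Helper86.Idx2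

variable {F : Type*} [Field F]

theorem det3 (a b c d e f g h i : F) :
    (!![a, b, c; d, e, f; g, h, i] : Matrix (Fin 3) (Fin 3) F).det
      = a * e * i - a * f * h - b * d * i + b * f * g + c * d * h - c * e * g := by
  rw [Matrix.det_fin_three]; rfl

theorem m3_ext {a b c d e f g h i a' b' c' d' e' f' g' h' i' : F} (h1 : a = a') (h2 : b = b')
    (h3 : c = c') (h4 : d = d') (h5 : e = e') (h6 : f = f') (h7 : g = g') (h8 : h = h')
    (h9 : i = i') :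
    (!![a, b, c; d, e, f; g, h, i] : Matrix (Fin 3) (Fin 3) F)
      = !![a', b', c'; d', e', f'; g', h', i'] := by
  subst_vars; rfl

/-- diagonal matrices -/
def D3 (x y z : F) : Matrix (Fin 3) (Fin 3) F := !![x, 0, 0; 0, y, 0; 0, 0, z]

/-- the transposition of the first two coordinates -/
def t3 (F : Type*) [Field F] : Matrix (Fin 3) (Fin 3) F := !![0, 1, 0; 1, 0, 0; 0, 0, -1]

/-- the transposition of the last two coordinates -/
def w3 (F : Type*) [Field F] : Matrix (Fin 3) (Fin 3) F := !![1, 0, 0; 0, 0, 1; 0, -1, 0]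

/-- the transposition of the outer coordinates -/
def v3 (F : Type*) [Field F] : Matrix (Fin 3) (Fin 3) F := !![0, 0, 1; 0, 1, 0; -1, 0, 0]

/-- diagonalizing matrix for the involutions outside the torus -/
def gI3 (a : F) : Matrix (Fin 3) (Fin 3) F := !![1, -a, 0; 0, 0, (-2 * a)⁻¹; 1, a, 0]

theorem det_D3 (x y z : F) : (D3 x y z).det = x * y * z := by
  unfold D3; rw [det3]; ring

theorem det_t3 : (t3 F).det = 1 := by unfold t3; rw [det3]; ring

theorem det_w3 : (w3 F).det = 1 := by unfold w3; rw [det3]; ring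

theorem det_v3 : (v3 F).det = 1 := by unfold v3; rw [det3]; ring

theorem det_gI3 {a : F} (ha : a ≠ 0) (h2 : (2 : F) ≠ 0) : (gI3 a).det = 1 := by
  unfold gI3; rw [det3]; field_simp; ring

theorem D3_congr {x y z x' y' z' : F} (h1 : x = x') (h2 : y = y') (h3 : z = z') :
    D3 x y z = D3 x' y' z' := by subst_vars; rfl

theorem D3_mul (x y z x' y' z' : F) : D3 x y z * D3 x' y' z' = D3 (x * x') (y * y') (z * z') := by
  unfold D3; rw [Matrix.mul_fin_three]; apply m3_ext <;> ring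

theorem D3_one : D3 (1 : F) 1 1 = 1 := by
  unfold D3; rw [Matrix.one_fin_three]

theorem t3_mul_t3 : t3 F * t3 F = 1 := by
  unfold t3; rw [Matrix.mul_fin_three, Matrix.one_fin_three]; apply m3_ext <;> ring

theorem t3_D3 (x y z : F) : t3 F * D3 x y z = D3 y x z * t3 F := by
  unfold t3 D3; rw [Matrix.mul_fin_three, Matrix.mul_fin_three]; apply m3_ext <;> ring

theorem w3_D3 (x y z : F) : w3 F * D3 x y z = D3 x z y * w3 F := by
  unfold w3 D3; rw [Matrix.mul_fin_three, Matrix.mul_fin_three]; apply m3_ext <;> ring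

theorem v3_D3 (x y z : F) : v3 F * D3 x y z = D3 z y x * v3 F := by
  unfold v3 D3; rw [Matrix.mul_fin_three, Matrix.mul_fin_three]; apply m3_ext <;> ring

theorem gI3_mul {a : F} (ha : a ≠ 0) (h2 : (2 : F) ≠ 0) :
    gI3 a * (D3 a a⁻¹ 1 * t3 F) = D3 (-1) (-1) 1 * gI3 a := by
  unfold gI3 D3 t3
  rw [Matrix.mul_fin_three, Matrix.mul_fin_three, Matrix.mul_fin_three]
  apply m3_ext <;> field_simp <;> ring

/-! ### the elements of `SL_3(F)` -/

/-- `diag(a, b, (ab)⁻¹)` -/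
def dg (a b : Fˣ) : SL3 F :=
  ⟨D3 (a : F) (b : F) ((a⁻¹ * b⁻¹ : Fˣ) : F), by
    rw [det_D3, ← Units.val_mul, ← Units.val_mul, mul_mul_mul_comm, mul_inv_cancel, mul_inv_cancel,
      one_mul, Units.val_one]⟩

/-- the involution swapping the first two coordinates -/
def tS (F : Type*) [Field F] : SL3 F := ⟨t3 F, det_t3⟩

/-- Weyl group element -/
def wS (F : Type*) [Field F] : SL3 F := ⟨w3 F, det_w3⟩

/-- Weyl group element -/
def vS (F : Type*) [Field F] : SL3 F := ⟨v3 F, det_v3⟩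

/-- diagonalizing element -/
def gI (a : Fˣ) (h2 : (2 : F) ≠ 0) : SL3 F := ⟨gI3 (a : F), det_gI3 a.ne_zero h2⟩

theorem dg_mul (a b a' b' : Fˣ) : dg a b * dg a' b' = dg (a * a') (b * b') := by
  apply Subtype.ext
  show D3 (a : F) (b : F) ((a⁻¹ * b⁻¹ : Fˣ) : F) * D3 (a' : F) (b' : F) ((a'⁻¹ * b'⁻¹ : Fˣ) : F)
    = D3 ((a * a' : Fˣ) : F) ((b * b' : Fˣ) : F) (((a * a')⁻¹ * (b * b')⁻¹ : Fˣ) : F)
  rw [D3_mul]
  apply D3_congr
  · rw [Units.val_mul]
  · rw [Units.val_mul]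
  · rw [← Units.val_mul, mul_inv, mul_inv, mul_mul_mul_comm]

theorem dg_one : dg (1 : Fˣ) 1 = 1 := by
  apply Subtype.ext
  show D3 ((1 : Fˣ) : F) ((1 : Fˣ) : F) (((1 : Fˣ)⁻¹ * (1 : Fˣ)⁻¹ : Fˣ) : F) = 1
  rw [inv_one, mul_one, Units.val_one, D3_one]

theorem dg_inj {a b a' b' : Fˣ} (h : dg a b = dg a' b') : a = a' ∧ b = b' := by
  have h0 := congrArg (fun M : SL3 F => M.1 0 0) h
  have h1 := congrArg (fun M : SL3 F => M.1 1 1) h
  exact ⟨Units.ext h0, Units.ext h1⟩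

theorem tS_mul : tS F * tS F = 1 := Subtype.ext t3_mul_t3

theorem tS_dg' (a b : Fˣ) : tS F * dg a b = dg b a * tS F := by
  apply Subtype.ext
  show t3 F * D3 (a : F) (b : F) ((a⁻¹ * b⁻¹ : Fˣ) : F)
    = D3 (b : F) (a : F) ((b⁻¹ * a⁻¹ : Fˣ) : F) * t3 F
  rw [t3_D3, mul_comm a⁻¹ b⁻¹]

theorem tS_dg (a b : Fˣ) : tS F * dg a b * tS F = dg b a := by
  rw [tS_dg', mul_assoc, tS_mul, mul_one]

theorem wS_dg (a : Fˣ) : wS F * dg a a⁻¹ * (wS F)⁻¹ = dg a 1 := by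
  rw [mul_inv_eq_iff_eq_mul]
  apply Subtype.ext
  show w3 F * D3 (a : F) ((a⁻¹ : Fˣ) : F) ((a⁻¹ * a⁻¹⁻¹ : Fˣ) : F)
    = D3 (a : F) ((1 : Fˣ) : F) ((a⁻¹ * 1⁻¹ : Fˣ) : F) * w3 F
  rw [w3_D3, mul_inv_cancel, inv_one, mul_one]

theorem wS_conj : wS F * dg (-1 : Fˣ) 1 * (wS F)⁻¹ = dg (-1) (-1) := by
  rw [mul_inv_eq_iff_eq_mul]
  apply Subtype.ext
  show w3 F * D3 ((-1 : Fˣ) : F) ((1 : Fˣ) : F) (((-1 : Fˣ)⁻¹ * 1⁻¹ : Fˣ) : F)
    = D3 ((-1 : Fˣ) : F) ((-1 : Fˣ) : F) (((-1 : Fˣ)⁻¹ * (-1 : Fˣ)⁻¹ : Fˣ) : F) * w3 F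
  rw [w3_D3]
  congr 1
  apply D3_congr rfl
  · simp
  · simp

theorem vS_conj : vS F * dg (1 : Fˣ) (-1) * (vS F)⁻¹ = dg (-1) (-1) := by
  rw [mul_inv_eq_iff_eq_mul]
  apply Subtype.ext
  show v3 F * D3 ((1 : Fˣ) : F) ((-1 : Fˣ) : F) (((1 : Fˣ)⁻¹ * (-1 : Fˣ)⁻¹ : Fˣ) : F)
    = D3 ((-1 : Fˣ) : F) ((-1 : Fˣ) : F) (((-1 : Fˣ)⁻¹ * (-1 : Fˣ)⁻¹ : Fˣ) : F) * v3 F
  rw [v3_D3]
  congr 1
  apply D3_congr
  · simp
  · rfl
  · simp

theorem gI_conj (a : Fˣ) (h2 : (2 : F) ≠ 0) :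
    gI a h2 * (dg a a⁻¹ * tS F) * (gI a h2)⁻¹ = dg (-1) (-1) := by
  rw [mul_inv_eq_iff_eq_mul]
  apply Subtype.ext
  show gI3 (a : F) * (D3 (a : F) ((a⁻¹ : Fˣ) : F) ((a⁻¹ * a⁻¹⁻¹ : Fˣ) : F) * t3 F)
    = D3 ((-1 : Fˣ) : F) ((-1 : Fˣ) : F) (((-1 : Fˣ)⁻¹ * (-1 : Fˣ)⁻¹ : Fˣ) : F) * gI3 (a : F)
  have e1 : D3 (a : F) ((a⁻¹ : Fˣ) : F) ((a⁻¹ * a⁻¹⁻¹ : Fˣ) : F) = D3 (a : F) (a : F)⁻¹ 1 := by
    apply D3_congr rfl
    · simp
    · simp
  have e2 : D3 ((-1 : Fˣ) : F) ((-1 : Fˣ) : F) (((-1 : Fˣ)⁻¹ * (-1 : Fˣ)⁻¹ : Fˣ) : F)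
      = D3 (-1 : F) (-1) 1 := by
    apply D3_congr
    · simp
    · simp
    · simp
  rw [e1, e2, gI3_mul a.ne_zero h2]

theorem tS_ne_dg (a b : Fˣ) : tS F ≠ dg a b := by
  intro h
  have h0 := congrArg (fun M : SL3 F => M.1 0 0) h
  exact a.ne_zero h0.symm

theorem unit_sq_one (x : Fˣ) (h : x * x = 1) : x = 1 ∨ x = -1 := by
  have h1 : (x : F) * x = 1 := by rw [← Units.val_mul, h, Units.val_one]
  rcases mul_self_eq_one_iff.1 h1 with h2 | h2
  · exact Or.inl (Units.ext h2)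
  · exact Or.inr (Units.ext (by rw [h2]; simp))

/-- the torus part as a homomorphism -/
def dHom (μ : Subgroup Fˣ) : μ × μ →* SL3 F where
  toFun p := dg (p.1 : Fˣ) (p.2 : Fˣ)
  map_one' := dg_one
  map_mul' p q := (dg_mul _ _ _ _).symm

theorem dHom_injective (μ : Subgroup Fˣ) : Function.Injective (dHom μ) := by
  rintro ⟨a, b⟩ ⟨a', b'⟩ h
  obtain ⟨h1, h2⟩ := dg_inj h
  exact Prod.ext (Subtype.ext h1) (Subtype.ext h2)

/-- an element of given order dividing the order of a finite cyclic group -/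
theorem exists_orderOf_eq {G : Type*} [Group G] [Finite G] [IsCyclic G] {a m : ℕ}
    (h : Nat.card G = a * m) (hm : 0 < m) : ∃ x : G, orderOf x = a := by
  obtain ⟨γ, hγ⟩ := IsCyclic.exists_ofOrder_eq_natCard (α := G)
  refine ⟨γ ^ m, ?_⟩
  rw [orderOf_pow_of_dvd hm.ne' (by rw [hγ, h]; exact Dvd.intro_left _ rfl), hγ, h,
    Nat.mul_div_cancel _ hm]

theorem two_ne_zero_of_odd [Fintype F] (hodd : Fintype.card F % 2 = 1) : (2 : F) ≠ 0 := by
  apply Ring.two_ne_zero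
  intro hc
  have := FiniteField.even_card_of_char_two hc
  omega

/-- **The `2`-fusion system of `PSL_3(F)` is simple, `|F| ≡ 1 (mod 4)`.** -/
theorem psl3_split [Fintype F] (hq : Fintype.card F % 4 = 1)
    (S : Sylow 2 (Matrix.ProjectiveSpecialLinearGroup (Fin 3) F)) :
    (Cfsg.groupFusionSystem
      (S : Subgroup (Matrix.ProjectiveSpecialLinearGroup (Fin 3) F))).IsSimple 2 := by
  classical
  obtain ⟨n, hn⟩ : ∃ n, Fintype.card F = n + 1 := ⟨Fintype.card F - 1, by omega⟩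
  have hn0 : n ≠ 0 := by have := Fintype.one_lt_card (α := F); omega
  obtain ⟨k, m, hm, hnk⟩ := Nat.exists_eq_two_pow_mul_odd hn0
  have hm2 : m % 2 = 1 := Nat.odd_iff.1 hm
  have hk : 2 ≤ k := by
    by_contra hcon
    interval_cases k <;> omega
  obtain ⟨j, rfl⟩ : ∃ j, k = j + 1 := ⟨k - 1, by omega⟩
  have hj : 1 ≤ j := by omega
  have h2 : (2 : F) ≠ 0 := two_ne_zero_of_odd (by omega)
  have hneg1 : (-1 : Fˣ) ≠ 1 := by
    intro h
    have h' := congrArg Units.val h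
    rw [Units.val_neg, Units.val_one] at h'
    apply h2
    linear_combination -h'
  -- a generator of the `2`-part of the multiplicative group
  have hcardU : Nat.card Fˣ = 2 ^ (j + 1) * m := by
    rw [Nat.card_units, Nat.card_eq_fintype_card, hn, Nat.add_sub_cancel, hnk]
  obtain ⟨ζ, hζ⟩ := exists_orderOf_eq hcardU hm.pos
  let μ : Subgroup Fˣ := Subgroup.zpowers ζ
  have hμpow : ∀ a ∈ μ, a ^ (2 ^ (j + 1)) = 1 := fun a ha =>
    orderOf_dvd_iff_pow_eq_one.1 (hζ ▸ orderOf_dvd_of_mem_zpowers ha)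
  have hζμ : ζ ∈ μ := Subgroup.mem_zpowers ζ
  have hnegμ : (-1 : Fˣ) ∈ μ := by
    have h1 : (ζ ^ (2 ^ j)) * (ζ ^ (2 ^ j)) = 1 := by
      rw [← pow_add, ← two_mul, ← pow_succ', ← hζ, pow_orderOf_eq_one]
    have h2' : ζ ^ (2 ^ j) ≠ 1 := by
      intro h
      have h3 := orderOf_dvd_of_pow_eq_one h
      rw [hζ] at h3
      have h4 := Nat.le_of_dvd (by positivity) h3
      have : 2 ^ j < 2 ^ (j + 1) := Nat.pow_lt_pow_right (by norm_num) (by omega)
      omega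
    rcases unit_sq_one _ h1 with h | h
    · exact absurd h h2'
    · rw [← h]; exact Subgroup.pow_mem _ hζμ _
  have hζζ : ζ * ζ ≠ 1 := by
    intro h
    have h3 : orderOf ζ ∣ 2 := orderOf_dvd_of_pow_eq_one (by rw [pow_two]; exact h)
    rw [hζ] at h3
    have h4 := Nat.le_of_dvd (by norm_num) h3
    have : 2 ^ 2 ≤ 2 ^ (j + 1) := Nat.pow_le_pow_right (by norm_num) (by omega)
    omega
  -- the data of the abstract lemmas
  let d : μ → μ → SL3 F := fun a b => dg (a : Fˣ) (b : Fˣ)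
  let A : Subgroup (SL3 F) := (dHom μ).range
  have hA : ∀ x, x ∈ A ↔ ∃ a b, x = d a b := by
    intro x
    constructor
    · rintro ⟨⟨a, b⟩, h⟩
      exact ⟨a, b, h.symm⟩
    · rintro ⟨a, b, h⟩
      exact ⟨(a, b), h.symm⟩
  have hd_mul : ∀ a b a' b' : μ, d a b * d a' b' = d (a * a') (b * b') :=
    fun a b a' b' => dg_mul _ _ _ _
  have hd_one : d 1 1 = 1 := dg_one
  have hd_inj : ∀ a b a' b' : μ, d a b = d a' b' → a = a' ∧ b = b' := by
    intro a b a' b' h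
    obtain ⟨h1, h2⟩ := dg_inj h
    exact ⟨Subtype.ext h1, Subtype.ext h2⟩
  have htd : ∀ a b : μ, tS F * d a b * tS F = d b a := fun a b => tS_dg _ _
  have htA : tS F ∉ A := by
    intro h
    obtain ⟨a, b, hab⟩ := (hA _).1 h
    exact tS_ne_dg _ _ hab
  have hAt : ∀ x ∈ A, tS F * x * tS F ∈ A := by
    intro x hx
    obtain ⟨a, b, rfl⟩ := (hA x).1 hx
    rw [htd]
    exact (hA _).2 ⟨b, a, rfl⟩
  let U : Subgroup (SL3 F) := ext2 A (tS F) tS_mul hAt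
  have hS : ∀ x, x ∈ U ↔ x ∈ A ∨ x * tS F ∈ A := fun x => mem_ext2
  have hA2 : ∀ x ∈ A, ∃ i : ℕ, x ^ (2 ^ i) = 1 := by
    rintro x ⟨⟨a, b⟩, rfl⟩
    refine ⟨j + 1, ?_⟩
    rw [← map_pow]
    have : (a, b) ^ (2 ^ (j + 1)) = (1 : μ × μ) := by
      apply Prod.ext
      · exact Subtype.ext (by
          show ((a ^ (2 ^ (j + 1)) : μ) : Fˣ) = 1
          rw [Subgroup.coe_pow]; exact hμpow a a.2)
      · exact Subtype.ext (by
          show ((b ^ (2 ^ (j + 1)) : μ) : Fˣ) = 1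
          rw [Subgroup.coe_pow]; exact hμpow b b.2)
    rw [this, map_one]
  have hUp : ∀ x ∈ U, ∃ i : ℕ, x ^ (2 ^ i) = 1 := pow_ext2 hA2
  -- the order of `U`
  have hcardμ : Nat.card μ = 2 ^ (j + 1) := by
    rw [Nat.card_zpowers, hζ]
  have hcardA : Nat.card A = 2 ^ (j + 1) * 2 ^ (j + 1) := by
    rw [← Nat.card_congr (MonoidHom.ofInjective (dHom_injective μ)).toEquiv, Nat.card_prod,
      hcardμ]
  have hcardUU : Nat.card U = 2 ^ (2 * (j + 1) + 1) := by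
    rw [card_ext2 htA, hcardA]; ring
  have hidx : ¬ 2 ∣ U.index := by
    refine not_dvd_index_of_card (isPGroup_of_pow hUp) (e := 2 * (j + 1) + 1)
      (r := m ^ 2 * (n + 1) ^ 3 * (2 ^ j * m + 1) * ((n + 1) ^ 2 + (n + 1) + 1))
      (by rw [hcardUU]) ?_ ?_
    · rw [card_SL3 n hn]
      have e : n + 2 = 2 * (2 ^ j * m + 1) := by rw [hnk]; ring
      rw [e, hnk]
      ring
    · have o2 : Odd (n + 1) := by
        apply Even.add_one
        rw [hnk]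
        exact Even.mul_right (Nat.even_pow.2 ⟨even_two, by omega⟩) m
      have o3 : Odd (2 ^ j * m + 1) := by
        apply Even.add_one
        exact Even.mul_right (Nat.even_pow.2 ⟨even_two, by omega⟩) m
      have o4 : Odd ((n + 1) ^ 2 + (n + 1) + 1) := (o2.pow.add_odd o2).add_one
      exact Nat.odd_iff.1 ((((hm.pow).mul o2.pow).mul o3).mul o4)
  -- the central involution
  have hz₀A : dg (-1 : Fˣ) (-1) ∈ A := (hA _).2 ⟨⟨-1, hnegμ⟩, ⟨-1, hnegμ⟩, rfl⟩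
  have hz₀ : dg (-1 : Fˣ) (-1) ∈ U := Or.inl hz₀A
  have hU1 : U ≠ ⊥ := by
    intro hbot
    have h1 : dg (-1 : Fˣ) (-1) = 1 := by
      have := hz₀
      rwa [hbot, Subgroup.mem_bot] at this
    rw [← dg_one] at h1
    exact hneg1 (dg_inj h1).1
  have hinv : ∀ x ∈ U, x * x = 1 → x ≠ 1 → ∃ g : SL3 F, g * x * g⁻¹ = dg (-1) (-1) := by
    intro x hx hxx hx1
    rcases hx with hx | hx
    · obtain ⟨a, b, rfl⟩ := (hA x).1 hx
      have h1 : dg ((a : Fˣ) * (a : Fˣ)) ((b : Fˣ) * (b : Fˣ)) = dg 1 1 := by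
        rw [← dg_mul, dg_one]; exact hxx
      obtain ⟨ha, hb⟩ := dg_inj h1
      rcases unit_sq_one _ ha with ha | ha <;> rcases unit_sq_one _ hb with hb | hb
      · exfalso; apply hx1
        show dg (a : Fˣ) (b : Fˣ) = 1
        rw [ha, hb, dg_one]
      · refine ⟨vS F, ?_⟩
        show vS F * dg (a : Fˣ) (b : Fˣ) * (vS F)⁻¹ = _
        rw [ha, hb, vS_conj]
      · refine ⟨wS F, ?_⟩
        show wS F * dg (a : Fˣ) (b : Fˣ) * (wS F)⁻¹ = _
        rw [ha, hb, wS_conj]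
      · refine ⟨1, ?_⟩
        show 1 * dg (a : Fˣ) (b : Fˣ) * 1⁻¹ = _
        rw [ha, hb, one_mul, inv_one, mul_one]
    · obtain ⟨a, b, hab⟩ := (hA _).1 hx
      have hx' : x = dg (a : Fˣ) (b : Fˣ) * tS F := by
        have : x * tS F * tS F = dg (a : Fˣ) (b : Fˣ) * tS F := by rw [hab]
        rwa [mul_assoc, tS_mul, mul_one] at this
      have h1 : dg ((a : Fˣ) * (b : Fˣ)) ((b : Fˣ) * (a : Fˣ)) = dg 1 1 := by
        rw [← dg_mul, ← tS_dg (a : Fˣ) (b : Fˣ), dg_one, ← hxx, hx']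
        simp only [mul_assoc]
      obtain ⟨hab1, -⟩ := dg_inj h1
      have hb : (b : Fˣ) = (a : Fˣ)⁻¹ := eq_inv_of_mul_eq_one_right hab1
      refine ⟨gI (a : Fˣ) h2, ?_⟩
      rw [hx', hb, gI_conj]
  -- assembly
  refine psl3_simple U hUp hidx hU1 ?_ ?_ S
  · intro T hTU hT1 hT
    exact wreath_closed (d := d) (t := tS F) (w := wS F) (z₀ := dg (-1) (-1)) hA hS hUp hd_mul
      hd_one tS_mul htd htA (fun a => wS_dg _) hz₀ hinv hTU hT1 hT
  · intro g hg hodd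
    refine wreath_centralize (d := d) (t := tS F) (ν := ⟨-1, hnegμ⟩) (a₀ := ⟨ζ, hζμ⟩) hA hS hd_mul
      hd_one hd_inj tS_mul htd htA ?_ ?_ ?_ ?_ ?_ hg hodd
    · intro a
      exact ⟨j + 1, Subtype.ext (by
        show ((a ^ (2 ^ (j + 1)) : μ) : Fˣ) = 1
        rw [Subgroup.coe_pow]; exact hμpow a a.2)⟩
    · intro a ha
      have h1 : (a : Fˣ) * a = 1 := congrArg Subtype.val ha
      rcases unit_sq_one _ h1 with h | h
      · exact Or.inl (Subtype.ext h)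
      · exact Or.inr (Subtype.ext h)
    · intro h
      exact hneg1 (congrArg Subtype.val h)
    · exact Subtype.ext (by show (-1 : Fˣ) * (-1) = 1; simp)
    · intro h
      exact hζζ (congrArg Subtype.val h)

end Cfsg.Agent.Lib.Helper86.SL3
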