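import Mathlib
import Cfsg.Agent.Lib.Helper18.Tri

set_option autoImplicit false
set_option linter.style.haveILetI false
set_option linter.unusedSectionVars false
set_option linter.dupNamespace false
set_option linter.unusedVariables false

/-! # The unitriangular subgroup of `SL_n(K)`

`upperSL n K` (upper triangular matrices), `uniSL n K` (upper unitriangular matrices): the
latter is a `p`-group in characteristic `p`, its normalizer is the former, and it is a Sylow
`p`-subgroup when `K` is finite. -/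

namespace Cfsg.Agent.Lib.Helper86.SLn

open Matrix

/-- `SL_n(K)` -/
abbrev SLn (n : ℕ) (K : Type*) [Field K] := Matrix.SpecialLinearGroup (Fin n) K

variable {n : ℕ} {K : Type*} [Field K]

theorem coe_inv_eq (a : SLn n K) :
    ((a⁻¹ : SLn n K) : Matrix (Fin n) (Fin n) K) = (a : Matrix (Fin n) (Fin n) K)⁻¹ := by
  rw [Matrix.SpecialLinearGroup.coe_inv, Matrix.inv_def, a.det_coe, Ring.inverse_one, one_smul]

/-- the upper triangular matrices of determinant one -/
def upperSL (n : ℕ) (K : Type*) [Field K] : Subgroup (SLn n K) where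
  carrier := {g | (g : Matrix (Fin n) (Fin n) K).BlockTriangular id}
  mul_mem' := fun {a b} ha hb => by
    show ((a * b : SLn n K) : Matrix (Fin n) (Fin n) K).BlockTriangular id
    rw [Matrix.SpecialLinearGroup.coe_mul]
    exact ha.mul hb
  one_mem' := by
    show ((1 : SLn n K) : Matrix (Fin n) (Fin n) K).BlockTriangular id
    rw [Matrix.SpecialLinearGroup.coe_one]
    exact Matrix.blockTriangular_one
  inv_mem' := fun {a} ha => by
    show ((a⁻¹ : SLn n K) : Matrix (Fin n) (Fin n) K).BlockTriangular id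
    rw [coe_inv_eq]
    haveI : Invertible (a : Matrix (Fin n) (Fin n) K) :=
      Matrix.invertibleOfIsUnitDet _ (by rw [a.det_coe]; exact isUnit_one)
    exact Matrix.blockTriangular_inv_of_blockTriangular ha

theorem mem_upperSL {g : SLn n K} :
    g ∈ upperSL n K ↔ ∀ i j : Fin n, j < i → g.1 i j = 0 :=
  ⟨fun h i j hij => h hij, fun h i j hij => h i j hij⟩

theorem upper_mul_diag {a b : SLn n K} (ha : a ∈ upperSL n K) (hb : b ∈ upperSL n K)
    (i : Fin n) : (a * b : SLn n K).1 i i = a.1 i i * b.1 i i := by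
  rw [Matrix.SpecialLinearGroup.coe_mul]
  exact Cfsg.Agent.Lib.Helper18.blockTriangular_mul_diag Function.injective_id ha hb i

theorem upper_inv_diag {a : SLn n K} (ha : a ∈ upperSL n K) (i : Fin n) :
    a.1 i i * (a⁻¹ : SLn n K).1 i i = 1 := by
  have h := upper_mul_diag ha ((upperSL n K).inv_mem ha) i
  rw [mul_inv_cancel, Matrix.SpecialLinearGroup.coe_one, Matrix.one_apply_eq] at h
  exact h.symm

theorem upper_diag_ne_zero {a : SLn n K} (ha : a ∈ upperSL n K) (i : Fin n) : a.1 i i ≠ 0 := by
  intro h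
  have := upper_inv_diag ha i
  rw [h, zero_mul] at this
  exact zero_ne_one this

theorem upper_pow_diag {a : SLn n K} (ha : a ∈ upperSL n K) (i : Fin n) (m : ℕ) :
    (a ^ m : SLn n K).1 i i = a.1 i i ^ m := by
  induction m with
  | zero => rw [pow_zero, pow_zero, Matrix.SpecialLinearGroup.coe_one, Matrix.one_apply_eq]
  | succ m ih =>
    rw [pow_succ, pow_succ, upper_mul_diag (pow_mem ha m) ha, ih]

/-- the upper unitriangular matrices -/
def uniSL (n : ℕ) (K : Type*) [Field K] : Subgroup (SLn n K) where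
  carrier := {g | g ∈ upperSL n K ∧ ∀ i, g.1 i i = 1}
  mul_mem' := fun {a b} ha hb =>
    ⟨mul_mem ha.1 hb.1, fun i => by rw [upper_mul_diag ha.1 hb.1, ha.2, hb.2, one_mul]⟩
  one_mem' := ⟨one_mem _, fun i => by
    rw [Matrix.SpecialLinearGroup.coe_one, Matrix.one_apply_eq]⟩
  inv_mem' := fun {a} ha => ⟨inv_mem ha.1, fun i => by
    have := upper_inv_diag ha.1 i
    rw [ha.2, one_mul] at this
    exact this⟩

theorem mem_uniSL {g : SLn n K} :
    g ∈ uniSL n K ↔ (∀ i j : Fin n, j < i → g.1 i j = 0) ∧ ∀ i, g.1 i i = 1 :=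
  ⟨fun h => ⟨mem_upperSL.1 h.1, h.2⟩, fun h => ⟨mem_upperSL.2 h.1, h.2⟩⟩

theorem uniSL_le_upperSL : uniSL n K ≤ upperSL n K := fun _ h => h.1

theorem conj_mem_uniSL {b u : SLn n K} (hb : b ∈ upperSL n K) (hu : u ∈ uniSL n K) :
    b * u * b⁻¹ ∈ uniSL n K := by
  refine ⟨mul_mem (mul_mem hb hu.1) (inv_mem hb), fun i => ?_⟩
  rw [upper_mul_diag (mul_mem hb hu.1) (inv_mem hb), upper_mul_diag hb hu.1, hu.2, mul_one]
  exact upper_inv_diag hb i

theorem upperSL_le_normalizer :
    upperSL n K ≤ Subgroup.normalizer ((uniSL n K : Subgroup (SLn n K)) : Set (SLn n K)) := by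
  intro b hb
  rw [Subgroup.mem_normalizer_iff]
  intro u
  constructor
  · exact conj_mem_uniSL hb
  · intro h
    have := conj_mem_uniSL (inv_mem hb) h
    have e : b⁻¹ * (b * u * b⁻¹) * b⁻¹⁻¹ = u := by group
    rwa [e] at this

/-! ### unipotency -/

/-- `M i j = 0` unless `j ≥ i + k` -/
def Banded (k : ℕ) (M : Matrix (Fin n) (Fin n) K) : Prop :=
  ∀ i j : Fin n, j.val < i.val + k → M i j = 0

theorem Banded.mul {a b : ℕ} {M N : Matrix (Fin n) (Fin n) K} (hM : Banded a M)
    (hN : Banded b N) : Banded (a + b) (M * N) := by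
  intro i j hij
  rw [Matrix.mul_apply]
  apply Finset.sum_eq_zero
  intro l _
  by_cases hl : l.val < i.val + a
  · rw [hM i l hl, zero_mul]
  · rw [hN l j (by omega), mul_zero]

theorem banded_one : Banded 0 (1 : Matrix (Fin n) (Fin n) K) := by
  intro i j hij
  exact Matrix.one_apply_ne (by intro h; subst h; omega)

theorem Banded.pow {M : Matrix (Fin n) (Fin n) K} (hM : Banded 1 M) :
    ∀ k : ℕ, Banded k (M ^ k)
  | 0 => by rw [pow_zero]; exact banded_one
  | k + 1 => by rw [pow_succ]; exact (Banded.pow hM k).mul hM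

theorem pow_eq_zero_of_banded {M : Matrix (Fin n) (Fin n) K} (hM : Banded 1 M) : M ^ n = 0 := by
  ext i j
  exact Banded.pow hM n i j (by have := j.2; omega)

theorem uni_sub_one_banded {u : SLn n K} (hu : u ∈ uniSL n K) : Banded 1 (u.1 - 1) := by
  intro i j hij
  rw [Matrix.sub_apply]
  by_cases h : i = j
  · subst h
    rw [hu.2, Matrix.one_apply_eq, sub_self]
  · have hlt : j < i := by
      rw [Fin.lt_def]
      have : j.val ≠ i.val := fun h' => h (Fin.ext h'.symm)
      omega
    rw [hu.1 hlt, Matrix.one_apply_ne h, sub_zero]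

theorem uni_pow_eq_one (p : ℕ) [Fact p.Prime] [CharP K p] [NeZero n] {u : SLn n K}
    (hu : u ∈ uniSL n K) : u ^ (p ^ n) = 1 := by
  haveI : Nonempty (Fin n) := ⟨⟨0, NeZero.pos n⟩⟩
  apply Subtype.ext
  rw [Matrix.SpecialLinearGroup.coe_pow, Matrix.SpecialLinearGroup.coe_one]
  have h1 : u.1 = 1 + (u.1 - 1) := by abel
  have h2 : (u.1 - 1) ^ (p ^ n) = 0 := by
    have hle : n ≤ p ^ n := (Nat.lt_pow_self (Fact.out : p.Prime).one_lt).le
    obtain ⟨d, hd⟩ := Nat.exists_eq_add_of_le hle
    rw [hd, pow_add, pow_eq_zero_of_banded (uni_sub_one_banded hu), zero_mul]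
  rw [h1, add_pow_char_pow_of_commute p n (Commute.one_left _), one_pow, h2, add_zero]

theorem uniSL_isPGroup (p : ℕ) [Fact p.Prime] [CharP K p] [NeZero n] : IsPGroup p (uniSL n K) := by
  intro u
  exact ⟨n, Subtype.ext (by rw [Subgroup.coe_pow]; exact uni_pow_eq_one p u.2)⟩

theorem orderOf_uni (p : ℕ) [Fact p.Prime] [CharP K p] [NeZero n] {u : SLn n K}
    (hu : u ∈ uniSL n K) : ∃ k : ℕ, orderOf u = p ^ k := by
  have h := orderOf_dvd_of_pow_eq_one (uni_pow_eq_one p hu)
  obtain ⟨k, -, hk⟩ := (Nat.dvd_prime_pow Fact.out).mp h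
  exact ⟨k, hk⟩

/-! ### elementary transvections -/

theorem transvection_mem_uniSL {i j : Fin n} (hij : i < j) (c : K) :
    Matrix.SpecialLinearGroup.transvection (ne_of_lt hij) c ∈ uniSL n K := by
  rw [mem_uniSL]
  constructor
  · intro a b hba
    rw [Matrix.SpecialLinearGroup.transvection_coe, Matrix.add_apply,
      Matrix.one_apply_ne (ne_of_gt hba), zero_add, Matrix.single_apply]
    rw [if_neg]
    rintro ⟨rfl, rfl⟩
    exact absurd hij (not_lt.2 hba.le)
  · intro a
    rw [Matrix.SpecialLinearGroup.transvection_coe, Matrix.add_apply, Matrix.one_apply_eq,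
      Matrix.single_apply, if_neg, add_zero]
    rintro ⟨rfl, h⟩
    exact absurd h (ne_of_gt hij)

/-- row operation by a transvection on a vector -/
theorem transvection_mulVec {i j : Fin n} (hij : i ≠ j) (c : K) (w : Fin n → K) (a : Fin n) :
    ((Matrix.SpecialLinearGroup.transvection hij c : SLn n K).1 *ᵥ w) a
      = w a + if a = i then c * w j else 0 := by
  rw [Matrix.SpecialLinearGroup.transvection_coe, Matrix.add_mulVec, Matrix.one_mulVec,
    Pi.add_apply, Matrix.single_mulVec, Function.update_apply]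
  rfl

/-! ### the normalizer of the unitriangular group -/

/-- the flag argument: an element normalizing the unitriangular group is upper triangular -/
theorem mem_upperSL_of_conj {g : SLn n K}
    (hg : ∀ u ∈ uniSL n K, g⁻¹ * u * g ∈ uniSL n K) : g ∈ upperSL n K := by
  have key : ∀ k : ℕ, ∀ v : Fin n → K, (∀ m : Fin n, k ≤ m.val → v m = 0) →
      ∀ m : Fin n, k ≤ m.val → (g.1 *ᵥ v) m = 0 := by
    intro k
    induction k with
    | zero =>
      intro v hv m _
      have : v = 0 := funext fun m => hv m (Nat.zero_le _)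
      rw [this, Matrix.mulVec_zero]
      rfl
    | succ k ih =>
      intro v hv m hm
      by_contra hne
      have hm1 : m.val - 1 < n := by have := m.2; omega
      set m' : Fin n := ⟨m.val - 1, hm1⟩ with hm'
      have hlt : m' < m := by rw [Fin.lt_def]; show m.val - 1 < m.val; omega
      set u : SLn n K := Matrix.SpecialLinearGroup.transvection (ne_of_lt hlt) 1 with hu
      have huU : u ∈ uniSL n K := transvection_mem_uniSL hlt 1
      have hu' := hg u huU
      set u' : SLn n K := g⁻¹ * u * g with hu'def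
      have hgu : g * u' = u * g := by rw [hu'def]; group
      -- `y = u' v - v` lies in the span of the first `k` basis vectors
      have hy : ∀ i : Fin n, k ≤ i.val → (u'.1 *ᵥ v - v) i = 0 := by
        intro i hi
        rw [Pi.sub_apply, Matrix.mulVec, dotProduct, Finset.sum_eq_single i]
        · rw [hu'.2, one_mul, sub_self]
        · intro j _ hji
          rcases lt_or_gt_of_ne hji with h | h
          · rw [hu'.1 h, zero_mul]
          · rw [hv j (by rw [Fin.lt_def] at h; omega), mul_zero]
        · intro h; exact absurd (Finset.mem_univ i) h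
      have h1 := ih (u'.1 *ᵥ v - v) hy m' (by show k ≤ m.val - 1; omega)
      rw [Matrix.mulVec_sub, Matrix.mulVec_mulVec, ← Matrix.SpecialLinearGroup.coe_mul, hgu,
        Matrix.SpecialLinearGroup.coe_mul, ← Matrix.mulVec_mulVec, Pi.sub_apply, hu,
        transvection_mulVec, if_pos rfl, one_mul] at h1
      apply hne
      have : (g.1 *ᵥ v) m' + (g.1 *ᵥ v) m - (g.1 *ᵥ v) m' = 0 := h1
      rw [add_sub_cancel_left] at this
      exact this
  rw [mem_upperSL]
  intro i j hji
  have h := key (j.val + 1) (Pi.single j 1) (by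
    intro m hm
    rw [Pi.single_apply, if_neg]
    intro h; subst h; omega) i (by rw [Fin.lt_def] at hji; omega)
  rw [Matrix.mulVec_single_one] at h
  exact h

theorem normalizer_uniSL :
    Subgroup.normalizer ((uniSL n K : Subgroup (SLn n K)) : Set (SLn n K)) = upperSL n K := by
  apply le_antisymm _ upperSL_le_normalizer
  intro g hg
  apply mem_upperSL_of_conj
  intro u hu
  have hg' := Subgroup.inv_mem _ hg
  have := (Subgroup.mem_normalizer_iff.mp hg' u).mp hu
  rwa [inv_inv] at this

/-- the `(q-1)`-st power of an upper triangular matrix is unitriangular -/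
theorem upper_pow_mem_uniSL [Fintype K] {b : SLn n K} (hb : b ∈ upperSL n K) :
    b ^ (Fintype.card K - 1) ∈ uniSL n K := by
  refine ⟨pow_mem hb _, fun i => ?_⟩
  rw [upper_pow_diag hb]
  exact FiniteField.pow_card_sub_one_eq_one _ (upper_diag_ne_zero hb i)

/-- the unitriangular group has index prime to `p` -/
theorem not_dvd_index_uniSL [Fintype K] (p : ℕ) [Fact p.Prime] [CharP K p] [NeZero n] :
    ¬ p ∣ (uniSL n K).index := by
  classical
  obtain ⟨k, hk⟩ := IsPGroup.iff_card.mp (uniSL_isPGroup (n := n) (K := K) p)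
  have hmod : Nat.card (Subgroup.normalizer ((uniSL n K : Subgroup (SLn n K)) : Set (SLn n K)) ⧸
      (uniSL n K).subgroupOf (Subgroup.normalizer ((uniSL n K : Subgroup (SLn n K)) :
        Set (SLn n K)))) ≡ Nat.card (SLn n K ⧸ uniSL n K) [MOD p] :=
    Sylow.card_quotient_normalizer_modEq_card_quotient (p := p) hk
  haveI : ((uniSL n K).subgroupOf (Subgroup.normalizer ((uniSL n K : Subgroup (SLn n K)) :
      Set (SLn n K)))).Normal := Subgroup.normal_in_normalizer
  intro hdvd
  have h1 : p ∣ Nat.card (Subgroup.normalizer ((uniSL n K : Subgroup (SLn n K)) : Set (SLn n K)) ⧸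
      (uniSL n K).subgroupOf (Subgroup.normalizer ((uniSL n K : Subgroup (SLn n K)) :
        Set (SLn n K)))) := by
    have h2 : Nat.card (SLn n K ⧸ uniSL n K) % p = 0 := Nat.mod_eq_zero_of_dvd hdvd
    unfold Nat.ModEq at hmod
    rw [h2] at hmod
    exact Nat.dvd_of_mod_eq_zero hmod
  obtain ⟨x, hx⟩ := exists_prime_orderOf_dvd_card' p h1
  obtain ⟨b, rfl⟩ := QuotientGroup.mk_surjective x
  have hbU : (b : SLn n K) ∈ upperSL n K := le_of_eq normalizer_uniSL b.2
  have h3 : (QuotientGroup.mk b : Subgroup.normalizer ((uniSL n K : Subgroup (SLn n K)) :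
      Set (SLn n K)) ⧸ (uniSL n K).subgroupOf (Subgroup.normalizer
        ((uniSL n K : Subgroup (SLn n K)) : Set (SLn n K)))) ^ (Fintype.card K - 1) = 1 := by
    rw [← QuotientGroup.mk_pow, QuotientGroup.eq_one_iff, Subgroup.mem_subgroupOf]
    rw [Subgroup.coe_pow]
    exact upper_pow_mem_uniSL hbU
  have h4 := orderOf_dvd_of_pow_eq_one h3
  rw [hx] at h4
  have h5 : p ∣ Fintype.card K := by
    rw [← CharP.cast_eq_zero_iff K p]
    exact Nat.cast_card_eq_zero K
  have h6 : 0 < Fintype.card K := Fintype.card_pos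
  have h7 : p ∣ 1 := by
    have : Fintype.card K = (Fintype.card K - 1) + 1 := by omega
    rw [this] at h5
    exact (Nat.dvd_add_right h4).1 h5
  exact (Fact.out : p.Prime).one_lt.ne' (Nat.dvd_one.1 h7)

/-- the unitriangular group as a Sylow `p`-subgroup of `SL_n(K)` -/
noncomputable def uniSylow [Fintype K] (p : ℕ) [Fact p.Prime] [CharP K p] [NeZero n] :
    Sylow p (SLn n K) :=
  (uniSL_isPGroup (n := n) (K := K) p).toSylow (not_dvd_index_uniSL p)

theorem coe_uniSylow [Fintype K] (p : ℕ) [Fact p.Prime] [CharP K p] [NeZero n] :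
    ((uniSylow p : Sylow p (SLn n K)) : Subgroup (SLn n K)) = uniSL n K := rfl

end Cfsg.Agent.Lib.Helper86.SLn
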