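import Mathlib

set_option autoImplicit false
set_option linter.style.haveILetI false
set_option linter.unusedSectionVars false
set_option linter.dupNamespace false
set_option linter.unusedVariables false

namespace Cfsg.Agent.Lib.Helper86.Un

open Matrix

variable {F : Type*} [Field F]

/-- the adjoint of a matrix with respect to the antidiagonal hermitian form -/
def adj (σ : F →+* F) {a b : ℕ} (M : Matrix (Fin a) (Fin b) F) : Matrix (Fin b) (Fin a) F :=
  ((M.map σ)ᵀ).submatrix Fin.rev Fin.rev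

variable {σ : F →+* F} {a b c : ℕ}

theorem adj_apply (M : Matrix (Fin a) (Fin b) F) (x : Fin b) (y : Fin a) :
    adj σ M x y = σ (M (Fin.rev y) (Fin.rev x)) := rfl

theorem adj_mul (M : Matrix (Fin a) (Fin b) F) (N : Matrix (Fin b) (Fin c) F) :
    adj σ (M * N) = adj σ N * adj σ M := by
  unfold adj
  rw [Matrix.map_mul, transpose_mul, submatrix_mul _ _ _ Fin.rev _ Fin.rev_bijective]

theorem adj_one : adj σ (1 : Matrix (Fin a) (Fin a) F) = 1 := by
  ext x y
  rw [adj_apply, one_apply, one_apply]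
  by_cases h : x = y
  · subst h; rw [if_pos rfl, if_pos rfl, map_one]
  · rw [if_neg h, if_neg (fun h' => h (Fin.rev_injective h').symm), map_zero]

theorem adj_zero : adj σ (0 : Matrix (Fin a) (Fin b) F) = 0 := by
  ext x y
  rw [adj_apply, Matrix.zero_apply, Matrix.zero_apply, map_zero]

theorem adj_add (M N : Matrix (Fin a) (Fin b) F) : adj σ (M + N) = adj σ M + adj σ N := by
  ext x y
  rw [adj_apply, Matrix.add_apply, Matrix.add_apply, map_add, adj_apply, adj_apply]

theorem adj_sub (M N : Matrix (Fin a) (Fin b) F) : adj σ (M - N) = adj σ M - adj σ N := by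
  ext x y
  rw [adj_apply, Matrix.sub_apply, Matrix.sub_apply, map_sub, adj_apply, adj_apply]

theorem adj_neg (M : Matrix (Fin a) (Fin b) F) : adj σ (-M) = -adj σ M := by
  ext x y
  rw [adj_apply, Matrix.neg_apply, Matrix.neg_apply, map_neg, adj_apply]

theorem adj_single (i : Fin a) (j : Fin b) (t : F) :
    adj σ (Matrix.single i j t) = Matrix.single (Fin.rev j) (Fin.rev i) (σ t) := by
  ext x y
  rw [adj_apply, single_apply, single_apply]
  by_cases h : i = Fin.rev y ∧ j = Fin.rev x
  · rw [if_pos h, if_pos ⟨by rw [h.2, Fin.rev_rev], by rw [h.1, Fin.rev_rev]⟩]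
  · rw [if_neg h, if_neg, map_zero]
    rintro ⟨h1, h2⟩
    exact h ⟨by rw [← h2, Fin.rev_rev], by rw [← h1, Fin.rev_rev]⟩

theorem adj_adj (hσ : ∀ x, σ (σ x) = x) (M : Matrix (Fin a) (Fin b) F) : adj σ (adj σ M) = M := by
  ext x y
  rw [adj_apply, adj_apply, Fin.rev_rev, Fin.rev_rev, hσ]

/-- a matrix of determinant one preserving the antidiagonal hermitian form -/
def ValidU (σ : F →+* F) {n : ℕ} (M : Matrix (Fin n) (Fin n) F) : Prop :=
  M.det = 1 ∧ adj σ M * M = 1

theorem valid_one {n : ℕ} : ValidU σ (1 : Matrix (Fin n) (Fin n) F) :=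
  ⟨det_one, by rw [adj_one, mul_one]⟩

theorem valid_mul {n : ℕ} {M N : Matrix (Fin n) (Fin n) F} (hM : ValidU σ M) (hN : ValidU σ N) :
    ValidU σ (M * N) := by
  refine ⟨by rw [det_mul, hM.1, hN.1, mul_one], ?_⟩
  rw [adj_mul, Matrix.mul_assoc, ← Matrix.mul_assoc (adj σ M), hM.2, Matrix.one_mul, hN.2]

theorem valid_mul_adj {n : ℕ} {M : Matrix (Fin n) (Fin n) F} (hM : ValidU σ M) :
    M * adj σ M = 1 := mul_eq_one_comm.1 hM.2

/-- the special unitary group of the antidiagonal hermitian form -/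
def UJ (n : ℕ) (σ : F →+* F) : Subgroup (Matrix.SpecialLinearGroup (Fin n) F) where
  carrier := {g | adj σ g.1 * g.1 = 1}
  mul_mem' := fun {x y} hx hy => (valid_mul ⟨x.2, hx⟩ ⟨y.2, hy⟩).2
  one_mem' := (valid_one (σ := σ)).2
  inv_mem' := fun {x} hx => by
    show adj σ (x⁻¹).1 * (x⁻¹).1 = 1
    have h1 : x.1 * (x⁻¹).1 = 1 := by
      have := congrArg Subtype.val (mul_inv_cancel x)
      exact this
    have h2 : (x⁻¹).1 = adj σ x.1 := by
      calc (x⁻¹).1 = (adj σ x.1 * x.1) * (x⁻¹).1 := by rw [hx, Matrix.one_mul]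
        _ = adj σ x.1 := by rw [Matrix.mul_assoc, h1, Matrix.mul_one]
    have h3 : adj σ (x⁻¹).1 * adj σ x.1 = 1 := by rw [← adj_mul, h1, adj_one]
    rw [← h2] at h3
    exact h3

/-- the matrix of an element -/
def mat {n : ℕ} : UJ n σ →* Matrix (Fin n) (Fin n) F where
  toFun g := g.1.1
  map_one' := rfl
  map_mul' _ _ := rfl

theorem mat_injective {n : ℕ} : Function.Injective (mat : UJ n σ → Matrix (Fin n) (Fin n) F) :=
  fun _ _ h => Subtype.ext (Subtype.ext h)

theorem valid_mat {n : ℕ} (g : UJ n σ) : ValidU σ (mat g) := ⟨g.1.2, g.2⟩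

open Classical in
/-- the element with a given matrix -/
noncomputable def ofMat (σ : F →+* F) {n : ℕ} (M : Matrix (Fin n) (Fin n) F) : UJ n σ :=
  if h : ValidU σ M then ⟨⟨M, h.1⟩, h.2⟩ else 1

theorem mat_ofMat {n : ℕ} {M : Matrix (Fin n) (Fin n) F} (h : ValidU σ M) :
    mat (ofMat σ M) = M := by
  unfold ofMat
  rw [dif_pos h]
  rfl

theorem ofMat_mat {n : ℕ} (g : UJ n σ) : ofMat σ (mat g) = g :=
  mat_injective (mat_ofMat (valid_mat g))

theorem ofMat_one {n : ℕ} : ofMat σ (1 : Matrix (Fin n) (Fin n) F) = 1 :=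
  mat_injective (by rw [mat_ofMat valid_one, map_one])

theorem ofMat_mul {n : ℕ} {M N : Matrix (Fin n) (Fin n) F} (hM : ValidU σ M) (hN : ValidU σ N) :
    ofMat σ M * ofMat σ N = ofMat σ (M * N) :=
  mat_injective (by rw [map_mul, mat_ofMat hM, mat_ofMat hN, mat_ofMat (valid_mul hM hN)])

theorem ofMat_inv {n : ℕ} {M N : Matrix (Fin n) (Fin n) F} (hM : ValidU σ M) (hN : ValidU σ N)
    (h : M * N = 1) : (ofMat σ M)⁻¹ = ofMat σ N := by
  rw [inv_eq_iff_mul_eq_one, ofMat_mul hM hN, h, ofMat_one]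


/-! ### embeddings of small unitary groups -/

section Emb

variable {r n : ℕ}

/-- the matrix of the inclusion of coordinates along `f` -/
def Pm (F : Type*) [Field F] {r n : ℕ} (f : Fin r → Fin n) : Matrix (Fin n) (Fin r) F :=
  (1 : Matrix (Fin n) (Fin n) F).submatrix id f

theorem Pm_apply (f : Fin r → Fin n) (x : Fin n) (i : Fin r) :
    (Pm F f) x i = if x = f i then 1 else 0 := by
  show (1 : Matrix (Fin n) (Fin n) F) x (f i) = _
  rw [Matrix.one_apply]

theorem PmT_mul_Pm {f : Fin r → Fin n} (hf : Function.Injective f) :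
    (Pm F f)ᵀ * Pm F f = 1 := by
  ext i j
  rw [Matrix.mul_apply, Matrix.one_apply]
  simp only [Matrix.transpose_apply, Pm_apply]
  by_cases h : i = j
  · subst h
    rw [if_pos rfl, Finset.sum_eq_single (f i)]
    · simp
    · intro x _ hx
      rw [if_neg hx, zero_mul]
    · intro h; exact absurd (Finset.mem_univ _) h
  · rw [if_neg h]
    apply Finset.sum_eq_zero
    intro x _
    by_cases h1 : x = f i
    · rw [if_pos h1, if_neg, mul_zero]
      intro h2
      exact h (hf (h1.symm.trans h2))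
    · rw [if_neg h1, zero_mul]

/-- the embedding of matrices along `f` (non-unital) -/
def iot (f : Fin r → Fin n) (B : Matrix (Fin r) (Fin r) F) : Matrix (Fin n) (Fin n) F :=
  Pm F f * B * (Pm F f)ᵀ

theorem iot_zero (f : Fin r → Fin n) : iot f (0 : Matrix (Fin r) (Fin r) F) = 0 := by
  unfold iot; rw [Matrix.mul_zero, Matrix.zero_mul]

theorem iot_add (f : Fin r → Fin n) (B C : Matrix (Fin r) (Fin r) F) :
    iot f (B + C) = iot f B + iot f C := by
  unfold iot; rw [Matrix.mul_add, Matrix.add_mul]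

theorem iot_sub (f : Fin r → Fin n) (B C : Matrix (Fin r) (Fin r) F) :
    iot f (B - C) = iot f B - iot f C := by
  unfold iot; rw [Matrix.mul_sub, Matrix.sub_mul]

theorem iot_neg (f : Fin r → Fin n) (B : Matrix (Fin r) (Fin r) F) :
    iot f (-B) = -iot f B := by
  unfold iot; rw [Matrix.mul_neg, Matrix.neg_mul]

theorem iot_mul {f : Fin r → Fin n} (hf : Function.Injective f) (B C : Matrix (Fin r) (Fin r) F) :
    iot f (B * C) = iot f B * iot f C := by
  unfold iot
  calc Pm F f * (B * C) * (Pm F f)ᵀ = Pm F f * B * (1 : Matrix (Fin r) (Fin r) F) * C * (Pm F f)ᵀ := by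
        rw [Matrix.mul_one, Matrix.mul_assoc (Pm F f) B C]
    _ = Pm F f * B * (Pm F f)ᵀ * (Pm F f * C * (Pm F f)ᵀ) := by
        rw [← PmT_mul_Pm hf]
        simp only [Matrix.mul_assoc]

theorem mul_single_apply' {l m n : Type*} [DecidableEq m] [DecidableEq n] [Fintype m]
    (M : Matrix l m F) (i : m) (j : n) (t : F) (x : l) (y : n) :
    (M * Matrix.single i j t) x y = if y = j then M x i * t else 0 := by
  by_cases h : y = j
  · subst h
    rw [if_pos rfl, Matrix.mul_single_apply_same]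
  · rw [if_neg h, Matrix.mul_single_apply_of_ne _ _ _ _ _ h]

theorem single_mul_apply' {l m n : Type*} [DecidableEq l] [DecidableEq m] [Fintype m]
    (i : l) (j : m) (t : F) (M : Matrix m n F) (x : l) (y : n) :
    (Matrix.single i j t * M) x y = if x = i then t * M j y else 0 := by
  by_cases h : x = i
  · subst h
    rw [if_pos rfl, Matrix.single_mul_apply_same]
  · rw [if_neg h, Matrix.single_mul_apply_of_ne _ _ _ _ _ h]

theorem iot_single (f : Fin r → Fin n) (i j : Fin r) (t : F) :
    iot f (Matrix.single i j t) = Matrix.single (f i) (f j) t := by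
  have h1 : Pm F f * Matrix.single i j t = Matrix.single (f i) j t := by
    ext x y
    rw [mul_single_apply', Pm_apply, Matrix.single_apply]
    by_cases hy : y = j
    · by_cases hx : x = f i
      · rw [if_pos hy, if_pos hx, one_mul, if_pos ⟨hx.symm, hy.symm⟩]
      · rw [if_pos hy, if_neg hx, zero_mul, if_neg (fun h => hx h.1.symm)]
    · rw [if_neg hy, if_neg (fun h => hy h.2.symm)]
  have h2 : Matrix.single (f i) j t * (Pm F f)ᵀ = Matrix.single (f i) (f j) t := by
    ext x y
    rw [single_mul_apply', Matrix.transpose_apply, Pm_apply, Matrix.single_apply]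
    by_cases hx : x = f i
    · by_cases hy : y = f j
      · rw [if_pos hx, if_pos hy, mul_one, if_pos ⟨hx.symm, hy.symm⟩]
      · rw [if_pos hx, if_neg hy, mul_zero, if_neg (fun h => hy h.2.symm)]
    · rw [if_neg hx, if_neg (fun h => hx h.1.symm)]
  unfold iot
  rw [h1, h2]

/-- the embedding of matrices along `f` (unital) -/
def embM (f : Fin r → Fin n) (B : Matrix (Fin r) (Fin r) F) : Matrix (Fin n) (Fin n) F :=
  1 + iot f (B - 1)

theorem embM_one (f : Fin r → Fin n) : embM f (1 : Matrix (Fin r) (Fin r) F) = 1 := by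
  unfold embM; rw [sub_self, iot_zero, add_zero]

theorem embM_one_add (f : Fin r → Fin n) (N : Matrix (Fin r) (Fin r) F) :
    embM f (1 + N) = 1 + iot f N := by
  unfold embM; rw [add_sub_cancel_left]

theorem embM_mul {f : Fin r → Fin n} (hf : Function.Injective f) (B C : Matrix (Fin r) (Fin r) F) :
    embM f (B * C) = embM f B * embM f C := by
  unfold embM
  have h : B * C - 1 = (B - 1) + (C - 1) + (B - 1) * (C - 1) := by
    rw [Matrix.sub_mul, Matrix.mul_sub, Matrix.mul_sub, Matrix.mul_one, Matrix.one_mul,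
      Matrix.one_mul]
    abel
  rw [h, iot_add, iot_add, iot_mul hf, Matrix.add_mul, Matrix.mul_add, Matrix.mul_add,
    Matrix.one_mul, Matrix.mul_one, Matrix.one_mul]
  abel

theorem det_embM {f : Fin r → Fin n} (hf : Function.Injective f) (B : Matrix (Fin r) (Fin r) F) :
    (embM f B).det = B.det := by
  unfold embM iot
  rw [Matrix.mul_assoc, Matrix.det_one_add_mul_comm, Matrix.mul_assoc, PmT_mul_Pm hf,
    Matrix.mul_one, add_sub_cancel]

theorem adj_Pm {f : Fin r → Fin n} (hs : ∀ i, f (Fin.rev i) = Fin.rev (f i)) :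
    adj σ (Pm F f) = (Pm F f)ᵀ := by
  ext i x
  rw [adj_apply, Pm_apply, Matrix.transpose_apply, Pm_apply, hs]
  by_cases h : x = f i
  · rw [if_pos h, if_pos (by rw [h]), map_one]
  · rw [if_neg h, if_neg (fun h' => h (Fin.rev_injective h')), map_zero]

theorem adj_PmT {f : Fin r → Fin n} (hs : ∀ i, f (Fin.rev i) = Fin.rev (f i)) :
    adj σ (Pm F f)ᵀ = Pm F f := by
  ext x i
  rw [adj_apply, Matrix.transpose_apply, Pm_apply, Pm_apply, hs]
  by_cases h : x = f i
  · rw [if_pos h, if_pos (by rw [h]), map_one]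
  · rw [if_neg h, if_neg (fun h' => h (Fin.rev_injective h')), map_zero]

theorem adj_iot {f : Fin r → Fin n} (hs : ∀ i, f (Fin.rev i) = Fin.rev (f i))
    (B : Matrix (Fin r) (Fin r) F) : adj σ (iot f B) = iot f (adj σ B) := by
  unfold iot
  rw [adj_mul, adj_mul, adj_PmT hs, adj_Pm hs, Matrix.mul_assoc]

theorem adj_embM {f : Fin r → Fin n} (hs : ∀ i, f (Fin.rev i) = Fin.rev (f i))
    (B : Matrix (Fin r) (Fin r) F) : adj σ (embM f B) = embM f (adj σ B) := by
  unfold embM
  rw [adj_add, adj_one, adj_iot hs, adj_sub, adj_one]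

theorem valid_embM {f : Fin r → Fin n} (hf : Function.Injective f)
    (hs : ∀ i, f (Fin.rev i) = Fin.rev (f i)) {B : Matrix (Fin r) (Fin r) F} (hB : ValidU σ B) :
    ValidU σ (embM f B) := by
  refine ⟨by rw [det_embM hf, hB.1], ?_⟩
  rw [adj_embM hs, ← embM_mul hf, hB.2, embM_one]

end Emb

end Cfsg.Agent.Lib.Helper86.Un
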