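import Mathlib
import Cfsg.Agent.Lib.Helper86.UnDef
import Cfsg.Agent.Lib.Helper86.SL3Split

set_option autoImplicit false
set_option linter.style.haveILetI false
set_option linter.unusedSectionVars false
set_option linter.dupNamespace false
set_option linter.unusedVariables false
set_option linter.unusedSimpArgs false

/-! # The special unitary group of degree three in the antidiagonal model: the cyclic torus,
the Weyl involution and some conjugating elements -/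

namespace Cfsg.Agent.Lib.Helper86.SU3

open Matrix Cfsg.Agent.Lib.Helper86.Un Cfsg.Agent.Lib.Helper86.SL3

variable {F : Type*} [Field F] {σ : F →+* F}

theorem adj3 (σ : F →+* F) (a b c d e f g h i : F) :
    adj σ (!![a, b, c; d, e, f; g, h, i] : Matrix (Fin 3) (Fin 3) F)
      = !![σ i, σ f, σ c; σ h, σ e, σ b; σ g, σ d, σ a] := by
  ext x y
  fin_cases x <;> fin_cases y <;> rfl

/-! ### matrices -/

/-- the torus -/
def T3 (σ : F →+* F) (t : F) : Matrix (Fin 3) (Fin 3) F := D3 t (σ t * t⁻¹) (σ t)⁻¹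

/-- the Weyl involution -/
def f3 (F : Type*) [Field F] : Matrix (Fin 3) (Fin 3) F := !![0, 0, 1; 0, -1, 0; 1, 0, 0]

/-- conjugates the Weyl involution into the torus -/
def gF3 (c : F) : Matrix (Fin 3) (Fin 3) F :=
  !![c / 2, -2 / c ^ 2, -c / 2; c / 2, 0, c / 2; -c / 2 / 2, -1 / c ^ 2, c / 2 / 2]

/-- conjugates the element of order four of the torus to an element outside the torus -/
def G43 (l i : F) : Matrix (Fin 3) (Fin 3) F :=
  !![l ^ 2, 0, i / (2 * l); 0, 1, 0; i * l, 0, 1 / (2 * l ^ 2)]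

theorem det_T3 {t : F} (ht : t ≠ 0) : (T3 σ t).det = 1 := by
  have hst : σ t ≠ 0 := (map_ne_zero σ).2 ht
  unfold T3; rw [det_D3]; field_simp

theorem T3_adj (hσ : ∀ x, σ (σ x) = x) {t : F} (ht : t ≠ 0) : adj σ (T3 σ t) * T3 σ t = 1 := by
  have hst : σ t ≠ 0 := (map_ne_zero σ).2 ht
  unfold T3 D3
  rw [adj3, Matrix.mul_fin_three, Matrix.one_fin_three]
  apply m3_ext <;>
    simp only [map_zero, map_inv₀, map_mul, hσ, mul_zero, zero_mul, add_zero, zero_add] <;>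
    field_simp

theorem T3_mul (t t' : F) : T3 σ (t * t') = T3 σ t * T3 σ t' := by
  unfold T3
  rw [D3_mul]
  apply D3_congr rfl
  · rw [map_mul, mul_inv]; ring
  · rw [map_mul, mul_inv]

theorem T3_one : T3 σ (1 : F) = 1 := by
  unfold T3
  rw [map_one, inv_one, mul_one, D3_one]

theorem det_f3 : (f3 F).det = 1 := by unfold f3; rw [det3]; ring

theorem f3_mul : f3 F * f3 F = 1 := by
  unfold f3; rw [Matrix.mul_fin_three, Matrix.one_fin_three]; apply m3_ext <;> ring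

theorem f3_adj (σ : F →+* F) : adj σ (f3 F) * f3 F = 1 := by
  unfold f3
  rw [adj3, Matrix.mul_fin_three, Matrix.one_fin_three]
  apply m3_ext <;> simp only [map_zero, map_one, map_neg] <;> ring1

theorem f3_D3 (x y z : F) : f3 F * D3 x y z = D3 z y x * f3 F := by
  unfold f3 D3; rw [Matrix.mul_fin_three, Matrix.mul_fin_three]; apply m3_ext <;> ring

theorem f3_T3 (hσ : ∀ x, σ (σ x) = x) (t : F) : f3 F * T3 σ t = T3 σ (σ t)⁻¹ * f3 F := by
  unfold T3
  rw [f3_D3]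
  congr 1
  apply D3_congr rfl
  · rw [map_inv₀, hσ, inv_inv, mul_comm]
  · rw [map_inv₀, hσ, inv_inv]

theorem T3_neg_one : T3 σ (-1 : F) = D3 (-1) 1 (-1) := by
  unfold T3
  apply D3_congr rfl
  · rw [map_neg, map_one, inv_neg_one]; ring
  · rw [map_neg, map_one, inv_neg_one]

theorem det_gF3 {c : F} (hc : c ≠ 0) (h2 : (2 : F) ≠ 0) : (gF3 c).det = 1 := by
  unfold gF3; rw [det3]; field_simp; ring

theorem gF3_adj {c : F} (hc : c ≠ 0) (h2 : (2 : F) ≠ 0) (hσc : σ c = 2 / c) :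
    adj σ (gF3 c) * gF3 c = 1 := by
  unfold gF3
  rw [adj3, Matrix.mul_fin_three, Matrix.one_fin_three]
  apply m3_ext <;>
    simp only [map_zero, map_one, map_neg, map_div₀, map_pow, map_ofNat, hσc] <;>
    first | ring1 | (field_simp; ring1)

theorem gF3_mul {c : F} (hc : c ≠ 0) (h2 : (2 : F) ≠ 0) :
    gF3 c * f3 F = D3 (-1) 1 (-1) * gF3 c := by
  unfold gF3 f3 D3
  rw [Matrix.mul_fin_three, Matrix.mul_fin_three]
  apply m3_ext <;> first | ring1 | (field_simp; ring1)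

theorem det_G43 {l i : F} (hl : l ≠ 0) (h2 : (2 : F) ≠ 0) (hi : i * i = -1) :
    (G43 l i).det = 1 := by
  unfold G43; rw [det3]; field_simp; linear_combination (-l ^ 2) * hi

theorem G43_adj {l i : F} (hl : l ≠ 0) (h2 : (2 : F) ≠ 0) (hi : i * i = -1)
    (hσl : σ l = -l) (hσi : σ i = i) : adj σ (G43 l i) * G43 l i = 1 := by
  unfold G43
  rw [adj3, Matrix.mul_fin_three, Matrix.one_fin_three]
  apply m3_ext <;>
    simp only [map_zero, map_one, map_neg, map_div₀, map_mul, map_pow, map_ofNat, hσl, hσi] <;>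
    first | ring1 | (field_simp; ring1) | (field_simp; linear_combination (-1 : F) * hi)

theorem G43_mul {l i : F} (hl : l ≠ 0) (h2 : (2 : F) ≠ 0) (hi : i * i = -1) :
    G43 l i * D3 i 1 (-i) = (D3 l (-1) (-l⁻¹) * f3 F) * G43 l i := by
  unfold G43 D3 f3
  rw [Matrix.mul_fin_three, Matrix.mul_fin_three, Matrix.mul_fin_three]
  apply m3_ext <;>
    first | ring1 | (field_simp; ring1) | (field_simp; linear_combination (-l) * hi) | (field_simp; linear_combination (2 * l ^ 3) * hi)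

/-! ### the elements of the unitary group -/

/-- `t ↦ (σ t)⁻¹` on units -/
def cjU (σ : F →+* F) : Fˣ →* Fˣ where
  toFun t := (Units.map (σ : F →* F) t)⁻¹
  map_one' := by rw [map_one, inv_one]
  map_mul' t t' := by rw [map_mul, mul_inv]

theorem cjU_val (t : Fˣ) : ((cjU σ t : Fˣ) : F) = (σ (t : F))⁻¹ := by
  show (((Units.map (σ : F →* F) t)⁻¹ : Fˣ) : F) = (σ (t : F))⁻¹
  rw [Units.val_inv_eq_inv_val]
  rfl

/-- the torus -/
def torU (hσ : ∀ x, σ (σ x) = x) : Fˣ →* UJ 3 σ where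
  toFun t := ⟨⟨T3 σ (t : F), det_T3 t.ne_zero⟩, T3_adj hσ t.ne_zero⟩
  map_one' := by
    apply Subtype.ext; apply Subtype.ext
    show T3 σ ((1 : Fˣ) : F) = 1
    rw [Units.val_one, T3_one]
  map_mul' t t' := by
    apply Subtype.ext; apply Subtype.ext
    show T3 σ ((t * t' : Fˣ) : F) = T3 σ (t : F) * T3 σ (t' : F)
    rw [Units.val_mul, T3_mul]

theorem torU_val (hσ : ∀ x, σ (σ x) = x) (t : Fˣ) : (torU hσ t).1.1 = T3 σ (t : F) := rfl

theorem torU_injective (hσ : ∀ x, σ (σ x) = x) : Function.Injective (torU hσ) := by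
  intro t t' h
  have h0 : (torU hσ t).1.1 0 0 = (torU hσ t').1.1 0 0 := by rw [h]
  exact Units.ext h0

/-- the Weyl involution -/
def fU (σ : F →+* F) : UJ 3 σ := ⟨⟨f3 F, det_f3⟩, f3_adj σ⟩

theorem fU_mul : fU σ * fU σ = 1 := by
  apply Subtype.ext; apply Subtype.ext
  exact f3_mul

theorem fU_tor' (hσ : ∀ x, σ (σ x) = x) (t : Fˣ) :
    fU σ * torU hσ t = torU hσ (cjU σ t) * fU σ := by
  apply Subtype.ext; apply Subtype.ext
  show f3 F * T3 σ (t : F) = T3 σ ((cjU σ t : Fˣ) : F) * f3 F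
  rw [cjU_val, f3_T3 hσ]

theorem fU_tor (hσ : ∀ x, σ (σ x) = x) (t : Fˣ) :
    fU σ * torU hσ t * fU σ = torU hσ (cjU σ t) := by
  rw [fU_tor', mul_assoc, fU_mul, mul_one]

theorem fU_tor_inv (hσ : ∀ x, σ (σ x) = x) (t : Fˣ) :
    fU σ * (torU hσ t)⁻¹ = (torU hσ (cjU σ t))⁻¹ * fU σ := by
  rw [eq_inv_mul_iff_mul_eq, ← mul_assoc, ← fU_tor', mul_assoc, mul_inv_cancel, mul_one]

theorem tor_f_sq (hσ : ∀ x, σ (σ x) = x) (t : Fˣ) :
    (torU hσ t * fU σ) * (torU hσ t * fU σ) = torU hσ (t * cjU σ t) := by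
  calc (torU hσ t * fU σ) * (torU hσ t * fU σ)
      = torU hσ t * (fU σ * torU hσ t) * fU σ := by group
    _ = torU hσ (t * cjU σ t) := by
        rw [fU_tor', ← mul_assoc, mul_assoc, fU_mul, mul_one, ← map_mul]

theorem fU_ne_tor (hσ : ∀ x, σ (σ x) = x) (t : Fˣ) : torU hσ t ≠ fU σ := by
  intro h
  have h0 : (torU hσ t).1.1 0 0 = (fU σ).1.1 0 0 := by rw [h]
  exact t.ne_zero h0

theorem torU_neg_one_val (hσ : ∀ x, σ (σ x) = x) :
    (torU hσ (-1 : Fˣ)).1.1 = D3 (-1 : F) 1 (-1) := by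
  rw [torU_val, Units.val_neg, Units.val_one, T3_neg_one]

/-- conjugates the Weyl involution into the torus -/
def gFU {c : F} (hc : c ≠ 0) (h2 : (2 : F) ≠ 0) (hσc : σ c = 2 / c) : UJ 3 σ :=
  ⟨⟨gF3 c, det_gF3 hc h2⟩, gF3_adj hc h2 hσc⟩

theorem gFU_conj (hσ : ∀ x, σ (σ x) = x) {c : F} (hc : c ≠ 0) (h2 : (2 : F) ≠ 0)
    (hσc : σ c = 2 / c) :
    gFU hc h2 hσc * fU σ * (gFU hc h2 hσc)⁻¹ = torU hσ (-1) := by
  rw [mul_inv_eq_iff_eq_mul]
  apply Subtype.ext; apply Subtype.ext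
  show gF3 c * f3 F = (torU hσ (-1 : Fˣ)).1.1 * gF3 c
  rw [torU_neg_one_val, gF3_mul hc h2]

/-- conjugates the element of order four of the torus to an element outside the torus -/
def g4U {l i : F} (hl : l ≠ 0) (h2 : (2 : F) ≠ 0) (hi : i * i = -1)
    (hσl : σ l = -l) (hσi : σ i = i) : UJ 3 σ :=
  ⟨⟨G43 l i, det_G43 hl h2 hi⟩, G43_adj hl h2 hi hσl hσi⟩

theorem g4U_conj (hσ : ∀ x, σ (σ x) = x) (l i : Fˣ) (h2 : (2 : F) ≠ 0)
    (hi : (i : F) * (i : F) = -1) (hσl : σ (l : F) = -(l : F)) (hσi : σ (i : F) = (i : F)) :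
    g4U l.ne_zero h2 hi hσl hσi * torU hσ i * (g4U l.ne_zero h2 hi hσl hσi)⁻¹
      = torU hσ l * fU σ := by
  rw [mul_inv_eq_iff_eq_mul]
  apply Subtype.ext; apply Subtype.ext
  show G43 (l : F) (i : F) * T3 σ (i : F) = (T3 σ (l : F) * f3 F) * G43 (l : F) (i : F)
  have e1 : T3 σ (i : F) = D3 (i : F) 1 (-(i : F)) := by
    unfold T3
    apply D3_congr rfl
    · rw [hσi, mul_inv_cancel₀ i.ne_zero]
    · rw [hσi]
      apply inv_eq_of_mul_eq_one_right
      linear_combination (-1 : F) * hi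
  have e2 : T3 σ (l : F) = D3 (l : F) (-1) (-(l : F)⁻¹) := by
    unfold T3
    apply D3_congr rfl
    · rw [hσl, neg_mul, mul_inv_cancel₀ l.ne_zero]
    · rw [hσl, inv_neg]
  rw [e1, e2, G43_mul l.ne_zero h2 hi]

end Cfsg.Agent.Lib.Helper86.SU3
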