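import Mathlib
import Cfsg.Agent.Lib.Helper18.Tri
import Cfsg.Agent.Lib.Helper13.SpBorel
import Cfsg.Agent.Lib.Helper86.SLUni

set_option autoImplicit false
set_option linter.style.haveILetI false
set_option linter.unusedSectionVars false
set_option linter.dupNamespace false
set_option linter.unusedVariables false

/-! # Block triangular subgroups of the symplectic group

For a block function `β` on the index set, `triSp β` (block upper triangular symplectic
matrices) normalizes `uniSp β` (block upper unitriangular ones). For the rank function `rk`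
this gives the Borel subgroup and its unipotent radical, a Sylow `p`-subgroup in
characteristic `p`. -/

namespace Cfsg.Agent.Lib.Helper86.Spn

open Matrix Cfsg.Agent.Lib.Helper86.SLn

/-- the index set of `Sp_{2m}` -/
abbrev Idx (m : ℕ) := Fin m ⊕ Fin m

/-- `Sp_{2m}(K)` -/
abbrev Spn (m : ℕ) (K : Type*) [Field K] := ↥(Matrix.symplecticGroup (Fin m) K)

variable {m : ℕ} {K : Type*} [Field K]

theorem sp_coe_mul (a b : Spn m K) : (a * b).1 = a.1 * b.1 := rfl

theorem sp_coe_one : (1 : Spn m K).1 = 1 := rfl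

theorem sp_coe_inv (a : Spn m K) : (a⁻¹).1 = (a.1)⁻¹ := SymplecticGroup.coe_inv' a

theorem sp_coe_pow (a : Spn m K) (k : ℕ) : (a ^ k).1 = a.1 ^ k := by
  induction k with
  | zero => rw [pow_zero, pow_zero]; rfl
  | succ k ih => rw [pow_succ, pow_succ, sp_coe_mul, ih]

/-! ### block lemmas -/

section Block

variable {ι : Type*} [Fintype ι] [DecidableEq ι]

theorem blk_mul_congr {β : ι → ℕ} {A A' B B' : Matrix ι ι K} (hA : A.BlockTriangular β)
    (hA' : A'.BlockTriangular β) (hB : B.BlockTriangular β) (hB' : B'.BlockTriangular β)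
    {x y : ι} (hxy : β x = β y) (h1 : ∀ z, β z = β x → A x z = A' x z)
    (h2 : ∀ z, β z = β y → B z y = B' z y) : (A * B) x y = (A' * B') x y := by
  rw [Matrix.mul_apply, Matrix.mul_apply]
  apply Finset.sum_congr rfl
  intro z _
  rcases lt_trichotomy (β z) (β x) with h | h | h
  · rw [hA h, hA' h, zero_mul, zero_mul]
  · rw [h1 z h, h2 z (h.trans hxy)]
  · have h' : β y < β z := hxy ▸ h
    rw [hB h', hB' h', mul_zero, mul_zero]

/-- `M x y = 0` unless `ρ y ≥ ρ x + k` -/
def BandedR (ρ : ι → ℕ) (k : ℕ) (M : Matrix ι ι K) : Prop :=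
  ∀ x y : ι, ρ y < ρ x + k → M x y = 0

theorem BandedR.mul {ρ : ι → ℕ} {a b : ℕ} {M N : Matrix ι ι K} (hM : BandedR ρ a M)
    (hN : BandedR ρ b N) : BandedR ρ (a + b) (M * N) := by
  intro i j hij
  rw [Matrix.mul_apply]
  apply Finset.sum_eq_zero
  intro l _
  by_cases hl : ρ l < ρ i + a
  · rw [hM i l hl, zero_mul]
  · rw [hN l j (by omega), mul_zero]

theorem bandedR_one {ρ : ι → ℕ} : BandedR ρ 0 (1 : Matrix ι ι K) := by
  intro i j hij
  exact Matrix.one_apply_ne (by intro h; subst h; omega)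

theorem BandedR.pow {ρ : ι → ℕ} {M : Matrix ι ι K} (hM : BandedR ρ 1 M) :
    ∀ k : ℕ, BandedR ρ k (M ^ k)
  | 0 => by rw [pow_zero]; exact bandedR_one
  | k + 1 => by rw [pow_succ]; exact (BandedR.pow hM k).mul hM

/-- unitriangular matrices are unipotent -/
theorem uni_pow_char {ρ : ι → ℕ} (hρ : Function.Injective ρ) (N : ℕ) (hN : ∀ x, ρ x < N)
    (p : ℕ) [Fact p.Prime] [CharP K p] {M : Matrix ι ι K} (hM : M.BlockTriangular ρ)
    (hd : ∀ x, M x x = 1) : M ^ (p ^ N) = 1 := by
  rcases isEmpty_or_nonempty ι with hι | hι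
  · exact Subsingleton.elim _ _
  have hb : BandedR ρ 1 (M - 1) := by
    intro i j hij
    rw [Matrix.sub_apply]
    by_cases h : i = j
    · subst h
      rw [hd, Matrix.one_apply_eq, sub_self]
    · have hlt : ρ j < ρ i := by
        have : ρ j ≠ ρ i := fun h' => h (hρ h'.symm)
        omega
      rw [hM hlt, Matrix.one_apply_ne h, sub_zero]
  have h0 : (M - 1) ^ N = 0 := by
    ext i j
    exact BandedR.pow hb N i j (by have := hN j; omega)
  have h1 : M = 1 + (M - 1) := by abel
  have h2 : (M - 1) ^ (p ^ N) = 0 := by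
    have hle : N ≤ p ^ N := (Nat.lt_pow_self (Fact.out : p.Prime).one_lt).le
    obtain ⟨d, hd⟩ := Nat.exists_eq_add_of_le hle
    rw [hd, pow_add, h0, zero_mul]
  rw [h1, add_pow_char_pow_of_commute p N (Commute.one_left _), one_pow, h2, add_zero]

end Block

/-! ### the subgroups -/

/-- block upper triangular symplectic matrices -/
def triSp (m : ℕ) (K : Type*) [Field K] (β : Idx m → ℕ) : Subgroup (Spn m K) where
  carrier := {g | g.1.BlockTriangular β}
  mul_mem' := fun {a b} ha hb => by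
    show (a * b).1.BlockTriangular β
    rw [sp_coe_mul]
    exact ha.mul hb
  one_mem' := by
    show (1 : Spn m K).1.BlockTriangular β
    rw [sp_coe_one]
    exact Matrix.blockTriangular_one
  inv_mem' := fun {a} ha => by
    show (a⁻¹).1.BlockTriangular β
    rw [sp_coe_inv]
    haveI : Invertible a.1 :=
      Matrix.invertibleOfIsUnitDet _ (SymplecticGroup.symplectic_det a.2)
    exact Matrix.blockTriangular_inv_of_blockTriangular ha

theorem mem_triSp {β : Idx m → ℕ} {g : Spn m K} :
    g ∈ triSp m K β ↔ g.1.BlockTriangular β := Iff.rfl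

/-- block upper unitriangular symplectic matrices -/
def uniSp (m : ℕ) (K : Type*) [Field K] (β : Idx m → ℕ) : Subgroup (Spn m K) where
  carrier := {g | g.1.BlockTriangular β ∧
    ∀ x y, β x = β y → g.1 x y = (1 : Matrix (Idx m) (Idx m) K) x y}
  mul_mem' := fun {a b} ha hb => by
    refine ⟨?_, fun x y hxy => ?_⟩
    · show (a * b).1.BlockTriangular β
      rw [sp_coe_mul]
      exact ha.1.mul hb.1
    · rw [sp_coe_mul, blk_mul_congr ha.1 Matrix.blockTriangular_one hb.1
        Matrix.blockTriangular_one hxy (fun z hz => ha.2 x z hz.symm) (fun z hz => hb.2 z y hz),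
        one_mul]
  one_mem' := ⟨by rw [sp_coe_one]; exact Matrix.blockTriangular_one, fun _ _ _ => rfl⟩
  inv_mem' := fun {a} ha => by
    have hinv : (a⁻¹).1.BlockTriangular β := (triSp m K β).inv_mem ha.1
    refine ⟨hinv, fun x y hxy => ?_⟩
    have h1 : ((a⁻¹).1 * a.1) x y = ((a⁻¹).1 * (1 : Matrix (Idx m) (Idx m) K)) x y :=
      blk_mul_congr hinv hinv ha.1 Matrix.blockTriangular_one hxy (fun _ _ => rfl)
        (fun z hz => ha.2 z y hz)
    rw [← sp_coe_mul, inv_mul_cancel, sp_coe_one, mul_one] at h1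
    exact h1.symm

theorem mem_uniSp {β : Idx m → ℕ} {g : Spn m K} :
    g ∈ uniSp m K β ↔ g.1.BlockTriangular β ∧
      ∀ x y, β x = β y → g.1 x y = (1 : Matrix (Idx m) (Idx m) K) x y := Iff.rfl

theorem uniSp_le_triSp (β : Idx m → ℕ) : uniSp m K β ≤ triSp m K β := fun _ h => h.1

theorem conj_mem_uniSp {β : Idx m → ℕ} {h g : Spn m K} (hh : h ∈ triSp m K β)
    (hg : g ∈ uniSp m K β) : h * g * h⁻¹ ∈ uniSp m K β := by
  have hinv : (h⁻¹).1.BlockTriangular β := (triSp m K β).inv_mem hh
  have hhg : (h * g).1.BlockTriangular β := (triSp m K β).mul_mem hh hg.1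
  refine ⟨(triSp m K β).mul_mem ((triSp m K β).mul_mem hh hg.1) ((triSp m K β).inv_mem hh),
    fun x y hxy => ?_⟩
  have h1 : ∀ z, β z = β x → (h * g).1 x z = h.1 x z := by
    intro z hz
    have := blk_mul_congr (x := x) (y := z) hh hh hg.1 Matrix.blockTriangular_one hz.symm
      (fun _ _ => rfl) (fun w hw => hg.2 w z hw)
    rw [mul_one] at this
    exact this
  have h2 := blk_mul_congr hhg hh hinv hinv hxy h1 (fun _ _ => rfl)
  rw [sp_coe_mul (h * g) h⁻¹, h2, ← sp_coe_mul, mul_inv_cancel, sp_coe_one]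

theorem triSp_le_normalizer (β : Idx m → ℕ) :
    triSp m K β ≤ Subgroup.normalizer ((uniSp m K β : Subgroup (Spn m K)) : Set (Spn m K)) := by
  intro h hh
  rw [Subgroup.mem_normalizer_iff]
  intro a
  constructor
  · exact conj_mem_uniSp hh
  · intro ha
    have := conj_mem_uniSp ((triSp m K β).inv_mem hh) ha
    have e : h⁻¹ * (h * a * h⁻¹) * h⁻¹⁻¹ = a := by group
    rwa [e] at this

theorem triSp_le_of_mono {ρ β : Idx m → ℕ} (hρ : Function.Injective ρ)
    (hmono : ∀ x y, ρ y < ρ x → β y ≤ β x) : triSp m K ρ ≤ triSp m K β := by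
  intro g hg
  show g.1.BlockTriangular β
  intro x y hxy
  apply hg
  by_contra hn
  rcases lt_or_eq_of_le (not_lt.1 hn) with h | h
  · have := hmono y x h
    omega
  · have := hρ h
    subst this
    omega

theorem uniSp_le_of_mono {ρ β : Idx m → ℕ} (hρ : Function.Injective ρ)
    (hmono : ∀ x y, ρ y < ρ x → β y ≤ β x) : uniSp m K β ≤ uniSp m K ρ := by
  intro g hg
  refine ⟨?_, fun x y hxy => ?_⟩
  · intro x y hxy
    rcases lt_or_eq_of_le (hmono x y hxy) with h | h
    · exact hg.1 h
    · rw [hg.2 x y h.symm, Matrix.one_apply_ne]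
      rintro rfl
      omega
  · have := hρ hxy
    subst this
    exact hg.2 x x rfl

/-! ### the rank function and the two coarser block functions -/

/-- the rank: `e_0 < ... < e_{m-1} < f_{m-1} < ... < f_0` -/
def rk (m : ℕ) : Idx m → ℕ := Sum.elim (fun i => i.val) (fun i => 2 * m - 1 - i.val)

theorem rk_inl (i : Fin m) : rk m (Sum.inl i) = i.val := rfl

theorem rk_inr (i : Fin m) : rk m (Sum.inr i) = 2 * m - 1 - i.val := rfl

theorem rk_injective : Function.Injective (rk m) := by
  rintro (i | i) (j | j) h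
  · rw [rk_inl, rk_inl] at h
    rw [Fin.ext h]
  · rw [rk_inl, rk_inr] at h
    have := i.2; have := j.2; omega
  · rw [rk_inl, rk_inr] at h
    have := i.2; have := j.2; omega
  · rw [rk_inr, rk_inr] at h
    have := i.2; have := j.2
    have : i.val = j.val := by omega
    rw [Fin.ext this]

theorem rk_lt (x : Idx m) : rk m x < 2 * m := by
  rcases x with i | i
  · rw [rk_inl]; have := i.2; omega
  · rw [rk_inr]; have := i.2; omega

/-- the Siegel block function -/
def bS (m : ℕ) : Idx m → ℕ := Sum.elim (fun _ => 0) (fun _ => 1)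

/-- the Heisenberg block function -/
def bH (m : ℕ) : Idx m → ℕ :=
  Sum.elim (fun i => if i.val = 0 then 0 else 1) (fun i => if i.val = 0 then 2 else 1)

theorem bS_mono : ∀ x y : Idx m, rk m y < rk m x → bS m y ≤ bS m x := by
  rintro (i | i) (j | j) h
  · exact le_rfl
  · rw [rk_inl, rk_inr] at h
    have := i.2; have := j.2; omega
  · exact Nat.zero_le _
  · exact le_rfl

theorem bH_mono : ∀ x y : Idx m, rk m y < rk m x → bH m y ≤ bH m x := by
  rintro (i | i) (j | j) h
  · rw [rk_inl, rk_inl] at h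
    show (if j.val = 0 then 0 else 1) ≤ (if i.val = 0 then 0 else 1)
    split_ifs <;> omega
  · rw [rk_inl, rk_inr] at h
    have := i.2; have := j.2; omega
  · show (if j.val = 0 then 0 else 1) ≤ (if i.val = 0 then 2 else 1)
    split_ifs <;> omega
  · rw [rk_inr, rk_inr] at h
    show (if j.val = 0 then 2 else 1) ≤ (if i.val = 0 then 2 else 1)
    have := i.2; have := j.2
    split_ifs <;> omega

theorem mem_uniSp_rk {g : Spn m K} :
    g ∈ uniSp m K (rk m) ↔ g.1.BlockTriangular (rk m) ∧ ∀ x, g.1 x x = 1 := by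
  constructor
  · intro h
    exact ⟨h.1, fun x => by rw [h.2 x x rfl, Matrix.one_apply_eq]⟩
  · intro h
    refine ⟨h.1, fun x y hxy => ?_⟩
    have := rk_injective hxy
    subst this
    rw [h.2, Matrix.one_apply_eq]

theorem uniSp_le_rk {β : Idx m → ℕ} (hmono : ∀ x y, rk m y < rk m x → β y ≤ β x) :
    uniSp m K β ≤ uniSp m K (rk m) := uniSp_le_of_mono rk_injective hmono

theorem triSp_rk_le {β : Idx m → ℕ} (hmono : ∀ x y, rk m y < rk m x → β y ≤ β x) :
    triSp m K (rk m) ≤ triSp m K β := triSp_le_of_mono rk_injective hmono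

/-! ### diagonal entries of triangular elements -/

theorem tri_mul_diag {a b : Spn m K} (ha : a ∈ triSp m K (rk m)) (hb : b ∈ triSp m K (rk m))
    (x : Idx m) : (a * b).1 x x = a.1 x x * b.1 x x := by
  rw [sp_coe_mul]
  exact Cfsg.Agent.Lib.Helper18.blockTriangular_mul_diag rk_injective ha hb x

theorem tri_inv_diag {a : Spn m K} (ha : a ∈ triSp m K (rk m)) (x : Idx m) :
    a.1 x x * (a⁻¹).1 x x = 1 := by
  have h := tri_mul_diag ha ((triSp m K (rk m)).inv_mem ha) x
  rw [mul_inv_cancel, sp_coe_one, Matrix.one_apply_eq] at h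
  exact h.symm

theorem tri_diag_ne_zero {a : Spn m K} (ha : a ∈ triSp m K (rk m)) (x : Idx m) :
    a.1 x x ≠ 0 := by
  intro h
  have := tri_inv_diag ha x
  rw [h, zero_mul] at this
  exact zero_ne_one this

theorem tri_pow_diag {a : Spn m K} (ha : a ∈ triSp m K (rk m)) (x : Idx m) (k : ℕ) :
    (a ^ k).1 x x = a.1 x x ^ k := by
  induction k with
  | zero => rw [pow_zero, pow_zero, sp_coe_one, Matrix.one_apply_eq]
  | succ k ih => rw [pow_succ, pow_succ, tri_mul_diag (pow_mem ha k) ha, ih]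

theorem uni_pow_eq_one (p : ℕ) [Fact p.Prime] [CharP K p] {u : Spn m K}
    (hu : u ∈ uniSp m K (rk m)) : u ^ (p ^ (2 * m)) = 1 := by
  apply Subtype.ext
  rw [sp_coe_pow, sp_coe_one]
  exact uni_pow_char rk_injective (2 * m) rk_lt p (mem_uniSp_rk.1 hu).1 (mem_uniSp_rk.1 hu).2

theorem uniSp_isPGroup (p : ℕ) [Fact p.Prime] [CharP K p] : IsPGroup p (uniSp m K (rk m)) := by
  intro u
  exact ⟨2 * m, Subtype.ext (by rw [Subgroup.coe_pow]; exact uni_pow_eq_one p u.2)⟩

theorem tri_pow_mem_uni [Fintype K] {b : Spn m K} (hb : b ∈ triSp m K (rk m)) :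
    b ^ (Fintype.card K - 1) ∈ uniSp m K (rk m) := by
  rw [mem_uniSp_rk]
  refine ⟨pow_mem hb _, fun x => ?_⟩
  rw [tri_pow_diag hb]
  exact FiniteField.pow_card_sub_one_eq_one _ (tri_diag_ne_zero hb x)

end Cfsg.Agent.Lib.Helper86.Spn
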