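import Mathlib
import Cfsg.Agent.Lib.Helper18.Tri
import Cfsg.Agent.Lib.Helper86.SpTri

set_option autoImplicit false
set_option linter.style.haveILetI false
set_option linter.unusedSectionVars false
set_option linter.dupNamespace false
set_option linter.unusedVariables false

/-! # Block triangular subgroups of a matrix group

For a group `G` with a matrix representation `μ : G →* Matrix ι ι K` and a block function `β`
on the index set, `triG μ β` (block upper triangular elements) normalizes `uniG μ β` (block upper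
unitriangular ones).  For an injective rank function `ρ`, and provided the unitriangular group
contains enough root elements, `triG μ ρ` is the normalizer of `uniG μ ρ`, and `uniG μ ρ` is a
Sylow `p`-subgroup in characteristic `p`. -/

namespace Cfsg.Agent.Lib.Helper86.TriGen

open Matrix Cfsg.Agent.Lib.Helper86.Spn

variable {ι : Type*} [Fintype ι] [DecidableEq ι] {K : Type*} [Field K]
  {G : Type*} [Group G] (μ : G →* Matrix ι ι K)

theorem mu_inv_mul (g : G) : μ g⁻¹ * μ g = 1 := by
  rw [← map_mul, inv_mul_cancel, map_one]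

theorem mu_mul_inv (g : G) : μ g * μ g⁻¹ = 1 := by
  rw [← map_mul, mul_inv_cancel, map_one]

theorem mu_pow (g : G) (k : ℕ) : μ (g ^ k) = μ g ^ k := map_pow μ g k

/-- block upper triangular elements -/
def triG (β : ι → ℕ) : Subgroup G where
  carrier := {g | (μ g).BlockTriangular β}
  mul_mem' := fun {a b} ha hb => by
    show (μ (a * b)).BlockTriangular β
    rw [map_mul]
    exact ha.mul hb
  one_mem' := by
    show (μ 1).BlockTriangular β
    rw [map_one]
    exact Matrix.blockTriangular_one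
  inv_mem' := fun {a} ha => by
    show (μ a⁻¹).BlockTriangular β
    haveI : Invertible (μ a) := invertibleOfRightInverse _ _ (mu_mul_inv μ a)
    have h := Matrix.blockTriangular_inv_of_blockTriangular (M := μ a) ha
    rwa [Matrix.inv_eq_right_inv (mu_mul_inv μ a)] at h

theorem mem_triG {β : ι → ℕ} {g : G} : g ∈ triG μ β ↔ (μ g).BlockTriangular β := Iff.rfl

/-- block upper unitriangular elements -/
def uniG (β : ι → ℕ) : Subgroup G where
  carrier := {g | (μ g).BlockTriangular β ∧
    ∀ x y, β x = β y → μ g x y = (1 : Matrix ι ι K) x y}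
  mul_mem' := fun {a b} ha hb => by
    refine ⟨?_, fun x y hxy => ?_⟩
    · show (μ (a * b)).BlockTriangular β
      rw [map_mul]
      exact ha.1.mul hb.1
    · rw [map_mul, blk_mul_congr ha.1 Matrix.blockTriangular_one hb.1
        Matrix.blockTriangular_one hxy (fun z hz => ha.2 x z hz.symm) (fun z hz => hb.2 z y hz),
        one_mul]
  one_mem' := ⟨by rw [map_one]; exact Matrix.blockTriangular_one, fun _ _ _ => by rw [map_one]⟩
  inv_mem' := fun {a} ha => by
    have hinv : (μ a⁻¹).BlockTriangular β := (triG μ β).inv_mem ha.1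
    refine ⟨hinv, fun x y hxy => ?_⟩
    have h1 : (μ a⁻¹ * μ a) x y = (μ a⁻¹ * (1 : Matrix ι ι K)) x y :=
      blk_mul_congr hinv hinv ha.1 Matrix.blockTriangular_one hxy (fun _ _ => rfl)
        (fun z hz => ha.2 z y hz)
    rw [mu_inv_mul, mul_one] at h1
    exact h1.symm

theorem mem_uniG {β : ι → ℕ} {g : G} :
    g ∈ uniG μ β ↔ (μ g).BlockTriangular β ∧
      ∀ x y, β x = β y → μ g x y = (1 : Matrix ι ι K) x y := Iff.rfl

theorem uniG_le_triG (β : ι → ℕ) : uniG μ β ≤ triG μ β := fun _ h => h.1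

theorem conj_mem_uniG {β : ι → ℕ} {h g : G} (hh : h ∈ triG μ β)
    (hg : g ∈ uniG μ β) : h * g * h⁻¹ ∈ uniG μ β := by
  have hinv : (μ h⁻¹).BlockTriangular β := (triG μ β).inv_mem hh
  have hhg : (μ (h * g)).BlockTriangular β := (triG μ β).mul_mem hh hg.1
  refine ⟨(triG μ β).mul_mem ((triG μ β).mul_mem hh hg.1) ((triG μ β).inv_mem hh),
    fun x y hxy => ?_⟩
  have h1 : ∀ z, β z = β x → μ (h * g) x z = μ h x z := by
    intro z hz
    have := blk_mul_congr (x := x) (y := z) hh hh hg.1 Matrix.blockTriangular_one hz.symm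
      (fun _ _ => rfl) (fun w hw => hg.2 w z hw)
    rw [mul_one, ← map_mul] at this
    exact this
  have h2 := blk_mul_congr hhg hh hinv hinv hxy h1 (fun _ _ => rfl)
  rw [map_mul μ (h * g) h⁻¹, h2, mu_mul_inv]

theorem triG_le_normalizer (β : ι → ℕ) :
    triG μ β ≤ Subgroup.normalizer ((uniG μ β : Subgroup G) : Set G) := by
  intro h hh
  rw [Subgroup.mem_normalizer_iff]
  intro a
  constructor
  · exact conj_mem_uniG μ hh
  · intro ha
    have := conj_mem_uniG μ ((triG μ β).inv_mem hh) ha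
    have e : h⁻¹ * (h * a * h⁻¹) * h⁻¹⁻¹ = a := by group
    rwa [e] at this

theorem triG_le_of_mono {ρ β : ι → ℕ} (hρ : Function.Injective ρ)
    (hmono : ∀ x y, ρ y < ρ x → β y ≤ β x) : triG μ ρ ≤ triG μ β := by
  intro g hg
  show (μ g).BlockTriangular β
  intro x y hxy
  apply hg
  by_contra hn
  rcases lt_or_eq_of_le (not_lt.1 hn) with h | h
  · have := hmono y x h
    omega
  · have := hρ h
    subst this
    omega

theorem uniG_le_of_mono {ρ β : ι → ℕ} (hρ : Function.Injective ρ)
    (hmono : ∀ x y, ρ y < ρ x → β y ≤ β x) : uniG μ β ≤ uniG μ ρ := by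
  intro g hg
  refine ⟨?_, fun x y hxy => ?_⟩
  · intro x y hxy
    rcases lt_or_eq_of_le (hmono x y hxy) with h | h
    · exact hg.1 h
    · rw [hg.2 x y h.symm, Matrix.one_apply_ne]
      rintro rfl
      omega
  · have := hρ hxy
    subst this
    exact hg.2 x x rfl

section Rank

variable {ρ : ι → ℕ} (hρ : Function.Injective ρ)

include hρ

theorem mem_uniG_rank {g : G} :
    g ∈ uniG μ ρ ↔ (μ g).BlockTriangular ρ ∧ ∀ x, μ g x x = 1 := by
  constructor
  · intro h
    exact ⟨h.1, fun x => by rw [h.2 x x rfl, Matrix.one_apply_eq]⟩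
  · intro h
    refine ⟨h.1, fun x y hxy => ?_⟩
    have := hρ hxy
    subst this
    rw [h.2, Matrix.one_apply_eq]

theorem tri_mul_diag {a b : G} (ha : a ∈ triG μ ρ) (hb : b ∈ triG μ ρ)
    (x : ι) : μ (a * b) x x = μ a x x * μ b x x := by
  rw [map_mul]
  exact Cfsg.Agent.Lib.Helper18.blockTriangular_mul_diag hρ ha hb x

theorem tri_inv_diag {a : G} (ha : a ∈ triG μ ρ) (x : ι) :
    μ a x x * μ a⁻¹ x x = 1 := by
  have h := tri_mul_diag μ hρ ha ((triG μ ρ).inv_mem ha) x
  rw [mul_inv_cancel, map_one, Matrix.one_apply_eq] at h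
  exact h.symm

theorem tri_diag_ne_zero {a : G} (ha : a ∈ triG μ ρ) (x : ι) :
    μ a x x ≠ 0 := by
  intro h
  have := tri_inv_diag μ hρ ha x
  rw [h, zero_mul] at this
  exact zero_ne_one this

theorem tri_pow_diag {a : G} (ha : a ∈ triG μ ρ) (x : ι) (k : ℕ) :
    μ (a ^ k) x x = μ a x x ^ k := by
  induction k with
  | zero => rw [pow_zero, pow_zero, map_one, Matrix.one_apply_eq]
  | succ k ih => rw [pow_succ, pow_succ, tri_mul_diag μ hρ (pow_mem ha k) ha, ih]

theorem uni_pow_eq_one (hμ : Function.Injective μ) (N : ℕ) (hN : ∀ x, ρ x < N) (p : ℕ)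
    [Fact p.Prime] [CharP K p] {u : G} (hu : u ∈ uniG μ ρ) : u ^ (p ^ N) = 1 := by
  apply hμ
  rw [map_pow, map_one]
  exact uni_pow_char hρ N hN p ((mem_uniG_rank μ hρ).1 hu).1 ((mem_uniG_rank μ hρ).1 hu).2

theorem uniG_isPGroup (hμ : Function.Injective μ) (N : ℕ) (hN : ∀ x, ρ x < N) (p : ℕ)
    [Fact p.Prime] [CharP K p] : IsPGroup p (uniG μ ρ) := by
  intro u
  exact ⟨N, Subtype.ext (by rw [Subgroup.coe_pow]; exact uni_pow_eq_one μ hρ hμ N hN p u.2)⟩

theorem tri_pow_mem_uni [Fintype K] {b : G} (hb : b ∈ triG μ ρ) :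
    b ^ (Fintype.card K - 1) ∈ uniG μ ρ := by
  rw [mem_uniG_rank μ hρ]
  refine ⟨pow_mem hb _, fun x => ?_⟩
  rw [tri_pow_diag μ hρ hb]
  exact FiniteField.pow_card_sub_one_eq_one _ (tri_diag_ne_zero μ hρ hb x)

/-- the flag argument: an element normalizing the unitriangular group is triangular, provided
there are enough root elements -/
theorem mem_triG_of_conj (N : ℕ) (hN : ∀ x, ρ x < N)
    (hpred : ∀ x : ι, 0 < ρ x → ∃ (x' : ι) (u : G), u ∈ uniG μ ρ ∧ ρ x' + 1 = ρ x ∧
      ∃ c : K, c ≠ 0 ∧ ∀ w : ι → K, (∀ y, ρ x < ρ y → w y = 0) →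
        (μ u *ᵥ w) x' = w x' + c * w x)
    {g : G} (hg : ∀ u ∈ uniG μ ρ, g⁻¹ * u * g ∈ uniG μ ρ) : g ∈ triG μ ρ := by
  have key : ∀ k : ℕ, ∀ v : ι → K, (∀ x, k ≤ ρ x → v x = 0) →
      ∀ x, k ≤ ρ x → (μ g *ᵥ v) x = 0 := by
    intro k
    induction k with
    | zero =>
      intro v hv x _
      have : v = 0 := funext fun x => hv x (Nat.zero_le _)
      rw [this, Matrix.mulVec_zero]
      rfl
    | succ k ih =>
      intro v hv
      -- downward induction on the rank
      have down : ∀ j : ℕ, ∀ x, k + 1 ≤ ρ x → N ≤ ρ x + j → (μ g *ᵥ v) x = 0 := by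
        intro j
        induction j with
        | zero =>
          intro x _ hx
          have := hN x
          omega
        | succ j ihj =>
          intro x hx hxj
          obtain ⟨x', u, huU, hx', c, hc, hrow⟩ := hpred x (by omega)
          have hu' := hg u huU
          set u' : G := g⁻¹ * u * g with hu'def
          have hgu : g * u' = u * g := by rw [hu'def]; group
          have hu'' := (mem_uniG_rank μ hρ).1 hu'
          have hy : ∀ y, k ≤ ρ y → (μ u' *ᵥ v - v) y = 0 := by
            intro y hy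
            rw [Pi.sub_apply, Matrix.mulVec, dotProduct, Finset.sum_eq_single y]
            · rw [hu''.2, one_mul, sub_self]
            · intro z _ hzy
              rcases lt_or_gt_of_ne (fun h => hzy (hρ h)) with h | h
              · rw [hu''.1 h, zero_mul]
              · rw [hv z (by omega), mul_zero]
            · intro h; exact absurd (Finset.mem_univ y) h
          have h1 := ih (μ u' *ᵥ v - v) hy x' (by omega)
          have hw : ∀ y, ρ x < ρ y → (μ g *ᵥ v) y = 0 :=
            fun y hy => ihj y (by omega) (by omega)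
          rw [Matrix.mulVec_sub, Matrix.mulVec_mulVec, ← map_mul, hgu, map_mul,
            ← Matrix.mulVec_mulVec, Pi.sub_apply, hrow _ hw] at h1
          have h2 : c * (μ g *ᵥ v) x = 0 := by
            rw [add_sub_cancel_left] at h1
            exact h1
          exact (mul_eq_zero.1 h2).resolve_left hc
      intro x hx
      exact down N x hx (by omega)
  show (μ g).BlockTriangular ρ
  intro x y hxy
  have h := key (ρ y + 1) (Pi.single y 1) (by
    intro z hz
    rw [Pi.single_apply, if_neg]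
    intro h; subst h; omega) x (by omega)
  rw [Matrix.mulVec_single_one] at h
  exact h

theorem normalizer_uniG (N : ℕ) (hN : ∀ x, ρ x < N)
    (hpred : ∀ x : ι, 0 < ρ x → ∃ (x' : ι) (u : G), u ∈ uniG μ ρ ∧ ρ x' + 1 = ρ x ∧
      ∃ c : K, c ≠ 0 ∧ ∀ w : ι → K, (∀ y, ρ x < ρ y → w y = 0) →
        (μ u *ᵥ w) x' = w x' + c * w x) :
    Subgroup.normalizer ((uniG μ ρ : Subgroup G) : Set G) = triG μ ρ := by
  apply le_antisymm _ (triG_le_normalizer μ ρ)
  intro g hg
  apply mem_triG_of_conj μ hρ N hN hpred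
  intro u hu
  have hg' := Subgroup.inv_mem _ hg
  have := (Subgroup.mem_normalizer_iff.mp hg' u).mp hu
  rwa [inv_inv] at this

/-- the unitriangular group has index prime to `p` -/
theorem not_dvd_index_uniG [Fintype K] [Finite G] (hμ : Function.Injective μ) (N : ℕ)
    (hN : ∀ x, ρ x < N)
    (hpred : ∀ x : ι, 0 < ρ x → ∃ (x' : ι) (u : G), u ∈ uniG μ ρ ∧ ρ x' + 1 = ρ x ∧
      ∃ c : K, c ≠ 0 ∧ ∀ w : ι → K, (∀ y, ρ x < ρ y → w y = 0) →
        (μ u *ᵥ w) x' = w x' + c * w x)
    (p : ℕ) [Fact p.Prime] [CharP K p] : ¬ p ∣ (uniG μ ρ).index := by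
  classical
  obtain ⟨k, hk⟩ := IsPGroup.iff_card.mp (uniG_isPGroup μ hρ hμ N hN p)
  have hmod : Nat.card (Subgroup.normalizer ((uniG μ ρ : Subgroup G) : Set G) ⧸
      (uniG μ ρ).subgroupOf (Subgroup.normalizer ((uniG μ ρ : Subgroup G) : Set G)))
      ≡ Nat.card (G ⧸ uniG μ ρ) [MOD p] :=
    Sylow.card_quotient_normalizer_modEq_card_quotient (p := p) hk
  haveI : ((uniG μ ρ).subgroupOf (Subgroup.normalizer
      ((uniG μ ρ : Subgroup G) : Set G))).Normal :=
    Subgroup.normal_in_normalizer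
  intro hdvd
  have h1 : p ∣ Nat.card (Subgroup.normalizer ((uniG μ ρ : Subgroup G) : Set G) ⧸
      (uniG μ ρ).subgroupOf (Subgroup.normalizer ((uniG μ ρ : Subgroup G) : Set G))) := by
    have h2 : Nat.card (G ⧸ uniG μ ρ) % p = 0 := Nat.mod_eq_zero_of_dvd hdvd
    unfold Nat.ModEq at hmod
    rw [h2] at hmod
    exact Nat.dvd_of_mod_eq_zero hmod
  obtain ⟨x, hx⟩ := exists_prime_orderOf_dvd_card' p h1
  obtain ⟨b, rfl⟩ := QuotientGroup.mk_surjective x
  have hbU : (b : G) ∈ triG μ ρ := le_of_eq (normalizer_uniG μ hρ N hN hpred) b.2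
  have h3 : (QuotientGroup.mk b : Subgroup.normalizer ((uniG μ ρ : Subgroup G) : Set G) ⧸
      (uniG μ ρ).subgroupOf (Subgroup.normalizer ((uniG μ ρ : Subgroup G) : Set G)))
        ^ (Fintype.card K - 1) = 1 := by
    rw [← QuotientGroup.mk_pow, QuotientGroup.eq_one_iff, Subgroup.mem_subgroupOf]
    rw [Subgroup.coe_pow]
    exact tri_pow_mem_uni μ hρ hbU
  have h4 := orderOf_dvd_of_pow_eq_one h3
  rw [hx] at h4
  have h5 : p ∣ Fintype.card K := by
    rw [← CharP.cast_eq_zero_iff K p]
    exact Nat.cast_card_eq_zero K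
  have h6 : 0 < Fintype.card K := Fintype.card_pos
  have h7 : p ∣ 1 := by
    have : Fintype.card K = (Fintype.card K - 1) + 1 := by omega
    rw [this] at h5
    exact (Nat.dvd_add_right h4).1 h5
  exact (Fact.out : p.Prime).one_lt.ne' (Nat.dvd_one.1 h7)

end Rank

end Cfsg.Agent.Lib.Helper86.TriGen
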