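import Mathlib
import Cfsg.Agent.Lib.Helper86.UnDef
import Cfsg.Agent.Lib.Helper86.TriGen

set_option autoImplicit false
set_option linter.style.haveILetI false
set_option linter.unusedSectionVars false
set_option linter.dupNamespace false
set_option linter.unusedVariables false
set_option linter.unusedSimpArgs false

/-! # Root elements of the special unitary group of the antidiagonal hermitian form -/

namespace Cfsg.Agent.Lib.Helper86.Un

open Matrix Cfsg.Agent.Lib.Helper86.TriGen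

variable {F : Type*} [Field F] {σ : F →+* F}

/-- matrix of a long root element -/
def Lm {n : ℕ} (i : Fin n) (c : F) : Matrix (Fin n) (Fin n) F :=
  1 + Matrix.single i (Fin.rev i) c

/-- matrix of a short root element -/
def Xm (σ : F →+* F) {n : ℕ} (i j : Fin n) (c : F) : Matrix (Fin n) (Fin n) F :=
  1 + (Matrix.single i j c - Matrix.single (Fin.rev j) (Fin.rev i) (σ c))

/-- matrix of a root element attached to the anisotropic vector -/
def Qm (σ : F →+* F) {n : ℕ} (i m : Fin n) (c d : F) : Matrix (Fin n) (Fin n) F :=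
  1 + (Matrix.single i m c - Matrix.single m (Fin.rev i) (σ c) + Matrix.single i (Fin.rev i) d)

theorem det_one_add_of_strictUpper {n : ℕ} {N : Matrix (Fin n) (Fin n) F}
    (hN : ∀ i j : Fin n, j ≤ i → N i j = 0) : (1 + N).det = 1 := by
  rw [Matrix.det_of_isUpperTriangular]
  · apply Finset.prod_eq_one
    intro i _
    rw [Matrix.add_apply, hN i i le_rfl, Matrix.one_apply_eq, add_zero]
  · intro i j hij
    have hij' : j < i := hij
    show (1 + N) i j = 0
    rw [Matrix.add_apply, hN i j (le_of_lt hij'), Matrix.one_apply_ne (ne_of_gt hij'), add_zero]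

/-! ### validity of the small root elements -/

theorem valid_L2 (c : F) (hc : c + σ c = 0) : ValidU σ (Lm (0 : Fin 2) c) := by
  have hc' : σ c = -c := by linear_combination hc
  constructor
  · unfold Lm
    apply det_one_add_of_strictUpper
    intro i j hij
    fin_cases i <;> fin_cases j <;> first | (exfalso; revert hij; decide) | simp [Matrix.single_apply]
  · ext i j
    fin_cases i <;> fin_cases j <;>
      simp [Lm, adj_apply, Matrix.mul_apply, Fin.sum_univ_two, Matrix.single_apply,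
        Matrix.one_apply, hc']

theorem valid_X4 (hσ : ∀ x, σ (σ x) = x) (c : F) : ValidU σ (Xm σ (0 : Fin 4) 1 c) := by
  constructor
  · unfold Xm
    apply det_one_add_of_strictUpper
    intro i j hij
    fin_cases i <;> fin_cases j <;> first | (exfalso; revert hij; decide) | simp [Matrix.single_apply]
  · ext i j
    fin_cases i <;> fin_cases j <;>
      simp [Xm, adj_apply, Matrix.mul_apply, Fin.sum_univ_four, Matrix.single_apply,
        Matrix.one_apply, hσ]

theorem valid_Q3 (hσ : ∀ x, σ (σ x) = x) (c d : F) (h : d + σ d + c * σ c = 0) :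
    ValidU σ (Qm σ (0 : Fin 3) 1 c d) := by
  constructor
  · unfold Qm
    apply det_one_add_of_strictUpper
    intro i j hij
    fin_cases i <;> fin_cases j <;> first | (exfalso; revert hij; decide) | simp [Matrix.single_apply]
  · ext i j
    fin_cases i <;> fin_cases j <;>
      simp [Qm, adj_apply, Matrix.mul_apply, Fin.sum_univ_three, Matrix.single_apply,
        Matrix.one_apply, hσ]
    linear_combination h

/-! ### index maps -/

section Idx

variable {n : ℕ}

/-- the pair `(i, j)` is in general position -/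
def Gen (i j : Fin n) : Prop :=
  i.val ≠ j.val ∧ i.val + j.val + 1 ≠ n ∧ 2 * i.val + 1 ≠ n ∧ 2 * j.val + 1 ≠ n

theorem Gen.symm {i j : Fin n} (h : Gen i j) : Gen j i := by
  obtain ⟨h1, h2, h3, h4⟩ := h
  exact ⟨fun h => h1 h.symm, by omega, h4, h3⟩

theorem Gen.rev_right {i j : Fin n} (h : Gen i j) : Gen i (Fin.rev j) := by
  obtain ⟨h1, h2, h3, h4⟩ := h
  have := i.2
  have := j.2
  refine ⟨?_, ?_, h3, ?_⟩ <;> rw [Fin.val_rev] <;> omega

theorem Gen.rev_left {i j : Fin n} (h : Gen i j) : Gen (Fin.rev i) j := by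
  obtain ⟨h1, h2, h3, h4⟩ := h
  have := i.2
  have := j.2
  refine ⟨?_, ?_, ?_, h4⟩ <;> rw [Fin.val_rev] <;> omega

theorem rev_eq_self {m : Fin n} (hm : 2 * m.val + 1 = n) : Fin.rev m = m := by
  apply Fin.ext
  rw [Fin.val_rev]
  omega

/-- `(i, rev i)` -/
def f2 (i : Fin n) : Fin 2 → Fin n := fun a => if a.val = 0 then i else Fin.rev i

/-- `(i, m, rev i)` -/
def f3 (i m : Fin n) : Fin 3 → Fin n :=
  fun a => if a.val = 0 then i else if a.val = 1 then m else Fin.rev i

/-- `(i, j, rev j, rev i)` -/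
def f4 (i j : Fin n) : Fin 4 → Fin n :=
  fun a => if a.val = 0 then i else if a.val = 1 then j else if a.val = 2 then Fin.rev j
    else Fin.rev i

/-- `(i, j, m, rev j, rev i)` -/
def f5 (i j m : Fin n) : Fin 5 → Fin n :=
  fun a => if a.val = 0 then i else if a.val = 1 then j else if a.val = 2 then m
    else if a.val = 3 then Fin.rev j else Fin.rev i

theorem f2_inj {i : Fin n} (hi : 2 * i.val + 1 ≠ n) : Function.Injective (f2 i) := by
  intro a b h
  by_contra hab
  have ha := a.2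
  have hb := b.2
  have hi' := i.2
  unfold f2 at h
  split_ifs at h <;>
    first
    | exact hab (Fin.ext (by omega))
    | (have h' := congrArg Fin.val h; simp only [Fin.val_rev] at h'; omega)

theorem f2_sym (i : Fin n) : ∀ a, f2 i (Fin.rev a) = Fin.rev (f2 i a) := by
  intro a
  fin_cases a
  · rfl
  · exact (Fin.rev_rev i).symm

theorem f3_inj {i m : Fin n} (hm : 2 * m.val + 1 = n) (hi : i.val ≠ m.val) :
    Function.Injective (f3 i m) := by
  intro a b h
  by_contra hab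
  have ha := a.2
  have hb := b.2
  have hi' := i.2
  unfold f3 at h
  split_ifs at h <;>
    first
    | exact hab (Fin.ext (by omega))
    | (have h' := congrArg Fin.val h; simp only [Fin.val_rev] at h'; omega)

theorem f3_sym (i : Fin n) {m : Fin n} (hm : 2 * m.val + 1 = n) :
    ∀ a, f3 i m (Fin.rev a) = Fin.rev (f3 i m a) := by
  intro a
  fin_cases a
  · rfl
  · show m = Fin.rev m
    exact (rev_eq_self hm).symm
  · exact (Fin.rev_rev i).symm

theorem f4_inj {i j : Fin n} (h : Gen i j) : Function.Injective (f4 i j) := by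
  obtain ⟨h1, h2, h3, h4⟩ := h
  intro a b h
  by_contra hab
  have ha := a.2
  have hb := b.2
  have hi' := i.2
  have hj' := j.2
  unfold f4 at h
  split_ifs at h <;>
    first
    | exact hab (Fin.ext (by omega))
    | (have h' := congrArg Fin.val h; simp only [Fin.val_rev] at h'; omega)

theorem f4_sym (i j : Fin n) : ∀ a, f4 i j (Fin.rev a) = Fin.rev (f4 i j a) := by
  intro a
  fin_cases a
  · rfl
  · rfl
  · exact (Fin.rev_rev j).symm
  · exact (Fin.rev_rev i).symm

theorem f5_inj {i j m : Fin n} (h : Gen i j) (hm : 2 * m.val + 1 = n) :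
    Function.Injective (f5 i j m) := by
  obtain ⟨h1, h2, h3, h4⟩ := h
  intro a b h
  by_contra hab
  have ha := a.2
  have hb := b.2
  have hi' := i.2
  have hj' := j.2
  unfold f5 at h
  split_ifs at h <;>
    first
    | exact hab (Fin.ext (by omega))
    | (have h' := congrArg Fin.val h; simp only [Fin.val_rev] at h'; omega)

theorem f5_sym (i j : Fin n) {m : Fin n} (hm : 2 * m.val + 1 = n) :
    ∀ a, f5 i j m (Fin.rev a) = Fin.rev (f5 i j m a) := by
  intro a
  fin_cases a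
  · rfl
  · rfl
  · show m = Fin.rev m
    exact (rev_eq_self hm).symm
  · exact (Fin.rev_rev j).symm
  · exact (Fin.rev_rev i).symm

end Idx

/-! ### transport of root matrices -/

section Transport

variable {r n : ℕ} {f : Fin r → Fin n}

theorem embM_Lm (hs : ∀ i, f (Fin.rev i) = Fin.rev (f i)) (a : Fin r) (c : F) :
    embM f (Lm a c) = Lm (f a) c := by
  unfold Lm
  rw [embM_one_add, iot_single, hs]

theorem embM_Xm (hs : ∀ i, f (Fin.rev i) = Fin.rev (f i)) (a b : Fin r) (c : F) :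
    embM f (Xm σ a b c) = Xm σ (f a) (f b) c := by
  unfold Xm
  rw [embM_one_add, iot_sub, iot_single, iot_single, hs, hs]

theorem embM_Qm (hs : ∀ i, f (Fin.rev i) = Fin.rev (f i)) (a m : Fin r) (c d : F) :
    embM f (Qm σ a m c d) = Qm σ (f a) (f m) c d := by
  unfold Qm
  rw [embM_one_add, iot_add, iot_sub, iot_single, iot_single, iot_single, hs]

end Transport

/-! ### validity of the root elements -/

section Valid

variable {n : ℕ}

theorem valid_Lm {i : Fin n} (hi : 2 * i.val + 1 ≠ n) {c : F} (hc : c + σ c = 0) :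
    ValidU σ (Lm i c) := by
  have h := valid_embM (f2_inj hi) (f2_sym i) (valid_L2 c hc)
  rw [embM_Lm (f2_sym i)] at h
  exact h

theorem valid_Xm (hσ : ∀ x, σ (σ x) = x) {i j : Fin n} (h : Gen i j) (c : F) :
    ValidU σ (Xm σ i j c) := by
  have h0 := valid_embM (f4_inj h) (f4_sym i j) (valid_X4 hσ c)
  rw [embM_Xm (f4_sym i j)] at h0
  exact h0

theorem valid_Qm (hσ : ∀ x, σ (σ x) = x) {i m : Fin n} (hm : 2 * m.val + 1 = n)
    (hi : i.val ≠ m.val) {c d : F} (h : d + σ d + c * σ c = 0) : ValidU σ (Qm σ i m c d) := by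
  have h0 := valid_embM (f3_inj hm hi) (f3_sym i hm) (valid_Q3 hσ c d h)
  rw [embM_Qm (f3_sym i hm)] at h0
  exact h0

end Valid


/-! ### torus matrices -/

/-- matrix of a torus element of a short root `SL₂` -/
def Hm (σ : F →+* F) {n : ℕ} (i j : Fin n) (t : F) : Matrix (Fin n) (Fin n) F :=
  1 + (Matrix.single i i (t - 1) + Matrix.single j j (t⁻¹ - 1)
    + Matrix.single (Fin.rev j) (Fin.rev j) (σ t - 1)
    + Matrix.single (Fin.rev i) (Fin.rev i) ((σ t)⁻¹ - 1))

/-- matrix of a torus element of a long root `SL₂` -/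
def H2m {n : ℕ} (i : Fin n) (t : F) : Matrix (Fin n) (Fin n) F :=
  1 + (Matrix.single i i (t - 1) + Matrix.single (Fin.rev i) (Fin.rev i) (t⁻¹ - 1))

/-- matrix of a torus element of `SU₃` -/
def H3m (σ : F →+* F) {n : ℕ} (i m : Fin n) (t : F) : Matrix (Fin n) (Fin n) F :=
  1 + (Matrix.single i i (t - 1) + Matrix.single m m (σ t / t - 1)
    + Matrix.single (Fin.rev i) (Fin.rev i) ((σ t)⁻¹ - 1))

section Transport2

variable {r n : ℕ} {f : Fin r → Fin n}

theorem embM_Hm (hs : ∀ i, f (Fin.rev i) = Fin.rev (f i)) (a b : Fin r) (t : F) :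
    embM f (Hm σ a b t) = Hm σ (f a) (f b) t := by
  unfold Hm
  rw [embM_one_add, iot_add, iot_add, iot_add, iot_single, iot_single, iot_single, iot_single,
    hs, hs]

theorem embM_H2m (hs : ∀ i, f (Fin.rev i) = Fin.rev (f i)) (a : Fin r) (t : F) :
    embM f (H2m a t) = H2m (f a) t := by
  unfold H2m
  rw [embM_one_add, iot_add, iot_single, iot_single, hs]

theorem embM_H3m (hs : ∀ i, f (Fin.rev i) = Fin.rev (f i)) (a m : Fin r) (t : F) :
    embM f (H3m σ a m t) = H3m σ (f a) (f m) t := by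
  unfold H3m
  rw [embM_one_add, iot_add, iot_add, iot_single, iot_single, iot_single, hs]

end Transport2

/-! ### the small identities -/

theorem Lm_mul2 (c c' : F) : Lm (0 : Fin 2) c * Lm 0 c' = Lm 0 (c + c') := by
  ext i j
  fin_cases i <;> fin_cases j <;>
    simp [Lm, Matrix.mul_apply, Fin.sum_univ_two, Matrix.single_apply, Matrix.one_apply]
  ring

theorem Xm_mul4 (c c' : F) : Xm σ (0 : Fin 4) 1 c * Xm σ 0 1 c' = Xm σ 0 1 (c + c') := by
  ext i j
  fin_cases i <;> fin_cases j <;>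
    simp [Xm, Matrix.mul_apply, Fin.sum_univ_four, Matrix.single_apply, Matrix.one_apply] <;>
    ring

theorem Qm_mul3 (c d c' d' : F) :
    Qm σ (0 : Fin 3) 1 c d * Qm σ 0 1 c' d' = Qm σ 0 1 (c + c') (d + d' - c * σ c') := by
  ext i j
  fin_cases i <;> fin_cases j <;>
    simp [Qm, Matrix.mul_apply, Fin.sum_univ_three, Matrix.single_apply, Matrix.one_apply] <;>
    ring

theorem conjA4 (c d : F) (hd : σ d = -d) :
    Xm σ (0 : Fin 4) 1 c * Lm 1 d * Xm σ 0 1 (-c)
      = Lm 1 d * Xm σ 0 2 (c * d) * Lm 0 (c * σ c * d) := by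
  ext i j
  fin_cases i <;> fin_cases j <;>
    simp [Xm, Lm, Matrix.mul_apply, Fin.sum_univ_four, Matrix.single_apply, Matrix.one_apply,
      hd] <;>
    ring

theorem conjC4 (s e : F) (he : σ e = -e) :
    Lm (2 : Fin 4) e * Xm σ 0 2 s * Lm 2 (-e)
      = Xm σ 0 2 s * Xm σ 0 1 (-(s * e)) * Lm 0 (s * σ s * e) := by
  ext i j
  fin_cases i <;> fin_cases j <;>
    simp [Xm, Lm, Matrix.mul_apply, Fin.sum_univ_four, Matrix.single_apply, Matrix.one_apply,
      he] <;>
    ring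

theorem polar4 (c d : F) (hd : σ d = -d) :
    Xm σ (0 : Fin 4) 2 ((c + 1) * d) * Lm 0 ((c + 1) * σ (c + 1) * d)
        * (Lm 0 (-(c * σ c * d)) * Xm σ 0 2 (-(c * d)))
        * (Lm 0 (-d) * Xm σ 0 2 (-d))
      = Lm 0 ((c + σ c) * d) := by
  ext i j
  fin_cases i <;> fin_cases j <;>
    simp [Xm, Lm, Matrix.mul_apply, Fin.sum_univ_four, Matrix.single_apply, Matrix.one_apply,
      hd] <;>
    ring

theorem conjD5 (t c d : F) (h : d + σ d + c * σ c = 0) :
    Xm σ (0 : Fin 5) 1 t * Qm σ 1 2 c d * Xm σ 0 1 (-t)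
      = Qm σ 1 2 c d * Qm σ 0 2 (t * c) (t * σ t * d) * Xm σ 0 3 (t * d) := by
  have hd : σ d = -d - c * σ c := by linear_combination h
  ext i j
  fin_cases i <;> fin_cases j <;>
    simp [Xm, Qm, Matrix.mul_apply, Fin.sum_univ_five, Matrix.single_apply, Matrix.one_apply,
      hd] <;>
    ring

theorem torus4 (t : F) (ht : t ≠ 0) (hst : σ t ≠ 0) :
    Xm σ (0 : Fin 4) 1 t * Xm σ 1 0 (-t⁻¹) * Xm σ 0 1 t
        * (Xm σ 0 1 (-1) * Xm σ 1 0 1 * Xm σ 0 1 (-1))
      = Hm σ 0 1 t := by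
  ext i j
  fin_cases i <;> fin_cases j <;>
    simp [Xm, Hm, Matrix.mul_apply, Fin.sum_univ_four, Matrix.single_apply, Matrix.one_apply,
      ht, hst, mul_inv_cancel₀, inv_mul_cancel₀]

theorem torus2 (a b : F) (ha : a ≠ 0) (hb : b ≠ 0) :
    Lm (0 : Fin 2) a * Lm 1 (-a⁻¹) * Lm 0 a * (Lm 0 (-b) * Lm 1 b⁻¹ * Lm 0 (-b))
      = H2m 0 (a / b) := by
  ext i j
  fin_cases i <;> fin_cases j <;>
    simp [Lm, H2m, Matrix.mul_apply, Fin.sum_univ_two, Matrix.single_apply, Matrix.one_apply,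
      ha, hb, mul_inv_cancel₀, inv_mul_cancel₀] <;>
    field_simp

/-- a monomial matrix of `SU₃` -/
def W3m (σ : F →+* F) (d : F) : Matrix (Fin 3) (Fin 3) F :=
  Matrix.single 0 2 d + Matrix.single 1 1 (-(σ d / d)) + Matrix.single 2 0 (1 / σ d)

theorem weyl3a (hσ : ∀ x, σ (σ x) = x) (c d : F) (hd : d ≠ 0) (hsd : σ d ≠ 0)
    (h : d + σ d + c * σ c = 0) :
    Qm σ (0 : Fin 3) 1 c d * Qm σ 2 1 (-c / d) (1 / σ d)
      = Matrix.single 0 2 d + Matrix.single 1 1 (-(σ d / d)) + Matrix.single 2 0 (1 / σ d)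
        + Matrix.single 1 2 (-σ c) + Matrix.single 2 1 (-c / d) + Matrix.single 2 2 1 := by
  ext i j
  fin_cases i <;> fin_cases j <;>
    simp [Qm, Matrix.mul_apply, Fin.sum_univ_three, Matrix.single_apply, Matrix.one_apply,
      hd, hsd, hσ] <;>
    field_simp <;> first | ring1 | linear_combination h | linear_combination -h

theorem weyl3b (hσ : ∀ x, σ (σ x) = x) (c d : F) (hd : d ≠ 0) (hsd : σ d ≠ 0)
    (h : d + σ d + c * σ c = 0) :
    (Matrix.single 0 2 d + Matrix.single 1 1 (-(σ d / d)) + Matrix.single 2 0 (1 / σ d)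
        + Matrix.single 1 2 (-σ c) + Matrix.single 2 1 (-c / d) + Matrix.single 2 2 1)
      * Qm σ (0 : Fin 3) 1 (c * σ d / d) d = W3m σ d := by
  ext i j
  fin_cases i <;> fin_cases j <;>
    simp [Qm, W3m, Matrix.mul_apply, Fin.sum_univ_three, Matrix.single_apply, Matrix.one_apply,
      hd, hsd, hσ] <;>
    field_simp <;> first | ring1 | linear_combination h | linear_combination -h

theorem weyl3 (hσ : ∀ x, σ (σ x) = x) (c d : F) (hd : d ≠ 0) (hsd : σ d ≠ 0)
    (h : d + σ d + c * σ c = 0) :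
    Qm σ (0 : Fin 3) 1 c d * Qm σ 2 1 (-c / d) (1 / σ d) * Qm σ 0 1 (c * σ d / d) d
      = W3m σ d := by
  rw [weyl3a hσ c d hd hsd h, weyl3b hσ c d hd hsd h]

theorem weyl3_mul (t : F) :
    W3m σ t * W3m σ 1 = H3m σ (0 : Fin 3) 1 t := by
  ext i j
  fin_cases i <;> fin_cases j <;>
    simp [H3m, W3m, Matrix.mul_apply, Fin.sum_univ_three, Matrix.single_apply, Matrix.one_apply]

theorem torus3 (hσ : ∀ x, σ (σ x) = x) (c t c₀ : F) (ht : t ≠ 0)
    (h : t + σ t + c * σ c = 0) (h₀ : 1 + σ 1 + c₀ * σ c₀ = 0) :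
    Qm σ (0 : Fin 3) 1 c t * Qm σ 2 1 (-c / t) (1 / σ t) * Qm σ 0 1 (c * σ t / t) t
        * (Qm σ 0 1 c₀ 1 * Qm σ 2 1 (-c₀ / 1) (1 / σ 1) * Qm σ 0 1 (c₀ * σ 1 / 1) 1)
      = H3m σ 0 1 t := by
  have hst : σ t ≠ 0 := (map_ne_zero σ).2 ht
  have hs1 : σ (1 : F) ≠ 0 := (map_ne_zero σ).2 one_ne_zero
  rw [weyl3 hσ c t ht hst h, weyl3 hσ c₀ 1 one_ne_zero hs1 h₀, weyl3_mul]

/-! ### the general identities -/

section General

variable {n : ℕ}

theorem f2_0 (i : Fin n) : f2 i 0 = i := rfl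
theorem f2_1 (i : Fin n) : f2 i 1 = Fin.rev i := rfl
theorem f3_0 (i m : Fin n) : f3 i m 0 = i := rfl
theorem f3_1 (i m : Fin n) : f3 i m 1 = m := rfl
theorem f3_2 (i m : Fin n) : f3 i m 2 = Fin.rev i := rfl
theorem f4_0 (i j : Fin n) : f4 i j 0 = i := rfl
theorem f4_1 (i j : Fin n) : f4 i j 1 = j := rfl
theorem f4_2 (i j : Fin n) : f4 i j 2 = Fin.rev j := rfl
theorem f4_3 (i j : Fin n) : f4 i j 3 = Fin.rev i := rfl
theorem f5_0 (i j m : Fin n) : f5 i j m 0 = i := rfl
theorem f5_1 (i j m : Fin n) : f5 i j m 1 = j := rfl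
theorem f5_2 (i j m : Fin n) : f5 i j m 2 = m := rfl
theorem f5_3 (i j m : Fin n) : f5 i j m 3 = Fin.rev j := rfl
theorem f5_4 (i j m : Fin n) : f5 i j m 4 = Fin.rev i := rfl

theorem Lm_mul {i : Fin n} (hi : 2 * i.val + 1 ≠ n) (c c' : F) :
    Lm i c * Lm i c' = Lm i (c + c') := by
  have h0 := congrArg (embM (f2 i)) (Lm_mul2 c c')
  rw [embM_mul (f2_inj hi), embM_Lm (f2_sym i), embM_Lm (f2_sym i), embM_Lm (f2_sym i)] at h0
  exact h0

theorem Xm_mul {i j : Fin n} (h : Gen i j) (c c' : F) :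
    Xm σ i j c * Xm σ i j c' = Xm σ i j (c + c') := by
  have h0 := congrArg (embM (f4 i j)) (Xm_mul4 (σ := σ) c c')
  rw [embM_mul (f4_inj h), embM_Xm (f4_sym i j), embM_Xm (f4_sym i j),
    embM_Xm (f4_sym i j)] at h0
  exact h0

theorem Qm_mul {i m : Fin n} (hm : 2 * m.val + 1 = n) (hi : i.val ≠ m.val) (c d c' d' : F) :
    Qm σ i m c d * Qm σ i m c' d' = Qm σ i m (c + c') (d + d' - c * σ c') := by
  have h0 := congrArg (embM (f3 i m)) (Qm_mul3 (σ := σ) c d c' d')
  rw [embM_mul (f3_inj hm hi), embM_Qm (f3_sym i hm), embM_Qm (f3_sym i hm),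
    embM_Qm (f3_sym i hm)] at h0
  exact h0

theorem conjA {a b : Fin n} (h : Gen a b) (c d : F) (hd : σ d = -d) :
    Xm σ a b c * Lm b d * Xm σ a b (-c)
      = Lm b d * Xm σ a (Fin.rev b) (c * d) * Lm a (c * σ c * d) := by
  have h0 := congrArg (embM (f4 a b)) (conjA4 (σ := σ) c d hd)
  simp only [embM_mul (f4_inj h), embM_Xm (f4_sym a b), embM_Lm (f4_sym a b), f4_0, f4_1,
    f4_2] at h0
  exact h0

theorem conjC {a b : Fin n} (h : Gen a b) (s e : F) (he : σ e = -e) :
    Lm (Fin.rev b) e * Xm σ a (Fin.rev b) s * Lm (Fin.rev b) (-e)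
      = Xm σ a (Fin.rev b) s * Xm σ a b (-(s * e)) * Lm a (s * σ s * e) := by
  have h0 := congrArg (embM (f4 a b)) (conjC4 (σ := σ) s e he)
  simp only [embM_mul (f4_inj h), embM_Xm (f4_sym a b), embM_Lm (f4_sym a b), f4_0, f4_1,
    f4_2] at h0
  exact h0

theorem polar {a b : Fin n} (h : Gen a b) (c d : F) (hd : σ d = -d) :
    Xm σ a (Fin.rev b) ((c + 1) * d) * Lm a ((c + 1) * σ (c + 1) * d)
        * (Lm a (-(c * σ c * d)) * Xm σ a (Fin.rev b) (-(c * d)))
        * (Lm a (-d) * Xm σ a (Fin.rev b) (-d))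
      = Lm a ((c + σ c) * d) := by
  have h0 := congrArg (embM (f4 a b)) (polar4 (σ := σ) c d hd)
  simp only [embM_mul (f4_inj h), embM_Xm (f4_sym a b), embM_Lm (f4_sym a b), f4_0, f4_1,
    f4_2] at h0
  exact h0

theorem conjD {a a' m : Fin n} (h : Gen a a') (hm : 2 * m.val + 1 = n) (t c d : F)
    (hq : d + σ d + c * σ c = 0) :
    Xm σ a a' t * Qm σ a' m c d * Xm σ a a' (-t)
      = Qm σ a' m c d * Qm σ a m (t * c) (t * σ t * d) * Xm σ a (Fin.rev a') (t * d) := by
  have h0 := congrArg (embM (f5 a a' m)) (conjD5 (σ := σ) t c d hq)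
  simp only [embM_mul (f5_inj h hm), embM_Xm (f5_sym a a' hm), embM_Qm (f5_sym a a' hm), f5_0,
    f5_1, f5_2, f5_3] at h0
  exact h0

theorem torusX {i j : Fin n} (h : Gen i j) (t : F) (ht : t ≠ 0) :
    Xm σ i j t * Xm σ j i (-t⁻¹) * Xm σ i j t
        * (Xm σ i j (-1) * Xm σ j i 1 * Xm σ i j (-1))
      = Hm σ i j t := by
  have h0 := congrArg (embM (f4 i j)) (torus4 (σ := σ) t ht ((map_ne_zero σ).2 ht))
  simp only [embM_mul (f4_inj h), embM_Xm (f4_sym i j), embM_Hm (f4_sym i j), f4_0, f4_1] at h0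
  exact h0

theorem torusL {i : Fin n} (hi : 2 * i.val + 1 ≠ n) (a b : F) (ha : a ≠ 0) (hb : b ≠ 0) :
    Lm i a * Lm (Fin.rev i) (-a⁻¹) * Lm i a * (Lm i (-b) * Lm (Fin.rev i) b⁻¹ * Lm i (-b))
      = H2m i (a / b) := by
  have h0 := congrArg (embM (f2 i)) (torus2 a b ha hb)
  simp only [embM_mul (f2_inj hi), embM_Lm (f2_sym i), embM_H2m (f2_sym i), f2_0, f2_1] at h0
  exact h0

theorem torusQ (hσ : ∀ x, σ (σ x) = x) {i m : Fin n} (hm : 2 * m.val + 1 = n)
    (hi : i.val ≠ m.val) (c t c₀ : F) (ht : t ≠ 0)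
    (h : t + σ t + c * σ c = 0) (h₀ : 1 + σ 1 + c₀ * σ c₀ = 0) :
    Qm σ i m c t * Qm σ (Fin.rev i) m (-c / t) (1 / σ t) * Qm σ i m (c * σ t / t) t
        * (Qm σ i m c₀ 1 * Qm σ (Fin.rev i) m (-c₀ / 1) (1 / σ 1) * Qm σ i m (c₀ * σ 1 / 1) 1)
      = H3m σ i m t := by
  have h0 := congrArg (embM (f3 i m)) (torus3 (σ := σ) hσ c t c₀ ht h h₀)
  simp only [embM_mul (f3_inj hm hi), embM_Qm (f3_sym i hm), embM_H3m (f3_sym i hm), f3_0, f3_1,
    f3_2] at h0
  exact h0

end General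

end Cfsg.Agent.Lib.Helper86.Un
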