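import Mathlib
import Cfsg.Agent.Lib.Helper86.UnRoot

set_option autoImplicit false
set_option linter.style.haveILetI false
set_option linter.unusedSectionVars false
set_option linter.dupNamespace false
set_option linter.unusedVariables false
set_option linter.unusedSimpArgs false

/-! # Root elements and triangular subgroups of the special unitary group -/

namespace Cfsg.Agent.Lib.Helper86.Un

open Matrix Cfsg.Agent.Lib.Helper86.TriGen

variable {F : Type*} [Field F] {σ : F →+* F}

/-- the properties of the involution used throughout -/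
structure Herm (σ : F →+* F) : Prop where
  invol : ∀ x, σ (σ x) = x
  nonfix : ∃ c, σ c ≠ c
  trace : ∀ μ, σ μ = μ → ∃ x, x + σ x = μ
  norm : ∀ μ, σ μ = μ → ∃ x, x * σ x = μ

theorem Herm.exists_skew (hs : Herm σ) : ∃ e : F, e ≠ 0 ∧ e + σ e = 0 := by
  obtain ⟨c, hc⟩ := hs.nonfix
  refine ⟨c - σ c, fun h => hc (sub_eq_zero.1 h).symm, ?_⟩
  rw [map_sub, hs.invol]
  ring

theorem Herm.exists_Q (hs : Herm σ) (c : F) : ∃ d : F, d + σ d + c * σ c = 0 := by
  obtain ⟨d, hd⟩ := hs.trace (-(c * σ c)) (by rw [map_neg, map_mul, hs.invol, mul_comm])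
  exact ⟨d, by rw [hd]; ring⟩

theorem skew_iff {c : F} : c + σ c = 0 ↔ σ c = -c :=
  ⟨fun h => by linear_combination h, fun h => by rw [h]; ring⟩

/-! ### the root elements -/

/-- long root element -/
noncomputable def L (σ : F →+* F) {n : ℕ} (i : Fin n) (c : F) : UJ n σ := ofMat σ (Lm i c)

/-- short root element -/
noncomputable def X (σ : F →+* F) {n : ℕ} (i j : Fin n) (c : F) : UJ n σ :=
  ofMat σ (Xm σ i j c)

/-- root element attached to the anisotropic vector -/
noncomputable def Q (σ : F →+* F) {n : ℕ} (i m : Fin n) (c d : F) : UJ n σ :=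
  ofMat σ (Qm σ i m c d)

section Elts

variable {n : ℕ}

theorem mat_L {i : Fin n} (hi : 2 * i.val + 1 ≠ n) {c : F} (hc : c + σ c = 0) :
    mat (L σ i c) = Lm i c := mat_ofMat (valid_Lm hi hc)

theorem mat_X (hσ : ∀ x, σ (σ x) = x) {i j : Fin n} (h : Gen i j) (c : F) :
    mat (X σ i j c) = Xm σ i j c := mat_ofMat (valid_Xm hσ h c)

theorem mat_Q (hσ : ∀ x, σ (σ x) = x) {i m : Fin n} (hm : 2 * m.val + 1 = n)
    (hi : i.val ≠ m.val) {c d : F} (h : d + σ d + c * σ c = 0) :
    mat (Q σ i m c d) = Qm σ i m c d := mat_ofMat (valid_Qm hσ hm hi h)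

theorem Lm_zero (i : Fin n) : Lm i (0 : F) = 1 := by
  unfold Lm; rw [Matrix.single_zero, add_zero]

theorem Xm_zero (i j : Fin n) : Xm σ i j 0 = 1 := by
  unfold Xm; rw [map_zero, Matrix.single_zero, Matrix.single_zero, sub_zero, add_zero]

theorem Qm_zero (i m : Fin n) : Qm σ i m 0 0 = 1 := by
  unfold Qm
  rw [map_zero, Matrix.single_zero, Matrix.single_zero, Matrix.single_zero, sub_zero, add_zero,
    add_zero]

theorem L_zero (i : Fin n) : L σ i 0 = 1 := by
  unfold L; rw [Lm_zero, ofMat_one]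

theorem X_zero (i j : Fin n) : X σ i j 0 = 1 := by
  unfold X; rw [Xm_zero, ofMat_one]

theorem L_mul {i : Fin n} (hi : 2 * i.val + 1 ≠ n) {c c' : F} (hc : c + σ c = 0)
    (hc' : c' + σ c' = 0) : L σ i c * L σ i c' = L σ i (c + c') := by
  unfold L
  rw [ofMat_mul (valid_Lm hi hc) (valid_Lm hi hc'), Lm_mul hi]

theorem L_inv {i : Fin n} (hi : 2 * i.val + 1 ≠ n) {c : F} (hc : c + σ c = 0) :
    (L σ i c)⁻¹ = L σ i (-c) := by
  have hc' : -c + σ (-c) = 0 := by rw [map_neg]; linear_combination -hc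
  rw [inv_eq_iff_mul_eq_one, L_mul hi hc hc', add_neg_cancel, L_zero]

theorem X_mul (hσ : ∀ x, σ (σ x) = x) {i j : Fin n} (h : Gen i j) (c c' : F) :
    X σ i j c * X σ i j c' = X σ i j (c + c') := by
  unfold X
  rw [ofMat_mul (valid_Xm hσ h c) (valid_Xm hσ h c'), Xm_mul h]

theorem X_inv (hσ : ∀ x, σ (σ x) = x) {i j : Fin n} (h : Gen i j) (c : F) :
    (X σ i j c)⁻¹ = X σ i j (-c) := by
  rw [inv_eq_iff_mul_eq_one, X_mul hσ h, add_neg_cancel, X_zero]

theorem Q_inv (hσ : ∀ x, σ (σ x) = x) {i m : Fin n} (hm : 2 * m.val + 1 = n)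
    (hi : i.val ≠ m.val) {c d : F} (h : d + σ d + c * σ c = 0) :
    (Q σ i m c d)⁻¹ = Q σ i m (-c) (σ d) := by
  have h' : σ d + σ (σ d) + -c * σ (-c) = 0 := by
    rw [hσ, map_neg]; linear_combination h
  rw [inv_eq_iff_mul_eq_one]
  unfold Q
  rw [ofMat_mul (valid_Qm hσ hm hi h) (valid_Qm hσ hm hi h'), Qm_mul hm hi]
  have e1 : c + -c = 0 := add_neg_cancel c
  have e2 : d + σ d - c * σ (-c) = 0 := by rw [map_neg]; linear_combination h
  rw [e1, e2, Qm_zero, ofMat_one]

theorem ofMat_mul3 {A B C : Matrix (Fin n) (Fin n) F} (hA : ValidU σ A) (hB : ValidU σ B)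
    (hC : ValidU σ C) : ofMat σ A * ofMat σ B * ofMat σ C = ofMat σ (A * B * C) := by
  rw [ofMat_mul hA hB, ofMat_mul (valid_mul hA hB) hC]

end Elts

/-! ### block functions and the triangular subgroups -/

/-- the rank function -/
def vl (n : ℕ) : Fin n → ℕ := fun i => i.val

theorem vl_inj (n : ℕ) : Function.Injective (vl n) := Fin.val_injective

theorem vl_lt (n : ℕ) (x : Fin n) : vl n x < n := x.2

/-- the Heisenberg block function -/
def bH (n : ℕ) : Fin n → ℕ := fun i => if i.val = 0 then 0 else if i.val + 1 = n then 2 else 1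

/-- the Siegel block function -/
def bS (n : ℕ) : Fin n → ℕ :=
  fun i => if 2 * i.val + 1 < n then 0 else if 2 * i.val + 1 = n then 1 else 2

theorem bH_mono (n : ℕ) : ∀ x y : Fin n, vl n y < vl n x → bH n y ≤ bH n x := by
  intro x y h
  have hx := x.2
  have hy := y.2
  unfold vl at h
  unfold bH
  split_ifs <;> omega

theorem bS_mono (n : ℕ) : ∀ x y : Fin n, vl n y < vl n x → bS n y ≤ bS n x := by
  intro x y h
  have hx := x.2
  have hy := y.2
  unfold vl at h
  unfold bS
  split_ifs <;> omega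

/-- block triangular subgroups -/
abbrev triU (n : ℕ) (σ : F →+* F) (β : Fin n → ℕ) : Subgroup (UJ n σ) :=
  triG (mat : UJ n σ →* Matrix (Fin n) (Fin n) F) β

/-- block unitriangular subgroups -/
abbrev uniU (n : ℕ) (σ : F →+* F) (β : Fin n → ℕ) : Subgroup (UJ n σ) :=
  uniG (mat : UJ n σ →* Matrix (Fin n) (Fin n) F) β

section Mem

variable {n : ℕ} {β : Fin n → ℕ}

theorem ofMat_mem_uniU {N : Matrix (Fin n) (Fin n) F} (hv : ValidU σ (1 + N))
    (hN : ∀ i j, β j ≤ β i → N i j = 0) : ofMat σ (1 + N) ∈ uniU n σ β := by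
  rw [mem_uniG, mat_ofMat hv]
  refine ⟨fun i j hij => ?_, fun x y hxy => ?_⟩
  · rw [Matrix.add_apply, hN i j (le_of_lt hij), add_zero, Matrix.one_apply_ne]
    rintro rfl
    exact lt_irrefl _ hij
  · rw [Matrix.add_apply, hN x y (le_of_eq hxy.symm), add_zero]

theorem ofMat_mem_triU {N : Matrix (Fin n) (Fin n) F} (hv : ValidU σ (1 + N))
    (hN : ∀ i j, β j < β i → N i j = 0) : ofMat σ (1 + N) ∈ triU n σ β := by
  rw [mem_triG, mat_ofMat hv]
  intro i j hij
  rw [Matrix.add_apply, hN i j hij, add_zero, Matrix.one_apply_ne]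
  rintro rfl
  exact lt_irrefl _ hij

theorem single_su {a b : Fin n} (h : β a < β b) (c : F) :
    ∀ i j, β j ≤ β i → Matrix.single a b c i j = 0 := by
  intro i j hij
  rw [Matrix.single_apply, if_neg]
  rintro ⟨rfl, rfl⟩
  omega

theorem single_bu {a b : Fin n} (h : β a ≤ β b) (c : F) :
    ∀ i j, β j < β i → Matrix.single a b c i j = 0 := by
  intro i j hij
  rw [Matrix.single_apply, if_neg]
  rintro ⟨rfl, rfl⟩
  omega

theorem L_mem_uniU {i : Fin n} (hi : 2 * i.val + 1 ≠ n) {c : F} (hc : c + σ c = 0)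
    (h : β i < β (Fin.rev i)) : L σ i c ∈ uniU n σ β :=
  ofMat_mem_uniU (valid_Lm hi hc) (single_su h c)

theorem L_mem_triU {i : Fin n} (hi : 2 * i.val + 1 ≠ n) {c : F} (hc : c + σ c = 0)
    (h : β i ≤ β (Fin.rev i)) : L σ i c ∈ triU n σ β :=
  ofMat_mem_triU (valid_Lm hi hc) (single_bu h c)

theorem X_mem_uniU (hσ : ∀ x, σ (σ x) = x) {i j : Fin n} (hg : Gen i j) (c : F)
    (h1 : β i < β j) (h2 : β (Fin.rev j) < β (Fin.rev i)) : X σ i j c ∈ uniU n σ β := by
  apply ofMat_mem_uniU (valid_Xm hσ hg c)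
  intro a b hab
  rw [Matrix.sub_apply, single_su h1 c a b hab, single_su h2 (σ c) a b hab, sub_zero]

theorem X_mem_triU (hσ : ∀ x, σ (σ x) = x) {i j : Fin n} (hg : Gen i j) (c : F)
    (h1 : β i ≤ β j) (h2 : β (Fin.rev j) ≤ β (Fin.rev i)) : X σ i j c ∈ triU n σ β := by
  apply ofMat_mem_triU (valid_Xm hσ hg c)
  intro a b hab
  rw [Matrix.sub_apply, single_bu h1 c a b hab, single_bu h2 (σ c) a b hab, sub_zero]

theorem Q_mem_uniU (hσ : ∀ x, σ (σ x) = x) {i m : Fin n} (hm : 2 * m.val + 1 = n)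
    (hi : i.val ≠ m.val) {c d : F} (hq : d + σ d + c * σ c = 0)
    (h1 : β i < β m) (h2 : β m < β (Fin.rev i)) : Q σ i m c d ∈ uniU n σ β := by
  apply ofMat_mem_uniU (valid_Qm hσ hm hi hq)
  intro a b hab
  rw [Matrix.add_apply, Matrix.sub_apply, single_su h1 c a b hab, single_su h2 (σ c) a b hab,
    single_su (h1.trans h2) d a b hab, sub_zero, add_zero]

theorem Q_mem_triU (hσ : ∀ x, σ (σ x) = x) {i m : Fin n} (hm : 2 * m.val + 1 = n)
    (hi : i.val ≠ m.val) {c d : F} (hq : d + σ d + c * σ c = 0)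
    (h1 : β i ≤ β m) (h2 : β m ≤ β (Fin.rev i)) : Q σ i m c d ∈ triU n σ β := by
  apply ofMat_mem_triU (valid_Qm hσ hm hi hq)
  intro a b hab
  rw [Matrix.add_apply, Matrix.sub_apply, single_bu h1 c a b hab, single_bu h2 (σ c) a b hab,
    single_bu (h1.trans h2) d a b hab, sub_zero, add_zero]

end Mem

/-! ### the Borel subgroup is the normalizer of the unitriangular subgroup -/

section Flag

variable {n : ℕ}

theorem single_mulVec_apply (a b : Fin n) (c : F) (w : Fin n → F) (i : Fin n) :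
    (Matrix.single a b c *ᵥ w) i = if i = a then c * w b else 0 := by
  rw [Matrix.mulVec, dotProduct, Finset.sum_eq_single b]
  · rw [Matrix.single_apply]
    by_cases h : i = a
    · rw [if_pos h, if_pos ⟨h.symm, rfl⟩]
    · rw [if_neg h, if_neg (fun h' => h h'.1.symm), zero_mul]
  · intro z _ hz
    rw [Matrix.single_apply, if_neg (fun h' => hz h'.2.symm), zero_mul]
  · intro h; exact absurd (Finset.mem_univ _) h

theorem pred_elt (hs : Herm σ) (x : Fin n) (hx : 0 < vl n x) :
    ∃ (x' : Fin n) (u : UJ n σ), u ∈ uniU n σ (vl n) ∧ vl n x' + 1 = vl n x ∧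
      ∃ c : F, c ≠ 0 ∧ ∀ w : Fin n → F, (∀ y, vl n x < vl n y → w y = 0) →
        (mat u *ᵥ w) x' = w x' + c * w x := by
  have hx2 := x.2
  unfold vl at hx
  obtain ⟨x', hx'⟩ : ∃ x' : Fin n, x'.val + 1 = x.val := ⟨⟨x.val - 1, by omega⟩, by
    show x.val - 1 + 1 = x.val; omega⟩
  have hrev : (Fin.rev x').val = n - (x'.val + 1) := Fin.val_rev x'
  have hrevx : (Fin.rev x).val = n - (x.val + 1) := Fin.val_rev x
  by_cases h1 : 2 * x.val = n
  · -- long root
    obtain ⟨e, he0, he⟩ := hs.exists_skew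
    have hrx : Fin.rev x' = x := by apply Fin.ext; omega
    refine ⟨x', L σ x' e, L_mem_uniU (by omega) he (by unfold vl; omega), hx', e, he0, ?_⟩
    intro w _
    rw [mat_L (by omega) he]
    unfold Lm
    rw [Matrix.add_mulVec, Matrix.one_mulVec, Pi.add_apply, single_mulVec_apply, if_pos rfl, hrx]
  · by_cases h2 : 2 * x.val + 1 = n
    · -- the middle column
      obtain ⟨d, hd⟩ := hs.exists_Q 1
      refine ⟨x', Q σ x' x 1 d, Q_mem_uniU hs.invol h2 (by omega) hd (by unfold vl; omega)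
        (by unfold vl; omega), hx', 1, one_ne_zero, ?_⟩
      intro w hw
      rw [mat_Q hs.invol h2 (by omega) hd]
      unfold Qm
      rw [Matrix.add_mulVec, Matrix.one_mulVec, Pi.add_apply, Matrix.add_mulVec,
        Matrix.sub_mulVec, Pi.add_apply, Pi.sub_apply, single_mulVec_apply, single_mulVec_apply,
        single_mulVec_apply, if_pos rfl, if_pos rfl,
        if_neg (fun h => by have := congrArg Fin.val h; omega),
        hw (Fin.rev x') (by unfold vl; omega)]
      ring
    · by_cases h3 : 2 * x'.val + 1 = n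
      · -- the middle row
        obtain ⟨d, hd⟩ := hs.exists_Q 1
        obtain ⟨x'', hx''⟩ : ∃ x'' : Fin n, x''.val + 1 = x'.val := ⟨⟨x'.val - 1, by omega⟩, by
          show x'.val - 1 + 1 = x'.val; omega⟩
        have hrx : Fin.rev x'' = x := by apply Fin.ext; rw [Fin.val_rev]; omega
        refine ⟨x', Q σ x'' x' 1 d, Q_mem_uniU hs.invol h3 (by omega) hd (by unfold vl; omega)
          (by unfold vl; rw [Fin.val_rev]; omega), hx', -1, neg_ne_zero.2 one_ne_zero, ?_⟩
        intro w _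
        rw [mat_Q hs.invol h3 (by omega) hd]
        unfold Qm
        rw [Matrix.add_mulVec, Matrix.one_mulVec, Pi.add_apply, Matrix.add_mulVec,
          Matrix.sub_mulVec, Pi.add_apply, Pi.sub_apply, single_mulVec_apply, single_mulVec_apply,
          single_mulVec_apply, if_pos rfl,
          if_neg (fun h => by have := congrArg Fin.val h; omega),
          if_neg (fun h => by have := congrArg Fin.val h; omega), hrx, map_one]
        ring
      · -- generic
        have hg : Gen x' x := ⟨by omega, by omega, by omega, by omega⟩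
        refine ⟨x', X σ x' x 1, X_mem_uniU hs.invol hg 1 (by unfold vl; omega)
          (by unfold vl; omega), hx', 1, one_ne_zero, ?_⟩
        intro w _
        rw [mat_X hs.invol hg]
        unfold Xm
        rw [Matrix.add_mulVec, Matrix.one_mulVec, Pi.add_apply, Matrix.sub_mulVec, Pi.sub_apply,
          single_mulVec_apply, single_mulVec_apply, if_pos rfl,
          if_neg (fun h => by have := congrArg Fin.val h; omega)]
        ring

theorem normalizer_uniU (hs : Herm σ) :
    Subgroup.normalizer ((uniU n σ (vl n) : Subgroup (UJ n σ)) : Set (UJ n σ))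
      = triU n σ (vl n) :=
  normalizer_uniG mat (vl_inj n) n (vl_lt n) (pred_elt hs)

theorem mem_triU_of_conj (hs : Herm σ) {g : UJ n σ}
    (hg : ∀ u ∈ uniU n σ (vl n), g⁻¹ * u * g ∈ uniU n σ (vl n)) : g ∈ triU n σ (vl n) :=
  mem_triG_of_conj mat (vl_inj n) n (vl_lt n) (pred_elt hs) hg

instance instFiniteUJ [Finite F] : Finite (UJ n σ) := inferInstance

theorem uniU_isPGroup (p : ℕ) [Fact p.Prime] [CharP F p] : IsPGroup p (uniU n σ (vl n)) :=
  uniG_isPGroup mat (vl_inj n) mat_injective n (vl_lt n) p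

theorem uniU_pow_eq_one (p : ℕ) [Fact p.Prime] [CharP F p] {u : UJ n σ}
    (hu : u ∈ uniU n σ (vl n)) : u ^ (p ^ n) = 1 :=
  uni_pow_eq_one mat (vl_inj n) mat_injective n (vl_lt n) p hu

theorem not_dvd_index_uniU [Fintype F] (hs : Herm σ) (p : ℕ) [Fact p.Prime] [CharP F p] :
    ¬ p ∣ (uniU n σ (vl n)).index :=
  not_dvd_index_uniG mat (vl_inj n) mat_injective n (vl_lt n) (pred_elt hs) p

theorem mem_uniU_vl {g : UJ n σ} :
    g ∈ uniU n σ (vl n) ↔ (mat g).BlockTriangular (vl n) ∧ ∀ x, mat g x x = 1 :=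
  mem_uniG_rank mat (vl_inj n)

end Flag

end Cfsg.Agent.Lib.Helper86.Un
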