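import Mathlib
import Cfsg.Agent.Lib.Helper86.UnGrp

set_option autoImplicit false
set_option linter.style.haveILetI false
set_option linter.unusedSectionVars false
set_option linter.dupNamespace false
set_option linter.unusedVariables false
set_option linter.unusedSimpArgs false

/-! # Centralizers of the unipotent radicals of two maximal parabolic subgroups -/

namespace Cfsg.Agent.Lib.Helper86.Un

open Matrix Cfsg.Agent.Lib.Helper86.TriGen

variable {F : Type*} [Field F] {σ : F →+* F} {n : ℕ}

/-! ### scalar elements -/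

theorem valid_scalar {t : F} (hdet : t ^ n = 1) (hN : σ t * t = 1) :
    ValidU σ (t • (1 : Matrix (Fin n) (Fin n) F)) := by
  refine ⟨by rw [Matrix.det_smul, Matrix.det_one, mul_one, Fintype.card_fin, hdet], ?_⟩
  have h1 : adj σ (t • (1 : Matrix (Fin n) (Fin n) F)) = σ t • (1 : Matrix (Fin n) (Fin n) F) := by
    ext x y
    rw [adj_apply, Matrix.smul_apply, Matrix.smul_apply, smul_eq_mul, smul_eq_mul, map_mul,
      Matrix.one_apply, Matrix.one_apply]
    by_cases h : x = y
    · subst h; rw [if_pos rfl, if_pos rfl, map_one]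
    · rw [if_neg h, if_neg (fun h' => h (Fin.rev_injective h').symm), map_zero]
  rw [h1, Matrix.smul_mul, Matrix.mul_smul, Matrix.one_mul, smul_smul, hN, one_smul]

theorem scalar_mem_center {t : F} (hv : ValidU σ (t • (1 : Matrix (Fin n) (Fin n) F))) :
    ofMat σ (t • (1 : Matrix (Fin n) (Fin n) F)) ∈ Subgroup.center (UJ n σ) := by
  rw [Subgroup.mem_center_iff]
  intro h
  apply mat_injective
  rw [map_mul, map_mul, mat_ofMat hv, Matrix.smul_mul, Matrix.mul_smul, Matrix.one_mul,
    Matrix.mul_one]

/-- an element which is scalar modulo a block unitriangular matrix is the product of a central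
element and a block unitriangular element -/
theorem cent_finish {β : Fin n → ℕ} (hmono : ∀ x y, vl n y < vl n x → β y ≤ β x) {g : UJ n σ}
    {t : F} (h : ∀ x y, β y ≤ β x → mat g x y = if x = y then t else 0) (a : Fin n)
    (ha : ∀ x, β a ≤ β x) :
    ∃ z ∈ Subgroup.center (UJ n σ), z * g ∈ uniU n σ β := by
  have hdiag : ∀ x, mat g x x = t := fun x => by rw [h x x le_rfl, if_pos rfl]
  have hdet : t ^ n = 1 := by
    have h1 : (mat g).det = ∏ i : Fin n, mat g i i := by
      apply Matrix.det_of_isUpperTriangular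
      intro x y hxy
      have hxy' : y < x := hxy
      rw [h x y (hmono x y hxy'), if_neg (ne_of_gt hxy')]
    rw [(valid_mat g).1] at h1
    rw [h1]
    simp only [hdiag, Finset.prod_const, Finset.card_univ, Fintype.card_fin]
  have hN : σ t * t = 1 := by
    have h1 := congrFun (congrFun (valid_mat g).2 a) a
    rw [Matrix.mul_apply, Matrix.one_apply_eq, Finset.sum_eq_single a] at h1
    · rw [adj_apply, hdiag, hdiag] at h1
      exact h1
    · intro z _ hz
      rw [h z a (ha z), if_neg hz, mul_zero]
    · intro h'; exact absurd (Finset.mem_univ _) h'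
  have ht0 : t ≠ 0 := by
    rintro rfl
    rw [mul_zero] at hN
    exact zero_ne_one hN
  have hdet' : t⁻¹ ^ n = 1 := by rw [inv_pow, hdet, inv_one]
  have hN' : σ t⁻¹ * t⁻¹ = 1 := by rw [map_inv₀, ← mul_inv, hN, inv_one]
  have hv := valid_scalar (σ := σ) hdet' hN'
  refine ⟨ofMat σ (t⁻¹ • (1 : Matrix (Fin n) (Fin n) F)), scalar_mem_center hv, ?_⟩
  have hm : mat (ofMat σ (t⁻¹ • (1 : Matrix (Fin n) (Fin n) F)) * g) = t⁻¹ • mat g := by
    rw [map_mul, mat_ofMat hv, Matrix.smul_mul, Matrix.one_mul]
  rw [mem_uniG, hm]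
  refine ⟨fun x y hxy => ?_, fun x y hxy => ?_⟩
  · rw [Matrix.smul_apply, h x y (le_of_lt hxy), if_neg, smul_zero]
    rintro rfl
    exact lt_irrefl _ hxy
  · rw [Matrix.smul_apply, h x y (le_of_eq hxy.symm), Matrix.one_apply]
    by_cases hxy' : x = y
    · rw [if_pos hxy', if_pos hxy', smul_eq_mul, inv_mul_cancel₀ ht0]
    · rw [if_neg hxy', if_neg hxy', smul_zero]

theorem comm_cancel {M N : Matrix (Fin n) (Fin n) F} (h : M * (1 + N) = (1 + N) * M) :
    M * N = N * M := by
  rw [Matrix.mul_add, Matrix.add_mul, Matrix.mul_one, Matrix.one_mul] at h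
  exact add_left_cancel h

/-! ### the Heisenberg radical -/

theorem bH_of_zero {i : Fin n} (h : i.val = 0) : bH n i = 0 := by
  unfold bH; rw [if_pos h]

theorem bH_of_last {i : Fin n} (h0 : i.val ≠ 0) (h : i.val + 1 = n) : bH n i = 2 := by
  unfold bH; rw [if_neg h0, if_pos h]

theorem bH_of_mid {i : Fin n} (h0 : i.val ≠ 0) (h : i.val + 1 ≠ n) : bH n i = 1 := by
  unfold bH; rw [if_neg h0, if_neg h]

/-- the elements of the Heisenberg radical used below -/
theorem exists_bH_elt (hs : Herm σ) (hn : 2 ≤ n) {o : Fin n} (ho : o.val = 0) {b : Fin n}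
    (hb0 : b.val ≠ 0) (hb1 : b.val + 1 ≠ n) (c : F) :
    ∃ (d : F) (u : UJ n σ), u ∈ uniU n σ (bH n) ∧
      mat u = 1 + (Matrix.single o b c - Matrix.single (Fin.rev b) (Fin.rev o) (σ c)
        + Matrix.single o (Fin.rev o) d) := by
  have hb2 := b.2
  have hro : (Fin.rev o).val = n - 1 := by rw [Fin.val_rev, ho]
  have hrb : (Fin.rev b).val = n - (b.val + 1) := Fin.val_rev b
  have e0 : bH n o = 0 := bH_of_zero ho
  have e1 : bH n b = 1 := bH_of_mid hb0 hb1
  have e2 : bH n (Fin.rev o) = 2 := bH_of_last (by omega) (by omega)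
  have e3 : bH n (Fin.rev b) = 1 := bH_of_mid (by omega) (by omega)
  by_cases hm : 2 * b.val + 1 = n
  · obtain ⟨d, hd⟩ := hs.exists_Q c
    refine ⟨d, Q σ o b c d, Q_mem_uniU hs.invol hm (by omega) hd (by omega) (by omega), ?_⟩
    rw [mat_Q hs.invol hm (by omega) hd]
    unfold Qm
    rw [rev_eq_self hm]
  · have hg : Gen o b := ⟨by omega, by omega, by omega, hm⟩
    refine ⟨0, X σ o b c, X_mem_uniU hs.invol hg c (by omega) (by omega), ?_⟩
    rw [mat_X hs.invol hg]
    unfold Xm
    rw [Matrix.single_zero, add_zero]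

/-- the centralizer of the Heisenberg radical -/
theorem cent_bH (hs : Herm σ) (hn : 2 ≤ n) {o : Fin n} (ho : o.val = 0) {g : UJ n σ}
    (hg : ∀ a ∈ uniU n σ (bH n), g * a = a * g) :
    ∀ x y, ¬ (x = o ∧ y = Fin.rev o) → mat g x y = if x = y then mat g o o else 0 := by
  have hro : (Fin.rev o).val = n - 1 := by rw [Fin.val_rev, ho]
  have hol : o ≠ Fin.rev o := fun h => by have := congrArg Fin.val h; omega
  have e0 : bH n o = 0 := bH_of_zero ho
  have e2 : bH n (Fin.rev o) = 2 := bH_of_last (by omega) (by omega)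
  -- the long root element
  obtain ⟨e, he0, he⟩ := hs.exists_skew
  have hL := congrArg mat (hg _ (L_mem_uniU (σ := σ) (i := o) (by omega) he (by omega)))
  rw [map_mul, map_mul, mat_L (by omega) he] at hL
  have hL' := comm_cancel hL
  have hLe : ∀ x y, (if y = Fin.rev o then mat g x o * e else 0)
      = (if x = o then e * mat g (Fin.rev o) y else 0) := by
    intro x y
    have := congrFun (congrFun hL' x) y
    rwa [mul_single_apply', single_mul_apply'] at this
  have c1 : ∀ x, x ≠ o → mat g x o = 0 := by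
    intro x hx
    have := hLe x (Fin.rev o)
    rw [if_pos rfl, if_neg hx] at this
    exact (mul_eq_zero.1 this).resolve_right he0
  have c2 : ∀ y, y ≠ Fin.rev o → mat g (Fin.rev o) y = 0 := by
    intro y hy
    have := hLe o y
    rw [if_neg hy, if_pos rfl] at this
    exact (mul_eq_zero.1 this.symm).resolve_left he0
  have c3 : mat g o o = mat g (Fin.rev o) (Fin.rev o) := by
    have := hLe o (Fin.rev o)
    rw [if_pos rfl, if_pos rfl, mul_comm] at this
    exact mul_left_cancel₀ he0 this
  -- the other root elements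
  have key : ∀ b : Fin n, b.val ≠ 0 → b.val + 1 ≠ n → ∀ c : F,
      (∀ y, y ≠ Fin.rev o → c * mat g b y = if y = b then mat g o o * c else 0) ∧
      -(mat g o (Fin.rev b) * σ c) = c * mat g b (Fin.rev o) := by
    intro b hb0 hb1 c
    have hbo : b ≠ o := fun h => hb0 (by rw [h, ho])
    have hbl : b ≠ Fin.rev o := fun h => hb1 (by rw [h, hro]; omega)
    have hrbl : o ≠ Fin.rev b := fun h => hbl (by rw [h, Fin.rev_rev])
    obtain ⟨d, u, hu, hum⟩ := exists_bH_elt hs hn ho hb0 hb1 c
    have hc := congrArg mat (hg u hu)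
    rw [map_mul, map_mul, hum] at hc
    have hc' := comm_cancel hc
    have hent : ∀ x y, (if y = b then mat g x o * c else 0)
        - (if y = Fin.rev o then mat g x (Fin.rev b) * σ c else 0)
        + (if y = Fin.rev o then mat g x o * d else 0)
        = (if x = o then c * mat g b y else 0)
        - (if x = Fin.rev b then σ c * mat g (Fin.rev o) y else 0)
        + (if x = o then d * mat g (Fin.rev o) y else 0) := by
      intro x y
      have := congrFun (congrFun hc' x) y
      rwa [Matrix.mul_add, Matrix.mul_sub, Matrix.add_mul, Matrix.sub_mul, Matrix.add_apply,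
        Matrix.sub_apply, Matrix.add_apply, Matrix.sub_apply, mul_single_apply',
        mul_single_apply', mul_single_apply', single_mul_apply', single_mul_apply',
        single_mul_apply'] at this
    constructor
    · intro y hy
      have := hent o y
      rw [if_neg hy, if_neg hy, if_pos rfl, if_neg hrbl, if_pos rfl, c2 y hy, mul_zero, sub_zero,
        sub_zero, add_zero, add_zero] at this
      exact this.symm
    · have := hent o (Fin.rev o)
      rw [if_neg (fun h => hbl h.symm), if_pos rfl, if_pos rfl, if_pos rfl, if_neg hrbl,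
        if_pos rfl, zero_sub, sub_zero, ← c3, mul_comm d] at this
      exact add_right_cancel this
  have key1 : ∀ b : Fin n, b.val ≠ 0 → b.val + 1 ≠ n →
      ∀ y, y ≠ Fin.rev o → mat g b y = if y = b then mat g o o else 0 := by
    intro b hb0 hb1 y hy
    have := (key b hb0 hb1 1).1 y hy
    rwa [one_mul, mul_one] at this
  have key2 : ∀ b : Fin n, b.val ≠ 0 → b.val + 1 ≠ n →
      mat g o (Fin.rev b) = 0 ∧ mat g b (Fin.rev o) = 0 := by
    intro b hb0 hb1
    have h1 := (key b hb0 hb1 1).2
    rw [map_one, mul_one, one_mul] at h1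
    obtain ⟨c₁, hc₁⟩ := hs.nonfix
    have h2 := (key b hb0 hb1 c₁).2
    rw [← h1] at h2
    have h3 : (c₁ - σ c₁) * mat g o (Fin.rev b) = 0 := by linear_combination h2
    have h4 : mat g o (Fin.rev b) = 0 :=
      (mul_eq_zero.1 h3).resolve_left (fun h => hc₁ (sub_eq_zero.1 h).symm)
    exact ⟨h4, by rw [← h1, h4, neg_zero]⟩
  intro x y hxy
  by_cases hx0 : x.val = 0
  · have hxo : x = o := Fin.ext (by rw [hx0, ho])
    subst hxo
    have hy : y ≠ Fin.rev x := fun h => hxy ⟨rfl, h⟩
    by_cases hyx : x = y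
    · subst hyx; rw [if_pos rfl]
    · rw [if_neg hyx]
      have hy0 : y.val ≠ 0 := fun h => hyx (Fin.ext (by rw [h, ho]))
      have hy1 : y.val + 1 ≠ n := fun h => hy (Fin.ext (by rw [hro]; omega))
      have hy2 := y.2
      have := (key2 (Fin.rev y) (by rw [Fin.val_rev]; omega) (by rw [Fin.val_rev]; omega)).1
      rwa [Fin.rev_rev] at this
  · by_cases hx1 : x.val + 1 = n
    · have hxl : x = Fin.rev o := Fin.ext (by rw [hro]; omega)
      subst hxl
      by_cases hy : Fin.rev o = y
      · subst hy; rw [if_pos rfl, c3]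
      · rw [if_neg hy, c2 y (fun h => hy h.symm)]
    · by_cases hy : y = Fin.rev o
      · subst hy
        rw [(key2 x hx0 hx1).2, if_neg]
        intro h
        exact hx1 (by rw [h, hro]; omega)
      · rw [key1 x hx0 hx1 y hy]
        by_cases hyx : y = x
        · rw [if_pos hyx, if_pos hyx.symm]
        · rw [if_neg hyx, if_neg (fun h => hyx h.symm)]

theorem cent_bH_mem (hs : Herm σ) (hn : 2 ≤ n) {g : UJ n σ}
    (hg : ∀ a ∈ uniU n σ (bH n), g * a = a * g) :
    ∃ z ∈ Subgroup.center (UJ n σ), z * g ∈ uniU n σ (bH n) := by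
  obtain ⟨o, ho⟩ : ∃ o : Fin n, o.val = 0 := ⟨⟨0, by omega⟩, rfl⟩
  have hro : (Fin.rev o).val = n - 1 := by rw [Fin.val_rev, ho]
  have h := cent_bH hs hn ho hg
  refine cent_finish (bH_mono n) (t := mat g o o) ?_ o ?_
  · intro x y hxy
    apply h
    rintro ⟨rfl, rfl⟩
    rw [bH_of_zero ho, bH_of_last (by omega) (by omega)] at hxy
    omega
  · intro x
    rw [bH_of_zero ho]
    exact Nat.zero_le _

/-- the centre of the unitriangular group consists of long root elements -/
theorem center_uniU (hs : Herm σ) (hn : 2 ≤ n) {o : Fin n} (ho : o.val = 0) {z : UJ n σ}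
    (hz : z ∈ uniU n σ (vl n)) (hc : ∀ u ∈ uniU n σ (vl n), u * z = z * u) :
    ∃ c : F, c + σ c = 0 ∧ z = L σ o c := by
  have hro : (Fin.rev o).val = n - 1 := by rw [Fin.val_rev, ho]
  have hol : o ≠ Fin.rev o := fun h => by have := congrArg Fin.val h; omega
  have h := cent_bH hs hn ho (g := z)
    (fun a ha => (hc a (uniG_le_of_mono mat (vl_inj n) (bH_mono n) ha)).symm)
  have hz1 : mat z o o = 1 := (mem_uniU_vl.1 hz).2 o
  have hm : mat z = Lm o (mat z o (Fin.rev o)) := by
    ext x y
    unfold Lm
    rw [Matrix.add_apply, Matrix.single_apply, Matrix.one_apply]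
    by_cases hxy : x = o ∧ y = Fin.rev o
    · obtain ⟨rfl, rfl⟩ := hxy
      rw [if_neg hol, if_pos ⟨rfl, rfl⟩, zero_add]
    · rw [h x y hxy, hz1,
        if_neg (show ¬ (o = x ∧ Fin.rev o = y) from fun h' => hxy ⟨h'.1.symm, h'.2.symm⟩),
        add_zero]
  have hv : ValidU σ (Lm o (mat z o (Fin.rev o))) := by rw [← hm]; exact valid_mat z
  have hsk : mat z o (Fin.rev o) + σ (mat z o (Fin.rev o)) = 0 := by
    have h1 := hv.2
    unfold Lm at h1
    rw [adj_add, adj_one, adj_single, Fin.rev_rev, Matrix.add_mul, Matrix.one_mul, Matrix.mul_add,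
      Matrix.mul_one, Matrix.single_mul_single_of_ne _ _ _ _ (fun h' : Fin.rev o = o => hol h'.symm), add_zero]
      at h1
    have h2 := congrFun (congrFun h1 o) (Fin.rev o)
    rw [Matrix.add_apply, Matrix.add_apply, Matrix.one_apply_ne hol, Matrix.single_apply_same,
      Matrix.single_apply_same, zero_add] at h2
    exact h2
  exact ⟨mat z o (Fin.rev o), hsk, mat_injective (by rw [mat_L (by omega) hsk]; exact hm)⟩

/-! ### the Siegel radical -/

theorem bS_of_low {i : Fin n} (h : 2 * i.val + 1 < n) : bS n i = 0 := by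
  unfold bS; rw [if_pos h]

theorem bS_of_mid {i : Fin n} (h : 2 * i.val + 1 = n) : bS n i = 1 := by
  unfold bS; rw [if_neg (by omega), if_pos h]

theorem bS_of_high {i : Fin n} (h : n < 2 * i.val + 1) : bS n i = 2 := by
  unfold bS; rw [if_neg (by omega), if_neg (by omega)]

/-- the centralizer of the Siegel radical -/
theorem cent_bS_mem (hs : Herm σ) (hn : 4 ≤ n) {g : UJ n σ}
    (hg : ∀ a ∈ uniU n σ (bS n), g * a = a * g) :
    ∃ z ∈ Subgroup.center (UJ n σ), z * g ∈ uniU n σ (bS n) := by
  obtain ⟨o, ho⟩ : ∃ o : Fin n, o.val = 0 := ⟨⟨0, by omega⟩, rfl⟩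
  obtain ⟨o1, ho1⟩ : ∃ o : Fin n, o.val = 1 := ⟨⟨1, by omega⟩, rfl⟩
  obtain ⟨e, he0, he⟩ := hs.exists_skew
  -- long root elements
  have c1 : ∀ a : Fin n, 2 * a.val + 1 < n →
      (∀ x, x ≠ a → mat g x a = 0) ∧ (∀ y, y ≠ Fin.rev a → mat g (Fin.rev a) y = 0) ∧
      mat g a a = mat g (Fin.rev a) (Fin.rev a) := by
    intro a ha
    have hra : (Fin.rev a).val = n - (a.val + 1) := Fin.val_rev a
    have hL := congrArg mat (hg _ (L_mem_uniU (σ := σ) (i := a) (by omega) he
      (by rw [bS_of_low ha, bS_of_high (by omega)]; omega)))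
    rw [map_mul, map_mul, mat_L (by omega) he] at hL
    have hL' := comm_cancel hL
    have hLe : ∀ x y, (if y = Fin.rev a then mat g x a * e else 0)
        = (if x = a then e * mat g (Fin.rev a) y else 0) := by
      intro x y
      have := congrFun (congrFun hL' x) y
      rwa [mul_single_apply', single_mul_apply'] at this
    refine ⟨fun x hx => ?_, fun y hy => ?_, ?_⟩
    · have := hLe x (Fin.rev a)
      rw [if_pos rfl, if_neg hx] at this
      exact (mul_eq_zero.1 this).resolve_right he0
    · have := hLe a y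
      rw [if_neg hy, if_pos rfl] at this
      exact (mul_eq_zero.1 this.symm).resolve_left he0
    · have := hLe a (Fin.rev a)
      rw [if_pos rfl, if_pos rfl, mul_comm] at this
      exact mul_left_cancel₀ he0 this
  -- short root elements
  have c2 : ∀ a b : Fin n, 2 * a.val + 1 < n → 2 * b.val + 1 < n → a ≠ b →
      mat g a a = mat g b b := by
    intro a b ha hb hab
    have hra : (Fin.rev a).val = n - (a.val + 1) := Fin.val_rev a
    have hrb : (Fin.rev b).val = n - (b.val + 1) := Fin.val_rev b
    have hab' : a.val ≠ b.val := fun h => hab (Fin.ext h)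
    have hgen : Gen a (Fin.rev b) := Gen.rev_right ⟨hab', by omega, by omega, by omega⟩
    have hX := congrArg mat (hg _ (X_mem_uniU (σ := σ) hs.invol hgen 1
      (by rw [bS_of_low ha, bS_of_high (by omega)]; omega)
      (by rw [Fin.rev_rev, bS_of_low hb, bS_of_high (by omega)]; omega)))
    rw [map_mul, map_mul, mat_X hs.invol hgen] at hX
    have hX' := comm_cancel hX
    have := congrFun (congrFun hX' a) (Fin.rev b)
    rw [Matrix.mul_sub, Matrix.sub_mul, Matrix.sub_apply, Matrix.sub_apply, mul_single_apply',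
      mul_single_apply', single_mul_apply', single_mul_apply', Fin.rev_rev, if_pos rfl,
      if_neg (fun h => hab (Fin.rev_injective h).symm), if_pos rfl, if_neg hab, sub_zero, sub_zero,
      mul_one, one_mul] at this
    rw [this, (c1 b hb).2.2]
  -- conclusion
  have hlow : ∀ a : Fin n, 2 * a.val + 1 < n → mat g a a = mat g o o := by
    intro a ha
    by_cases hao : a = o
    · rw [hao]
    · exact c2 a o ha (by omega) hao
  -- the middle row
  have c3 : ∀ m : Fin n, 2 * m.val + 1 = n → ∀ y, y ≠ Fin.rev o →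
      mat g m y = if y = m then mat g o o else 0 := by
    intro m hm y hy
    obtain ⟨d, hd⟩ := hs.exists_Q 1
    have hro : (Fin.rev o).val = n - 1 := by rw [Fin.val_rev, ho]
    have hQ := congrArg mat (hg _ (Q_mem_uniU (σ := σ) (i := o) hs.invol hm (by omega) hd
      (by rw [bS_of_low (by omega), bS_of_mid hm]; omega)
      (by rw [bS_of_mid hm, bS_of_high (by omega)]; omega)))
    rw [map_mul, map_mul, mat_Q hs.invol hm (by omega) hd] at hQ
    have hQ' := comm_cancel hQ
    have hom : o ≠ m := fun h => by have := congrArg Fin.val h; omega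
    have := congrFun (congrFun hQ' o) y
    rw [Matrix.mul_add, Matrix.mul_sub, Matrix.add_mul, Matrix.sub_mul, Matrix.add_apply,
      Matrix.sub_apply, Matrix.add_apply, Matrix.sub_apply, mul_single_apply',
      mul_single_apply', mul_single_apply', single_mul_apply', single_mul_apply',
      single_mul_apply', if_neg hy, if_neg hy, if_pos rfl, if_neg hom, if_pos rfl,
      (c1 o (by omega)).2.1 y hy, mul_zero, sub_zero, sub_zero, add_zero, add_zero, one_mul] at this
    rw [← this]
    by_cases hym : y = m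
    · rw [if_pos hym, if_pos hym, mul_one]
    · rw [if_neg hym, if_neg hym]
  refine cent_finish (bS_mono n) (t := mat g o o) ?_ o ?_
  · intro x y hxy
    have hx2 := x.2
    have hy2 := y.2
    rcases lt_trichotomy (2 * x.val + 1) n with hx | hx | hx
    · -- low row
      rw [bS_of_low hx] at hxy
      have hy : 2 * y.val + 1 < n := by
        by_contra hcon
        rcases lt_or_eq_of_le (not_lt.1 hcon) with h | h
        · rw [bS_of_high h] at hxy; omega
        · rw [bS_of_mid h.symm] at hxy; omega
      by_cases hxy' : x = y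
      · subst hxy'
        rw [if_pos rfl, hlow x hx]
      · rw [if_neg hxy', (c1 y hy).1 x hxy']
    · -- middle row
      rw [bS_of_mid hx] at hxy
      have hro : (Fin.rev o).val = n - 1 := by rw [Fin.val_rev, ho]
      have hy : 2 * y.val + 1 ≤ n := by
        by_contra hcon
        rw [bS_of_high (not_le.1 hcon)] at hxy; omega
      have hyl : y ≠ Fin.rev o := fun h => by rw [h, hro] at hy; omega
      rw [c3 x hx y hyl]
      by_cases hxy' : x = y
      · rw [if_pos hxy', if_pos hxy'.symm]
      · rw [if_neg hxy', if_neg (fun h => hxy' h.symm)]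
    · -- high row
      have hrx : (Fin.rev x).val = n - (x.val + 1) := Fin.val_rev x
      have hlo : 2 * (Fin.rev x).val + 1 < n := by omega
      have h1 := c1 (Fin.rev x) hlo
      rw [Fin.rev_rev] at h1
      by_cases hxy' : x = y
      · subst hxy'
        rw [if_pos rfl, ← h1.2.2, hlow _ hlo]
      · rw [if_neg hxy', h1.2.1 y (fun h => hxy' h.symm)]
  · intro x
    rw [bS_of_low (by omega)]
    exact Nat.zero_le _

end Cfsg.Agent.Lib.Helper86.Un
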