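import Mathlib
import Cfsg.Agent.Lib.Helper86.UnGrp

set_option autoImplicit false
set_option linter.style.haveILetI false
set_option linter.unusedSectionVars false
set_option linter.dupNamespace false
set_option linter.unusedVariables false
set_option linter.unusedSimpArgs false

/-! # The unitriangular subgroup is generated by the positive root elements -/

namespace Cfsg.Agent.Lib.Helper86.Un

open Matrix Cfsg.Agent.Lib.Helper86.TriGen

variable {F : Type*} [Field F] {σ : F →+* F} {n : ℕ}

theorem mul_Lm_apply (M : Matrix (Fin n) (Fin n) F) (i : Fin n) (c : F) (z w : Fin n) :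
    (M * Lm i c) z w = M z w + (if w = Fin.rev i then M z i * c else 0) := by
  unfold Lm
  rw [Matrix.mul_add, Matrix.mul_one, Matrix.add_apply, mul_single_apply']

theorem mul_Xm_apply (M : Matrix (Fin n) (Fin n) F) (i j : Fin n) (c : F) (z w : Fin n) :
    (M * Xm σ i j c) z w = M z w + ((if w = j then M z i * c else 0)
      - (if w = Fin.rev i then M z (Fin.rev j) * σ c else 0)) := by
  unfold Xm
  rw [Matrix.mul_add, Matrix.mul_one, Matrix.add_apply, Matrix.mul_sub, Matrix.sub_apply,
    mul_single_apply', mul_single_apply']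

theorem mul_Qm_apply (M : Matrix (Fin n) (Fin n) F) (i m : Fin n) (c d : F) (z w : Fin n) :
    (M * Qm σ i m c d) z w = M z w + ((if w = m then M z i * c else 0)
      - (if w = Fin.rev i then M z m * σ c else 0) + (if w = Fin.rev i then M z i * d else 0)) := by
  unfold Qm
  rw [Matrix.mul_add, Matrix.mul_one, Matrix.add_apply, Matrix.mul_add, Matrix.mul_sub,
    Matrix.add_apply, Matrix.sub_apply, mul_single_apply', mul_single_apply', mul_single_apply']

/-- the first `j` columns are trivial -/
def Triv (j : ℕ) (u : UJ n σ) : Prop :=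
  ∀ x y : Fin n, y.val < j → mat u x y = (1 : Matrix (Fin n) (Fin n) F) x y

/-- if the first `j` columns are trivial then so are the last `j` rows -/
theorem rows_triv (hσ : ∀ x, σ (σ x) = x) {j : ℕ} {u : UJ n σ} (h : Triv j u) :
    ∀ x y : Fin n, n ≤ x.val + j → mat u x y = (1 : Matrix (Fin n) (Fin n) F) x y := by
  have hV : ∀ x y : Fin n, y.val < j →
      adj σ (mat u) x y = (1 : Matrix (Fin n) (Fin n) F) x y := by
    intro x y hy
    have h1 := congrFun (congrFun (valid_mat u).2 x) y
    rw [Matrix.mul_apply, Finset.sum_eq_single y] at h1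
    · rw [h y y hy, Matrix.one_apply_eq, mul_one] at h1
      exact h1
    · intro z _ hz
      rw [h z y hy, Matrix.one_apply_ne hz, mul_zero]
    · intro h'; exact absurd (Finset.mem_univ _) h'
  intro x y hx
  have hx2 := x.2
  have h1 := hV (Fin.rev y) (Fin.rev x) (by rw [Fin.val_rev]; omega)
  rw [adj_apply, Fin.rev_rev, Fin.rev_rev] at h1
  have h2 := congrArg σ h1
  rw [hσ] at h2
  rw [h2, Matrix.one_apply, Matrix.one_apply]
  by_cases hxy : x = y
  · subst hxy; rw [if_pos rfl, if_pos rfl, map_one]
  · rw [if_neg hxy, if_neg (fun h' => hxy (Fin.rev_injective h').symm), map_zero]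

theorem clear_aux (hs : Herm σ) (W : Subgroup (UJ n σ))
    (hL : ∀ a : Fin n, 2 * a.val + 1 < n → ∀ e : F, e + σ e = 0 → L σ a e ∈ W)
    (hX : ∀ a b : Fin n, a.val < b.val → a.val + b.val + 1 < n → 2 * b.val + 1 ≠ n →
      ∀ c : F, X σ a b c ∈ W)
    (hQ : ∀ a m : Fin n, 2 * m.val + 1 = n → a.val < m.val →
      ∀ c d : F, d + σ d + c * σ c = 0 → Q σ a m c d ∈ W) :
    ∀ d j x₀ : ℕ, j ≤ n → x₀ ≤ n → (n - j) * (n + 1) + (n - x₀) = d →
      ∀ u ∈ uniU n σ (vl n), Triv j u →
        (∀ x y : Fin n, y.val = j → x.val < x₀ → mat u x y = (1 : Matrix (Fin n) (Fin n) F) x y) →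
        u ∈ W := by
  intro d
  induction d using Nat.strong_induction_on with
  | _ d ih =>
  intro j x₀ hj hx₀ hd u hu htriv hcol
  rcases Nat.lt_or_ge j n with hjn | hjn
  swap
  · -- all columns are trivial
    have h1 : u = 1 := by
      apply mat_injective
      rw [map_one]
      ext x y
      exact htriv x y (by have := y.2; omega)
    rw [h1]
    exact W.one_mem
  rcases Nat.lt_or_ge x₀ n with hxn | hxn
  swap
  · -- the column `j` is trivial
    have hx₀n : x₀ = n := by omega
    refine ih _ ?_ (j + 1) 0 (by omega) (by omega) rfl u hu ?_ ?_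
    · rw [← hd, hx₀n]
      have e1 : n - j = (n - (j + 1)) + 1 := by omega
      rw [e1, Nat.add_mul]
      omega
    · intro x y hy
      rcases Nat.lt_or_ge y.val j with h | h
      · exact htriv x y h
      · exact hcol x y (by omega) (by have := x.2; omega)
    · intro x y _ hx
      omega
  -- the entry `(x₀, j)`
  set y : Fin n := ⟨j, hjn⟩ with hy
  set x : Fin n := ⟨x₀, hxn⟩ with hx
  have hmeas : (n - j) * (n + 1) + (n - (x₀ + 1)) < d := by omega
  by_cases h0 : mat u x y = (1 : Matrix (Fin n) (Fin n) F) x y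
  · refine ih _ hmeas j (x₀ + 1) hj (by omega) rfl u hu htriv ?_
    intro x' y' hy' hx'
    have hyy : y' = y := Fin.ext hy'
    rcases Nat.lt_or_ge x'.val x₀ with h | h
    · exact hcol x' y' hy' h
    · have hxx : x' = x := Fin.ext (by show x'.val = x₀; omega)
      rw [hyy, hxx]
      exact h0
  have hU := mem_uniU_vl.1 hu
  have hxj : x₀ < j := by
    by_contra hcon
    rcases Nat.lt_or_ge j x₀ with h | h
    · apply h0
      rw [hU.1 (show vl n y < vl n x from h), Matrix.one_apply_ne]
      intro h'
      have := congrArg Fin.val h'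
      simp only [hx, hy] at this
      omega
    · have hxy : x = y := Fin.ext (by show x₀ = j; omega)
      apply h0
      rw [hxy, hU.2, Matrix.one_apply_eq]
  have hxy : x ≠ y := fun h' => by
    have := congrArg Fin.val h'
    simp only [hx, hy] at this
    omega
  have hrows := rows_triv hs.invol htriv
  have hxjn : x₀ + j < n := by
    by_contra hcon
    exact h0 (hrows x y (by show n ≤ x₀ + j; omega))
  have hcolx : ∀ z : Fin n, mat u z x = (1 : Matrix (Fin n) (Fin n) F) z x :=
    fun z => htriv z x hxj
  set c : F := mat u x y with hc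
  have hrx : (Fin.rev x).val = n - (x₀ + 1) := Fin.val_rev x
  have hry : (Fin.rev y).val = n - (j + 1) := Fin.val_rev y
  -- the root element clearing the entry
  have hρ : ∃ ρ : UJ n σ, ρ ∈ W ∧ ρ ∈ uniU n σ (vl n) ∧ ∀ (M : Matrix (Fin n) (Fin n) F)
      (z w : Fin n), w.val ≤ j →
        (M * mat ρ) z w = M z w + (if w = y then M z x * (-c) else 0) := by
    by_cases hA : x₀ + j + 1 = n
    · -- long root
      have hrxy : Fin.rev x = y := Fin.ext (by rw [hrx]; show n - (x₀ + 1) = j; omega)
      have hcs : c + σ c = 0 := by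
        have hz : ∀ z : Fin n, z ≠ x → z ≠ y → mat u z y = 0 := by
          intro z hzx hzy
          rcases Nat.lt_or_ge z.val x₀ with h | h
          · rw [hcol z y rfl h, Matrix.one_apply_ne hzy]
          · have hne : z.val ≠ x₀ := fun h' => hzx (Fin.ext h')
            rw [hrows z y (by omega), Matrix.one_apply_ne hzy]
        have hryx : Fin.rev y = x := by rw [← hrxy, Fin.rev_rev]
        have h1 := congrFun (congrFun (valid_mat u).2 x) y
        rw [Matrix.mul_apply, Matrix.one_apply_ne hxy,
          Finset.sum_eq_add x y hxy (fun z _ hz' => by rw [hz z hz'.1 hz'.2, mul_zero])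
            (fun h' => absurd (Finset.mem_univ _) h') (fun h' => absurd (Finset.mem_univ _) h'),
          adj_apply, adj_apply, hrxy, hryx, hU.2 y, map_one, one_mul, mul_one, ← hc] at h1
        linear_combination h1
      have hcs' : -c + σ (-c) = 0 := by rw [map_neg]; linear_combination -hcs
      refine ⟨L σ x (-c), hL x (by show 2 * x₀ + 1 < n; omega) _ hcs',
        L_mem_uniU (by show 2 * x₀ + 1 ≠ n; omega) hcs'
          (by unfold vl; rw [hrx]; show x₀ < n - (x₀ + 1); omega), ?_⟩
      intro M z w hw
      rw [mat_L (by show 2 * x₀ + 1 ≠ n; omega) hcs', mul_Lm_apply, hrxy]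
    · by_cases hB : 2 * j + 1 = n
      · obtain ⟨d', hd'⟩ := hs.exists_Q (-c)
        have hxyv : x.val ≠ y.val := by show x₀ ≠ j; omega
        refine ⟨Q σ x y (-c) d', hQ x y hB hxj _ _ hd',
          Q_mem_uniU hs.invol hB hxyv hd' (by unfold vl; exact hxj)
            (by unfold vl; rw [hrx]; show j < n - (x₀ + 1); omega), ?_⟩
        intro M z w hw
        have hwr : w ≠ Fin.rev x := fun h' => by
          have := congrArg Fin.val h'
          rw [hrx] at this
          omega
        rw [mat_Q hs.invol hB hxyv hd', mul_Qm_apply, if_neg hwr, if_neg hwr, sub_zero, add_zero]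
      · have hg : Gen x y := ⟨by show x₀ ≠ j; omega, by show x₀ + j + 1 ≠ n; omega,
          by show 2 * x₀ + 1 ≠ n; omega, hB⟩
        refine ⟨X σ x y (-c), hX x y hxj (by show x₀ + j + 1 < n; omega) hB _,
          X_mem_uniU hs.invol hg _ (by unfold vl; exact hxj)
            (by unfold vl; rw [hrx, hry]; omega), ?_⟩
        intro M z w hw
        have hwr : w ≠ Fin.rev x := fun h' => by
          have := congrArg Fin.val h'
          rw [hrx] at this
          omega
        rw [mat_X hs.invol hg, mul_Xm_apply, if_neg hwr, sub_zero]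
  obtain ⟨ρ, hρW, hρU, hρm⟩ := hρ
  have hu' : u * ρ ∈ W := by
    refine ih _ hmeas j (x₀ + 1) hj (by omega) rfl (u * ρ) (mul_mem hu hρU) ?_ ?_
    · intro z w hw
      rw [map_mul, hρm _ z w (le_of_lt hw), if_neg, add_zero]
      · exact htriv z w hw
      · intro h'
        have := congrArg Fin.val h'
        simp only [hy] at this
        omega
    · intro z w hw hz
      have hwy : w = y := Fin.ext hw
      rw [map_mul, hρm _ z w (le_of_eq hw), if_pos hwy, hwy, hcolx z]
      rcases Nat.lt_or_ge z.val x₀ with h | h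
      · have hzx : z ≠ x := fun h' => by
          have := congrArg Fin.val h'
          simp only [hx] at this
          omega
        rw [hcol z y rfl h, Matrix.one_apply_ne hzx, zero_mul, add_zero]
      · have hzx : z = x := Fin.ext (by show z.val = x₀; omega)
        rw [hzx, Matrix.one_apply_eq, Matrix.one_apply_ne hxy, one_mul, ← hc, add_neg_cancel]
  have e : u = u * ρ * ρ⁻¹ := by group
  rw [e]
  exact W.mul_mem hu' (W.inv_mem hρW)

/-- a subgroup containing all positive root elements contains the unitriangular group -/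
theorem uni_le_of_roots (hs : Herm σ) (W : Subgroup (UJ n σ))
    (hL : ∀ a : Fin n, 2 * a.val + 1 < n → ∀ e : F, e + σ e = 0 → L σ a e ∈ W)
    (hX : ∀ a b : Fin n, a.val < b.val → a.val + b.val + 1 < n → 2 * b.val + 1 ≠ n →
      ∀ c : F, X σ a b c ∈ W)
    (hQ : ∀ a m : Fin n, 2 * m.val + 1 = n → a.val < m.val →
      ∀ c d : F, d + σ d + c * σ c = 0 → Q σ a m c d ∈ W) :
    uniU n σ (vl n) ≤ W := by
  intro u hu
  refine clear_aux hs W hL hX hQ _ 0 0 (Nat.zero_le _) (Nat.zero_le _) rfl u hu ?_ ?_
  · intro x y hy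
    omega
  · intro x y _ hx
    omega

end Cfsg.Agent.Lib.Helper86.Un
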