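import Mathlib
import Cfsg.Agent.Lib.Helper86.UnCent
import Cfsg.Agent.Lib.Helper86.UnClear
import Cfsg.Agent.Lib.Helper53.PGroups

set_option autoImplicit false
set_option linter.style.haveILetI false
set_option linter.unusedSectionVars false
set_option linter.dupNamespace false
set_option linter.unusedVariables false
set_option linter.unusedSimpArgs false

/-! # Strongly closed subgroups of the unitriangular subgroup of the special unitary group -/

namespace Cfsg.Agent.Lib.Helper86.Un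

open Matrix Cfsg.Agent.Lib.Helper86.TriGen

variable {F : Type*} [Field F] {σ : F →+* F} {n : ℕ}

theorem rev_ne_mid {b : Fin n} (h : 2 * b.val + 1 ≠ n) : 2 * (Fin.rev b).val + 1 ≠ n := by
  have := b.2
  rw [Fin.val_rev]
  omega

theorem skew_neg {d : F} (hd : d + σ d = 0) : -d + σ (-d) = 0 := by
  rw [map_neg]; linear_combination -hd

theorem skew_norm_mul (hσ : ∀ x, σ (σ x) = x) (c : F) {d : F} (hd : d + σ d = 0) :
    c * σ c * d + σ (c * σ c * d) = 0 := by
  rw [map_mul, map_mul, hσ]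
  linear_combination (c * σ c) * hd

/-! ### the conjugation formulas in the group -/

theorem conjA_grp (hs : Herm σ) {a b : Fin n} (hg : Gen a b) (c : F) {d : F}
    (hd : d + σ d = 0) :
    X σ a b c * L σ b d * (X σ a b c)⁻¹
      = L σ b d * X σ a (Fin.rev b) (c * d) * L σ a (c * σ c * d) := by
  rw [X_inv hs.invol hg]
  unfold X L
  rw [ofMat_mul3 (valid_Xm hs.invol hg c) (valid_Lm hg.2.2.2 hd) (valid_Xm hs.invol hg (-c)),
    ofMat_mul3 (valid_Lm hg.2.2.2 hd) (valid_Xm hs.invol hg.rev_right (c * d))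
      (valid_Lm hg.2.2.1 (skew_norm_mul hs.invol c hd)),
    conjA hg c d (skew_iff.1 hd)]

theorem polar_grp (hs : Herm σ) {a b : Fin n} (hg : Gen a b) (c : F) {d : F}
    (hd : d + σ d = 0) :
    X σ a (Fin.rev b) ((c + 1) * d) * L σ a ((c + 1) * σ (c + 1) * d)
        * (L σ a (-(c * σ c * d)) * X σ a (Fin.rev b) (-(c * d)))
        * (L σ a (-d) * X σ a (Fin.rev b) (-d))
      = L σ a ((c + σ c) * d) := by
  have v1 := valid_Xm hs.invol hg.rev_right ((c + 1) * d)
  have v2 := valid_Lm (σ := σ) hg.2.2.1 (skew_norm_mul hs.invol (c + 1) hd)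
  have v3 := valid_Lm (σ := σ) hg.2.2.1 (skew_neg (skew_norm_mul hs.invol c hd))
  have v4 := valid_Xm hs.invol hg.rev_right (-(c * d))
  have v5 := valid_Lm (σ := σ) hg.2.2.1 (skew_neg hd)
  have v6 := valid_Xm hs.invol hg.rev_right (-d)
  unfold X L
  rw [ofMat_mul v1 v2, ofMat_mul v3 v4, ofMat_mul v5 v6,
    ofMat_mul (valid_mul v1 v2) (valid_mul v3 v4),
    ofMat_mul (valid_mul (valid_mul v1 v2) (valid_mul v3 v4)) (valid_mul v5 v6),
    polar hg c d (skew_iff.1 hd)]

theorem conjC_grp (hs : Herm σ) {a b : Fin n} (hg : Gen a b) (s : F) {e : F}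
    (he : e + σ e = 0) :
    L σ (Fin.rev b) e * X σ a (Fin.rev b) s * (L σ (Fin.rev b) e)⁻¹
      = X σ a (Fin.rev b) s * X σ a b (-(s * e)) * L σ a (s * σ s * e) := by
  rw [L_inv (rev_ne_mid hg.2.2.2) he]
  unfold X L
  rw [ofMat_mul3 (valid_Lm (rev_ne_mid hg.2.2.2) he) (valid_Xm hs.invol hg.rev_right s)
      (valid_Lm (rev_ne_mid hg.2.2.2) (skew_neg he)),
    ofMat_mul3 (valid_Xm hs.invol hg.rev_right s) (valid_Xm hs.invol hg (-(s * e)))
      (valid_Lm hg.2.2.1 (skew_norm_mul hs.invol s he)),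
    conjC hg s e (skew_iff.1 he)]

theorem conjD_grp (hs : Herm σ) {a a' m : Fin n} (hg : Gen a a') (hm : 2 * m.val + 1 = n)
    (t c d : F) (hq : d + σ d + c * σ c = 0) :
    X σ a a' t * Q σ a' m c d * (X σ a a' t)⁻¹
      = Q σ a' m c d * Q σ a m (t * c) (t * σ t * d) * X σ a (Fin.rev a') (t * d) := by
  have ha : a.val ≠ m.val := by have := hg.2.2.1; omega
  have ha' : a'.val ≠ m.val := by have := hg.2.2.2; omega
  have hq' : t * σ t * d + σ (t * σ t * d) + t * c * σ (t * c) = 0 := by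
    rw [map_mul, map_mul, map_mul, hs.invol]
    linear_combination (t * σ t) * hq
  rw [X_inv hs.invol hg]
  unfold X Q
  rw [ofMat_mul3 (valid_Xm hs.invol hg t) (valid_Qm hs.invol hm ha' hq)
      (valid_Xm hs.invol hg (-t)),
    ofMat_mul3 (valid_Qm hs.invol hm ha' hq) (valid_Qm hs.invol hm ha hq')
      (valid_Xm hs.invol hg.rev_right (t * d)),
    conjD hg hm t c d hq]

/-! ### membership of the positive root elements in the unitriangular group -/

theorem L_mem_U {a : Fin n} (ha : 2 * a.val + 1 < n) {e : F} (he : e + σ e = 0) :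
    L σ a e ∈ uniU n σ (vl n) :=
  L_mem_uniU (by omega) he (by unfold vl; rw [Fin.val_rev]; omega)

theorem X_mem_U (hσ : ∀ x, σ (σ x) = x) {a b : Fin n} (hg : Gen a b) (hab : a.val < b.val)
    (c : F) : X σ a b c ∈ uniU n σ (vl n) := by
  have := b.2
  exact X_mem_uniU hσ hg c (by unfold vl; exact hab)
    (by unfold vl; rw [Fin.val_rev, Fin.val_rev]; omega)

theorem Q_mem_U (hσ : ∀ x, σ (σ x) = x) {a m : Fin n} (hm : 2 * m.val + 1 = n)
    (ha : a.val < m.val) {c d : F} (hq : d + σ d + c * σ c = 0) :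
    Q σ a m c d ∈ uniU n σ (vl n) :=
  Q_mem_uniU hσ hm (by omega) hq (by unfold vl; exact ha) (by unfold vl; rw [Fin.val_rev]; omega)

/-! ### strongly closed subgroups -/

section Closed

variable (hs : Herm σ) (T : Subgroup (UJ n σ))
  (hcl : ∀ x ∈ T, ∀ g : UJ n σ, g * x * g⁻¹ ∈ uniU n σ (vl n) → g * x * g⁻¹ ∈ T)

include hs hcl

theorem uniU_le_normalizer (hTU : T ≤ uniU n σ (vl n)) :
    uniU n σ (vl n) ≤ Subgroup.normalizer (T : Set (UJ n σ)) := by
  intro u hu
  rw [Subgroup.mem_normalizer_iff]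
  intro x
  constructor
  · intro hx
    exact hcl x hx u (mul_mem (mul_mem hu (hTU hx)) (inv_mem hu))
  · intro hx
    have h1 : u⁻¹ * (u * x * u⁻¹) * u⁻¹⁻¹ = x := by group
    have h2 := hcl _ hx u⁻¹ (by
      rw [h1]
      have h3 : x = u⁻¹ * (u * x * u⁻¹) * u := by group
      rw [h3]
      exact mul_mem (mul_mem (inv_mem hu) (hTU hx)) hu)
    rwa [h1] at h2

/-- from one long root element to the others, and to the short root elements of the Siegel
radical -/
theorem lemA {a b : Fin n} (ha : 2 * a.val + 1 < n) (hb : 2 * b.val + 1 < n)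
    (hab : a.val ≠ b.val) {d : F} (hd0 : d ≠ 0) (hd : d + σ d = 0) (hbT : L σ b d ∈ T) :
    (∀ e : F, e + σ e = 0 → L σ a e ∈ T) ∧ (∀ s : F, X σ a (Fin.rev b) s ∈ T) := by
  have hg : Gen a b := ⟨hab, by omega, by omega, by omega⟩
  have hb2 := b.2
  have hXU : ∀ s : F, X σ a (Fin.rev b) s ∈ uniU n σ (vl n) := fun s =>
    X_mem_U hs.invol hg.rev_right (by rw [Fin.val_rev]; omega) s
  have hP : ∀ c : F, X σ a (Fin.rev b) (c * d) * L σ a (c * σ c * d) ∈ T := by
    intro c
    have h1 := conjA_grp hs hg c hd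
    have hU : L σ b d * X σ a (Fin.rev b) (c * d) * L σ a (c * σ c * d) ∈ uniU n σ (vl n) :=
      mul_mem (mul_mem (L_mem_U hb hd) (hXU _)) (L_mem_U ha (skew_norm_mul hs.invol c hd))
    have h2 := hcl _ hbT (X σ a b c) (by rw [h1]; exact hU)
    rw [h1] at h2
    have h3 := T.mul_mem (T.inv_mem hbT) h2
    have e : (L σ b d)⁻¹ * (L σ b d * X σ a (Fin.rev b) (c * d) * L σ a (c * σ c * d))
        = X σ a (Fin.rev b) (c * d) * L σ a (c * σ c * d) := by group
    rwa [e] at h3
  have hPinv : ∀ c : F, L σ a (-(c * σ c * d)) * X σ a (Fin.rev b) (-(c * d)) ∈ T := by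
    intro c
    have h := T.inv_mem (hP c)
    rwa [_root_.mul_inv_rev, L_inv (by omega) (skew_norm_mul hs.invol c hd),
      X_inv hs.invol hg.rev_right] at h
  have hLa : ∀ c : F, L σ a ((c + σ c) * d) ∈ T := by
    intro c
    rw [← polar_grp hs hg c hd]
    have h1 := hPinv 1
    simp only [one_mul, map_one] at h1
    exact T.mul_mem (T.mul_mem (hP (c + 1)) (hPinv c)) h1
  have hL : ∀ e : F, e + σ e = 0 → L σ a e ∈ T := by
    intro e he
    have hfix : σ (e / d) = e / d := by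
      rw [map_div₀, skew_iff.1 he, skew_iff.1 hd, neg_div_neg_eq]
    obtain ⟨c, hc⟩ := hs.trace _ hfix
    have := hLa c
    rwa [hc, div_mul_cancel₀ _ hd0] at this
  refine ⟨hL, fun s => ?_⟩
  have h1 := hP (s / d)
  have h2 := hL _ (skew_norm_mul hs.invol (s / d) hd)
  have h3 := T.mul_mem h1 (T.inv_mem h2)
  rw [mul_inv_cancel_right, div_mul_cancel₀ _ hd0] at h3
  exact h3

/-- a nontrivial strongly closed subgroup of the unitriangular subgroup is the whole
unitriangular subgroup -/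
theorem eq_uniU_of_closed [Fintype F] (p : ℕ) [Fact p.Prime] [CharP F p] (hn : 4 ≤ n)
    (hTU : T ≤ uniU n σ (vl n)) (hT : T ≠ ⊥) : T = uniU n σ (vl n) := by
  apply le_antisymm hTU
  obtain ⟨o, ho⟩ : ∃ o : Fin n, o.val = 0 := ⟨⟨0, by omega⟩, rfl⟩
  obtain ⟨o1, ho1⟩ : ∃ o : Fin n, o.val = 1 := ⟨⟨1, by omega⟩, rfl⟩
  obtain ⟨ε, hε0, hε⟩ := hs.exists_skew
  -- a long root element in `T`
  obtain ⟨w, hwT, hw1, hwc⟩ := Cfsg.Agent.Lib.Helper53.exists_mem_center_of_normal_subgroup
    (uniU_isPGroup (n := n) (σ := σ) p) hTU (uniU_le_normalizer hs T hcl hTU) hT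
  obtain ⟨c₀, hc₀, rfl⟩ := center_uniU hs (by omega) ho (hTU hwT) hwc
  have hc₀0 : c₀ ≠ 0 := by
    rintro rfl
    exact hw1 (L_zero o)
  -- all long root elements
  have hL1 : L σ o1 ε ∈ T :=
    (lemA hs T hcl (a := o1) (b := o) (by omega) (by omega) (by omega) hc₀0 hc₀ hwT).1 ε hε
  have hL : ∀ a : Fin n, 2 * a.val + 1 < n → ∀ e : F, e + σ e = 0 → L σ a e ∈ T := by
    intro a ha e he
    by_cases ha0 : a.val = 0
    · exact (lemA hs T hcl (a := a) (b := o1) ha (by omega) (by omega) hε0 hε hL1).1 e he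
    · exact (lemA hs T hcl (a := a) (b := o) ha (by omega) (by omega) hc₀0 hc₀ hwT).1 e he
  -- the short root elements of the Siegel radical
  have hXA : ∀ a b : Fin n, 2 * a.val + 1 < n → 2 * b.val + 1 < n → a.val ≠ b.val →
      ∀ s : F, X σ a (Fin.rev b) s ∈ T := fun a b ha hb hab s =>
    (lemA hs T hcl ha hb hab hε0 hε (hL b hb ε hε)).2 s
  -- the root elements of the Levi subgroup
  have hXL : ∀ a b : Fin n, 2 * b.val + 1 < n → a.val < b.val → ∀ c : F, X σ a b c ∈ T := by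
    intro a b hb hab c
    have ha : 2 * a.val + 1 < n := by omega
    have hg : Gen a b := ⟨by omega, by omega, by omega, by omega⟩
    have hb2 := b.2
    have h1 := conjC_grp hs hg (-c / ε) hε
    have hxa := hXA a b ha hb (by omega) (-c / ε)
    have hla := hL a ha _ (skew_norm_mul hs.invol (-c / ε) hε)
    have hU : X σ a (Fin.rev b) (-c / ε) * X σ a b (-(-c / ε * ε)) * L σ a (-c / ε * σ (-c / ε) * ε)
        ∈ uniU n σ (vl n) :=
      mul_mem (mul_mem (X_mem_U hs.invol hg.rev_right (by rw [Fin.val_rev]; omega) _)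
        (X_mem_U hs.invol hg hab _)) (L_mem_U ha (skew_norm_mul hs.invol (-c / ε) hε))
    have h2 := hcl _ hxa (L σ (Fin.rev b) ε) (by rw [h1]; exact hU)
    rw [h1] at h2
    have h3 := T.mul_mem (T.mul_mem (T.inv_mem hxa) h2) (T.inv_mem hla)
    have e : (X σ a (Fin.rev b) (-c / ε))⁻¹ * (X σ a (Fin.rev b) (-c / ε) * X σ a b (-(-c / ε * ε))
        * L σ a (-c / ε * σ (-c / ε) * ε)) * (L σ a (-c / ε * σ (-c / ε) * ε))⁻¹
        = X σ a b (-(-c / ε * ε)) := by group
    rw [e] at h3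
    have e2 : -(-c / ε * ε) = c := by rw [div_mul_cancel₀ _ hε0, neg_neg]
    rwa [e2] at h3
  -- the root elements attached to the anisotropic vector
  have hQ1 : ∀ a a' m : Fin n, 2 * m.val + 1 = n → a.val < a'.val → a'.val < m.val →
      ∀ c d : F, d + σ d + c * σ c = 0 → Q σ a m c d ∈ T := by
    intro a a' m hm haa' ha'm c d hq
    have hg : Gen a a' := ⟨by omega, by omega, by omega, by omega⟩
    have h1 := conjD_grp hs hg hm 1 c d hq
    simp only [one_mul, map_one] at h1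
    have hx := hXL a a' (by omega) haa' 1
    have hqU := Q_mem_U (σ := σ) hs.invol hm ha'm hq
    have hxa := hXA a a' (by omega) (by omega) (by omega) d
    have h2 := hcl _ hx (Q σ a' m c d)⁻¹
      (mul_mem (mul_mem (inv_mem hqU) (hTU hx)) (inv_mem (inv_mem hqU)))
    have h3 := T.mul_mem (T.mul_mem h2 (T.inv_mem hx)) (T.inv_mem hxa)
    have e : (Q σ a' m c d)⁻¹ * X σ a a' 1 * (Q σ a' m c d)⁻¹⁻¹ * (X σ a a' 1)⁻¹
        * (X σ a (Fin.rev a') d)⁻¹
        = (Q σ a' m c d)⁻¹ * (X σ a a' 1 * Q σ a' m c d * (X σ a a' 1)⁻¹)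
          * (X σ a (Fin.rev a') d)⁻¹ := by group
    rw [e, h1] at h3
    have e2 : (Q σ a' m c d)⁻¹ * (Q σ a' m c d * Q σ a m c d * X σ a (Fin.rev a') d)
        * (X σ a (Fin.rev a') d)⁻¹ = Q σ a m c d := by group
    rwa [e2] at h3
  have hQ : ∀ a m : Fin n, 2 * m.val + 1 = n → a.val < m.val →
      ∀ c d : F, d + σ d + c * σ c = 0 → Q σ a m c d ∈ T := by
    intro a m hm ham c d hq
    by_cases hlast : a.val + 1 < m.val
    · obtain ⟨a', ha'⟩ : ∃ a' : Fin n, a'.val = a.val + 1 := ⟨⟨a.val + 1, by omega⟩, rfl⟩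
      exact hQ1 a a' m hm (by omega) (by omega) c d hq
    · have hq0 : Q σ o m c d ∈ T := hQ1 o o1 m hm (by omega) (by omega) c d hq
      have hg : Gen a o := ⟨by omega, by omega, by omega, by omega⟩
      have h1 := conjD_grp hs hg hm 1 c d hq
      simp only [one_mul, map_one] at h1
      have hxa := hXA a o (by omega) (by omega) (by omega) d
      have hU : Q σ o m c d * Q σ a m c d * X σ a (Fin.rev o) d ∈ uniU n σ (vl n) :=
        mul_mem (mul_mem (Q_mem_U hs.invol hm (by omega) hq) (Q_mem_U hs.invol hm ham hq))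
          (X_mem_U hs.invol hg.rev_right (by rw [Fin.val_rev]; omega) d)
      have h2 := hcl _ hq0 (X σ a o 1) (by rw [h1]; exact hU)
      rw [h1] at h2
      have h3 := T.mul_mem (T.mul_mem (T.inv_mem hq0) h2) (T.inv_mem hxa)
      have e2 : (Q σ o m c d)⁻¹ * (Q σ o m c d * Q σ a m c d * X σ a (Fin.rev o) d)
          * (X σ a (Fin.rev o) d)⁻¹ = Q σ a m c d := by group
      rwa [e2] at h3
  -- conclusion
  apply uni_le_of_roots hs T hL ?_ hQ
  intro a b hab habn hbm c
  have hb2 := b.2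
  by_cases hb : 2 * b.val + 1 < n
  · exact hXL a b hb hab c
  · have h := hXA a (Fin.rev b) (by omega) (by rw [Fin.val_rev]; omega)
      (by rw [Fin.val_rev]; omega) c
    rwa [Fin.rev_rev] at h

end Closed

end Cfsg.Agent.Lib.Helper86.Un
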