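import Mathlib
import Cfsg.Agent.Lib.Helper86.UnClosed

set_option autoImplicit false
set_option linter.style.haveILetI false
set_option linter.unusedSectionVars false
set_option linter.dupNamespace false
set_option linter.unusedVariables false
set_option linter.unusedSimpArgs false

/-! # Generation of the Borel subgroup of the special unitary group -/

namespace Cfsg.Agent.Lib.Helper86.Un

open Matrix Cfsg.Agent.Lib.Helper86.TriGen

variable {F : Type*} [Field F] {σ : F →+* F} {n : ℕ}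

/-! ### the root elements are `p`-elements -/

theorem embM_pow {r : ℕ} {f : Fin r → Fin n} (hf : Function.Injective f)
    (B : Matrix (Fin r) (Fin r) F) (k : ℕ) : embM f (B ^ k) = embM f B ^ k := by
  induction k with
  | zero => rw [pow_zero, pow_zero, embM_one]
  | succ k ih => rw [pow_succ, pow_succ, embM_mul hf, ih]

theorem mat_pow (g : UJ n σ) (k : ℕ) : mat (g ^ k) = mat g ^ k := map_pow mat g k

theorem L_pow (p : ℕ) [Fact p.Prime] [CharP F p] {i : Fin n} (hi : 2 * i.val + 1 ≠ n) {c : F}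
    (hc : c + σ c = 0) : L σ i c ^ (p ^ 2) = 1 := by
  have h0 : (0 : Fin 2).val = 0 := rfl
  have hu : L σ (0 : Fin 2) c ∈ uniU 2 σ (vl 2) := L_mem_U (by rw [h0]; omega) hc
  have h1 := congrArg mat (uniU_pow_eq_one p hu)
  rw [mat_pow, map_one, mat_L (by rw [h0]; omega) hc] at h1
  apply mat_injective
  have e : Lm i c = embM (f2 i) (Lm (0 : Fin 2) c) := (embM_Lm (f2_sym i) 0 c).symm
  rw [mat_pow, map_one, mat_L hi hc, e, ← embM_pow (f2_inj hi), h1, embM_one]

theorem X_pow (hσ : ∀ x, σ (σ x) = x) (p : ℕ) [Fact p.Prime] [CharP F p] {i j : Fin n}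
    (hg : Gen i j) (c : F) : X σ i j c ^ (p ^ 4) = 1 := by
  have h0 : (0 : Fin 4).val = 0 := rfl
  have h1' : (1 : Fin 4).val = 1 := rfl
  have hg4 : Gen (0 : Fin 4) 1 := ⟨by rw [h0, h1']; omega, by rw [h0, h1']; omega,
    by rw [h0]; omega, by rw [h1']; omega⟩
  have hu : X σ (0 : Fin 4) 1 c ∈ uniU 4 σ (vl 4) := X_mem_U hσ hg4 (by rw [h0, h1']; omega) c
  have h1 := congrArg mat (uniU_pow_eq_one p hu)
  rw [mat_pow, map_one, mat_X hσ hg4] at h1
  apply mat_injective
  have e : Xm σ i j c = embM (f4 i j) (Xm σ (0 : Fin 4) 1 c) := (embM_Xm (f4_sym i j) 0 1 c).symm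
  rw [mat_pow, map_one, mat_X hσ hg, e, ← embM_pow (f4_inj hg), h1, embM_one]

theorem Q_pow (hσ : ∀ x, σ (σ x) = x) (p : ℕ) [Fact p.Prime] [CharP F p] {i m : Fin n}
    (hm : 2 * m.val + 1 = n) (hi : i.val ≠ m.val) {c d : F} (hq : d + σ d + c * σ c = 0) :
    Q σ i m c d ^ (p ^ 3) = 1 := by
  have h0 : (0 : Fin 3).val = 0 := rfl
  have h1' : (1 : Fin 3).val = 1 := rfl
  have hm3 : 2 * (1 : Fin 3).val + 1 = 3 := by rw [h1']
  have hu : Q σ (0 : Fin 3) 1 c d ∈ uniU 3 σ (vl 3) :=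
    Q_mem_U hσ hm3 (by rw [h0, h1']; omega) hq
  have h1 := congrArg mat (uniU_pow_eq_one p hu)
  rw [mat_pow, map_one, mat_Q hσ hm3 (by rw [h0, h1']; omega) hq] at h1
  apply mat_injective
  have e : Qm σ i m c d = embM (f3 i m) (Qm σ (0 : Fin 3) 1 c d) :=
    (embM_Qm (f3_sym i hm) 0 1 c d).symm
  rw [mat_pow, map_one, mat_Q hσ hm hi hq, e, ← embM_pow (f3_inj hm hi), h1, embM_one]

/-! ### torus elements -/

/-- torus element of a short root `SL₂` -/
noncomputable def Hd (σ : F →+* F) {n : ℕ} (i j : Fin n) (t : F) : UJ n σ :=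
  ofMat σ (Hm σ i j t)

/-- torus element of a long root `SL₂` -/
noncomputable def H2 (σ : F →+* F) {n : ℕ} (i : Fin n) (t : F) : UJ n σ :=
  ofMat σ (H2m i t)

/-- torus element of `SU₃` -/
noncomputable def H3 (σ : F →+* F) {n : ℕ} (i m : Fin n) (t : F) : UJ n σ :=
  ofMat σ (H3m σ i m t)

theorem ofMat_mul6 {A B C D E G : Matrix (Fin n) (Fin n) F} (hA : ValidU σ A) (hB : ValidU σ B)
    (hC : ValidU σ C) (hD : ValidU σ D) (hE : ValidU σ E) (hG : ValidU σ G) :
    ofMat σ A * ofMat σ B * ofMat σ C * (ofMat σ D * ofMat σ E * ofMat σ G)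
      = ofMat σ (A * B * C * (D * E * G)) ∧ ValidU σ (A * B * C * (D * E * G)) := by
  have h1 := valid_mul (valid_mul hA hB) hC
  have h2 := valid_mul (valid_mul hD hE) hG
  exact ⟨by rw [ofMat_mul3 hA hB hC, ofMat_mul3 hD hE hG, ofMat_mul h1 h2], valid_mul h1 h2⟩

theorem Hd_eq (hσ : ∀ x, σ (σ x) = x) {i j : Fin n} (hg : Gen i j) {t : F} (ht : t ≠ 0) :
    X σ i j t * X σ j i (-t⁻¹) * X σ i j t * (X σ i j (-1) * X σ j i 1 * X σ i j (-1))
      = Hd σ i j t ∧ ValidU σ (Hm σ i j t) := by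
  have h := ofMat_mul6 (valid_Xm hσ hg t) (valid_Xm hσ hg.symm (-t⁻¹)) (valid_Xm hσ hg t)
    (valid_Xm hσ hg (-1)) (valid_Xm hσ hg.symm 1) (valid_Xm hσ hg (-1))
  rw [torusX hg t ht] at h
  exact h

theorem skew_inv {a : F} (ha : a + σ a = 0) : a⁻¹ + σ a⁻¹ = 0 := by
  rw [map_inv₀, skew_iff.1 ha, inv_neg, add_neg_cancel]

theorem H2_eq {i : Fin n} (hi : 2 * i.val + 1 ≠ n) {a b : F} (ha0 : a ≠ 0) (hb0 : b ≠ 0)
    (ha : a + σ a = 0) (hb : b + σ b = 0) :
    L σ i a * L σ (Fin.rev i) (-a⁻¹) * L σ i a * (L σ i (-b) * L σ (Fin.rev i) b⁻¹ * L σ i (-b))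
      = H2 σ i (a / b) ∧ ValidU σ (H2m i (a / b)) := by
  have h := ofMat_mul6 (valid_Lm hi ha) (valid_Lm (rev_ne_mid hi) (skew_neg (skew_inv ha)))
    (valid_Lm hi ha) (valid_Lm hi (skew_neg hb)) (valid_Lm (rev_ne_mid hi) (skew_inv hb))
    (valid_Lm hi (skew_neg hb))
  rw [torusL hi a b ha0 hb0] at h
  exact h

theorem H3_eq (hσ : ∀ x, σ (σ x) = x) {i m : Fin n} (hm : 2 * m.val + 1 = n)
    (hi : i.val ≠ m.val) {c t c₀ : F} (ht : t ≠ 0)
    (h : t + σ t + c * σ c = 0) (h₀ : 1 + σ 1 + c₀ * σ c₀ = 0) :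
    Q σ i m c t * Q σ (Fin.rev i) m (-c / t) (1 / σ t) * Q σ i m (c * σ t / t) t
        * (Q σ i m c₀ 1 * Q σ (Fin.rev i) m (-c₀ / 1) (1 / σ 1) * Q σ i m (c₀ * σ 1 / 1) 1)
      = H3 σ i m t ∧ ValidU σ (H3m σ i m t) ∧
      (1 / σ t + σ (1 / σ t) + -c / t * σ (-c / t) = 0) ∧
      (t + σ t + c * σ t / t * σ (c * σ t / t) = 0) ∧
      (1 / σ 1 + σ (1 / σ 1) + -c₀ / 1 * σ (-c₀ / 1) = 0) ∧
      ((1 : F) + σ 1 + c₀ * σ 1 / 1 * σ (c₀ * σ 1 / 1) = 0) := by
  have hst : σ t ≠ 0 := (map_ne_zero σ).2 ht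
  have hri : (Fin.rev i).val ≠ m.val := by
    have := i.2
    rw [Fin.val_rev]; omega
  have q2 : ∀ {c t : F}, t ≠ 0 → t + σ t + c * σ c = 0 →
      1 / σ t + σ (1 / σ t) + -c / t * σ (-c / t) = 0 := by
    intro c t ht h
    have hst : σ t ≠ 0 := (map_ne_zero σ).2 ht
    rw [map_div₀, map_div₀, map_one, map_neg, hσ]
    field_simp
    linear_combination h
  have q3 : ∀ {c t : F}, t ≠ 0 → t + σ t + c * σ c = 0 →
      t + σ t + c * σ t / t * σ (c * σ t / t) = 0 := by
    intro c t ht h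
    have hst : σ t ≠ 0 := (map_ne_zero σ).2 ht
    rw [map_div₀, map_mul, hσ]
    field_simp
    linear_combination h
  have h6 := ofMat_mul6 (valid_Qm hσ hm hi h) (valid_Qm hσ hm hri (q2 ht h))
    (valid_Qm hσ hm hi (q3 ht h)) (valid_Qm hσ hm hi h₀) (valid_Qm hσ hm hri (q2 one_ne_zero h₀))
    (valid_Qm hσ hm hi (q3 one_ne_zero h₀))
  rw [torusQ hσ hm hi c t c₀ ht h h₀] at h6
  exact ⟨h6.1, h6.2, q2 ht h, q3 ht h, q2 one_ne_zero h₀, q3 one_ne_zero h₀⟩

/-! ### diagonal matrices -/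

theorem single_diag_apply (a : Fin n) (c : F) (x y : Fin n) (hxy : x ≠ y) :
    Matrix.single a a c x y = 0 := by
  rw [Matrix.single_apply, if_neg]
  rintro ⟨rfl, rfl⟩
  exact hxy rfl

theorem single_diag_same (a : Fin n) (c : F) (x : Fin n) :
    Matrix.single a a c x x = if x = a then c else 0 := by
  rw [Matrix.single_apply]
  by_cases h : x = a
  · rw [if_pos h, if_pos ⟨h.symm, h.symm⟩]
  · rw [if_neg h, if_neg (fun h' => h h'.1.symm)]

theorem Hm_offdiag (i j : Fin n) (t : F) (x y : Fin n) (hxy : x ≠ y) : Hm σ i j t x y = 0 := by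
  unfold Hm
  simp only [Matrix.add_apply, Matrix.one_apply_ne hxy, single_diag_apply _ _ x y hxy, add_zero]

theorem H2m_offdiag (i : Fin n) (t : F) (x y : Fin n) (hxy : x ≠ y) :
    (H2m i t : Matrix (Fin n) (Fin n) F) x y = 0 := by
  unfold H2m
  simp only [Matrix.add_apply, Matrix.one_apply_ne hxy, single_diag_apply _ _ x y hxy, add_zero]

theorem H3m_offdiag (i m : Fin n) (t : F) (x y : Fin n) (hxy : x ≠ y) : H3m σ i m t x y = 0 := by
  unfold H3m
  simp only [Matrix.add_apply, Matrix.one_apply_ne hxy, single_diag_apply _ _ x y hxy, add_zero]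

theorem Hm_diag (i j : Fin n) (t : F) (x : Fin n) :
    Hm σ i j t x x = 1 + ((if x = i then t - 1 else 0) + (if x = j then t⁻¹ - 1 else 0)
      + (if x = Fin.rev j then σ t - 1 else 0) + (if x = Fin.rev i then (σ t)⁻¹ - 1 else 0)) := by
  unfold Hm
  simp only [Matrix.add_apply, Matrix.one_apply_eq, single_diag_same]

theorem H2m_diag (i : Fin n) (t : F) (x : Fin n) :
    (H2m i t : Matrix (Fin n) (Fin n) F) x x
      = 1 + ((if x = i then t - 1 else 0) + (if x = Fin.rev i then t⁻¹ - 1 else 0)) := by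
  unfold H2m
  simp only [Matrix.add_apply, Matrix.one_apply_eq, single_diag_same]

theorem H3m_diag (i m : Fin n) (t : F) (x : Fin n) :
    H3m σ i m t x x = 1 + ((if x = i then t - 1 else 0) + (if x = m then σ t / t - 1 else 0)
      + (if x = Fin.rev i then (σ t)⁻¹ - 1 else 0)) := by
  unfold H3m
  simp only [Matrix.add_apply, Matrix.one_apply_eq, single_diag_same]

theorem mem_triU_of_offdiag {g : UJ n σ} (h : ∀ x y, x ≠ y → mat g x y = 0) (β : Fin n → ℕ) :
    g ∈ triU n σ β := by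
  rw [mem_triG]
  intro x y hxy
  apply h
  rintro rfl
  exact lt_irrefl _ hxy

/-- the diagonal entries of a triangular unitary matrix -/
theorem tri_diag_unitary {b : UJ n σ} (hb : b ∈ triU n σ (vl n)) (a : Fin n) :
    σ (mat b (Fin.rev a) (Fin.rev a)) * mat b a a = 1 := by
  have h1 := congrFun (congrFun (valid_mat b).2 a) a
  rw [Matrix.mul_apply, Matrix.one_apply_eq, Finset.sum_eq_single a] at h1
  · rw [adj_apply] at h1
    exact h1
  · intro z _ hz
    rcases lt_or_gt_of_ne hz with h | h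
    · have h2 : mat b (Fin.rev z) (Fin.rev a) = 0 := by
        apply hb
        unfold vl
        have := a.2
        have hza : z.val < a.val := h
        rw [Fin.val_rev, Fin.val_rev]
        omega
      rw [adj_apply, h2, map_zero, zero_mul]
    · have h2 : mat b z a = 0 := hb (show vl n a < vl n z from h)
      rw [h2, mul_zero]
  · intro h'; exact absurd (Finset.mem_univ _) h'

/-! ### validity of the torus elements -/

theorem mat_Hd (hσ : ∀ x, σ (σ x) = x) {i j : Fin n} (hg : Gen i j) {t : F} (ht : t ≠ 0) :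
    mat (Hd σ i j t) = Hm σ i j t := mat_ofMat (Hd_eq hσ hg ht).2

theorem H2_prod (hs : Herm σ) {i : Fin n} (hi : 2 * i.val + 1 ≠ n) {t : F} (ht : t ≠ 0)
    (hσt : σ t = t) : ∃ a b : F, a + σ a = 0 ∧ b + σ b = 0 ∧
      L σ i a * L σ (Fin.rev i) (-a⁻¹) * L σ i a * (L σ i (-b) * L σ (Fin.rev i) b⁻¹ * L σ i (-b))
        = H2 σ i t ∧ ValidU σ (H2m i t) := by
  obtain ⟨e, he0, he⟩ := hs.exists_skew
  have ha : t * e + σ (t * e) = 0 := by
    rw [map_mul, hσt, skew_iff.1 he]; ring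
  have h := H2_eq hi (mul_ne_zero ht he0) he0 ha he
  rw [mul_div_assoc, div_self he0, mul_one] at h
  exact ⟨t * e, e, ha, he, h⟩

theorem mat_H2 (hs : Herm σ) {i : Fin n} (hi : 2 * i.val + 1 ≠ n) {t : F} (ht : t ≠ 0)
    (hσt : σ t = t) : mat (H2 σ i t) = H2m i t := by
  obtain ⟨a, b, _, _, _, hv⟩ := H2_prod hs hi ht hσt
  exact mat_ofMat hv

theorem H3_prod (hs : Herm σ) {i m : Fin n} (hm : 2 * m.val + 1 = n) (hi : i.val ≠ m.val)
    {t : F} (ht : t ≠ 0) : ∃ c c₀ : F,
      Q σ i m c t * Q σ (Fin.rev i) m (-c / t) (1 / σ t) * Q σ i m (c * σ t / t) t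
        * (Q σ i m c₀ 1 * Q σ (Fin.rev i) m (-c₀ / 1) (1 / σ 1) * Q σ i m (c₀ * σ 1 / 1) 1)
      = H3 σ i m t ∧ ValidU σ (H3m σ i m t) ∧
      (t + σ t + c * σ c = 0) ∧
      (1 / σ t + σ (1 / σ t) + -c / t * σ (-c / t) = 0) ∧
      (t + σ t + c * σ t / t * σ (c * σ t / t) = 0) ∧
      ((1 : F) + σ 1 + c₀ * σ c₀ = 0) ∧
      (1 / σ 1 + σ (1 / σ 1) + -c₀ / 1 * σ (-c₀ / 1) = 0) ∧
      ((1 : F) + σ 1 + c₀ * σ 1 / 1 * σ (c₀ * σ 1 / 1) = 0) := by
  obtain ⟨c, hc⟩ := hs.norm (-(t + σ t)) (by rw [map_neg, map_add, hs.invol]; ring)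
  obtain ⟨c₀, hc₀⟩ := hs.norm (-(1 + σ 1)) (by rw [map_neg, map_add, hs.invol]; ring)
  have h : t + σ t + c * σ c = 0 := by rw [hc]; ring
  have h₀ : (1 : F) + σ 1 + c₀ * σ c₀ = 0 := by rw [hc₀]; ring
  obtain ⟨e1, e2, e3, e4, e5, e6⟩ := H3_eq hs.invol hm hi ht h h₀
  exact ⟨c, c₀, e1, e2, h, e3, e4, h₀, e5, e6⟩

theorem mat_H3 (hs : Herm σ) {i m : Fin n} (hm : 2 * m.val + 1 = n) (hi : i.val ≠ m.val)
    {t : F} (ht : t ≠ 0) : mat (H3 σ i m t) = H3m σ i m t := by
  obtain ⟨c, c₀, _, hv, _⟩ := H3_prod hs hm hi ht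
  exact mat_ofMat hv

/-! ### generation of the Borel subgroup -/

theorem inv_mul_diag {h b : UJ n σ} (hh : h ∈ triU n σ (vl n)) (hb : b ∈ triU n σ (vl n))
    (x : Fin n) : mat (h⁻¹ * b) x x = (mat h x x)⁻¹ * mat b x x := by
  rw [tri_mul_diag mat (vl_inj n) (inv_mem hh) hb,
    eq_inv_of_mul_eq_one_right (tri_inv_diag mat (vl_inj n) hh x)]

theorem det_diag {b : UJ n σ} (hb : b ∈ triU n σ (vl n)) : ∏ i, mat b i i = 1 := by
  have h := (valid_mat b).1
  rw [Matrix.det_of_isUpperTriangular (fun i j hij => hb (show vl n j < vl n i from hij))] at h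
  exact h

theorem diag_rev_one {b : UJ n σ} (hb : b ∈ triU n σ (vl n)) (a : Fin n)
    (h : mat b a a = 1) : mat b (Fin.rev a) (Fin.rev a) = 1 := by
  have h1 := tri_diag_unitary hb a
  rw [h, mul_one] at h1
  exact σ.injective (by rw [h1, map_one])

theorem low_diag_one {b : UJ n σ} (hb : b ∈ triU n σ (vl n))
    (hlow : ∀ a : Fin n, 2 * a.val + 1 < n → mat b a a = 1) : b ∈ uniU n σ (vl n) := by
  rw [mem_uniU_vl]
  have hhigh : ∀ a : Fin n, n < 2 * a.val + 1 → mat b a a = 1 := by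
    intro a ha
    have ha2 := a.2
    have h := diag_rev_one hb (Fin.rev a) (hlow _ (by rw [Fin.val_rev]; omega))
    rw [Fin.rev_rev] at h
    exact h
  refine ⟨hb, fun x => ?_⟩
  rcases lt_trichotomy (2 * x.val + 1) n with h | h | h
  · exact hlow x h
  · have hd := det_diag hb
    rw [Finset.prod_eq_single x (fun c _ hc => ?_) (fun h' => absurd (Finset.mem_univ _) h')]
      at hd
    · exact hd
    · rcases lt_trichotomy (2 * c.val + 1) n with h' | h' | h'
      · exact hlow c h'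
      · exfalso; apply hc; apply Fin.ext; omega
      · exact hhigh c h'
  · exact hhigh x h

theorem tri_le_of_torus (hs : Herm σ) (hn : 2 ≤ n) (W : Subgroup (UJ n σ))
    (hU : uniU n σ (vl n) ≤ W)
    (hH : ∀ i j : Fin n, i.val < j.val → 2 * j.val + 1 < n → ∀ t : F, t ≠ 0 → Hd σ i j t ∈ W)
    (hH2 : ∀ i : Fin n, 2 * i.val + 2 = n → ∀ t : F, t ≠ 0 → σ t = t → H2 σ i t ∈ W)
    (hH3 : ∀ i m : Fin n, 2 * m.val + 1 = n → i.val + 1 = m.val → ∀ t : F, t ≠ 0 →
      H3 σ i m t ∈ W) :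
    triU n σ (vl n) ≤ W := by
  obtain ⟨ℓ, hℓ⟩ : ∃ ℓ : Fin n, ℓ.val = n / 2 - 1 := ⟨⟨n / 2 - 1, by omega⟩, rfl⟩
  have hrl : (Fin.rev ℓ).val = n - (ℓ.val + 1) := Fin.val_rev ℓ
  have key : ∀ k : ℕ, k ≤ ℓ.val → ∀ b ∈ triU n σ (vl n),
      (∀ a : Fin n, k ≤ a.val → a.val < ℓ.val → mat b a a = 1) → b ∈ W := by
    intro k
    induction k with
    | zero =>
      intro _ b hb h1
      have h1' : ∀ a : Fin n, a.val < ℓ.val → mat b a a = 1 := fun a ha => h1 a (Nat.zero_le _) ha
      set t := mat b ℓ ℓ with ht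
      have ht0 : t ≠ 0 := tri_diag_ne_zero mat (vl_inj n) hb ℓ
      by_cases hpar : 2 * ℓ.val + 2 = n
      · -- even
        have hne : ℓ ≠ Fin.rev ℓ := by
          intro h; have := congrArg Fin.val h; omega
        have hpe : ∏ i, mat b i i = mat b ℓ ℓ * mat b (Fin.rev ℓ) (Fin.rev ℓ) := by
          refine Finset.prod_eq_mul ℓ (Fin.rev ℓ) hne (fun c _ hc => ?_)
            (fun h => absurd (Finset.mem_univ _) h) (fun h => absurd (Finset.mem_univ _) h)
          have hc2 := c.2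
          by_cases hcl : c.val < ℓ.val
          · exact h1' c hcl
          · have hc1 : c.val ≠ ℓ.val := fun h => hc.1 (Fin.ext h)
            have hc3 : c.val ≠ (Fin.rev ℓ).val := fun h => hc.2 (Fin.ext h)
            have h := diag_rev_one hb (Fin.rev c) (h1' _ (by rw [Fin.val_rev]; omega))
            rw [Fin.rev_rev] at h
            exact h
        have hd := det_diag hb
        rw [hpe, ← ht] at hd
        have hu := tri_diag_unitary hb ℓ
        rw [← ht, eq_inv_of_mul_eq_one_right hd, map_inv₀, inv_mul_eq_one₀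
          ((map_ne_zero σ).2 ht0)] at hu
        have hi : 2 * ℓ.val + 1 ≠ n := by omega
        have hHW := hH2 ℓ hpar t ht0 hu
        have hmat := mat_H2 hs hi ht0 hu
        have hHtri : H2 σ ℓ t ∈ triU n σ (vl n) :=
          mem_triU_of_offdiag (fun x y hxy => by rw [hmat]; exact H2m_offdiag ℓ t x y hxy) _
        have hb' : (H2 σ ℓ t)⁻¹ * b ∈ uniU n σ (vl n) := by
          apply low_diag_one (mul_mem (inv_mem hHtri) hb)
          intro a ha
          rw [inv_mul_diag hHtri hb, hmat, H2m_diag]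
          by_cases hal : a = ℓ
          · rw [hal, if_pos rfl, if_neg hne, ← ht, add_zero, add_sub_cancel, inv_mul_cancel₀ ht0]
          · have hal' : a.val < ℓ.val := by
              have : a.val ≠ ℓ.val := fun h => hal (Fin.ext h)
              omega
            rw [if_neg hal, if_neg (fun h => by have := congrArg Fin.val h; omega), add_zero,
              add_zero, inv_one, one_mul, h1' a hal']
        have hbe : b = H2 σ ℓ t * ((H2 σ ℓ t)⁻¹ * b) := by rw [mul_inv_cancel_left]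
        rw [hbe]
        exact W.mul_mem hHW (hU hb')
      · -- odd
        have hpar' : 2 * ℓ.val + 3 = n := by omega
        obtain ⟨m, hm⟩ : ∃ m : Fin n, m.val = ℓ.val + 1 := ⟨⟨ℓ.val + 1, by omega⟩, rfl⟩
        have hm2 : 2 * m.val + 1 = n := by omega
        have hi : ℓ.val ≠ m.val := by omega
        have hHW := hH3 ℓ m hm2 hm.symm t ht0
        have hmat := mat_H3 hs hm2 hi ht0
        have hHtri : H3 σ ℓ m t ∈ triU n σ (vl n) :=
          mem_triU_of_offdiag (fun x y hxy => by rw [hmat]; exact H3m_offdiag ℓ m t x y hxy) _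
        have hb' : (H3 σ ℓ m t)⁻¹ * b ∈ uniU n σ (vl n) := by
          apply low_diag_one (mul_mem (inv_mem hHtri) hb)
          intro a ha
          rw [inv_mul_diag hHtri hb, hmat, H3m_diag]
          by_cases hal : a = ℓ
          · rw [hal, if_pos rfl, if_neg (fun h => by have := congrArg Fin.val h; omega),
              if_neg (fun h => by have := congrArg Fin.val h; omega), ← ht, add_zero, add_zero,
              add_sub_cancel, inv_mul_cancel₀ ht0]
          · have hal' : a.val < ℓ.val := by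
              have : a.val ≠ ℓ.val := fun h => hal (Fin.ext h)
              omega
            rw [if_neg hal, if_neg (fun h => by have := congrArg Fin.val h; omega),
              if_neg (fun h => by have := congrArg Fin.val h; omega), add_zero,
              add_zero, add_zero, inv_one, one_mul, h1' a hal']
        have hbe : b = H3 σ ℓ m t * ((H3 σ ℓ m t)⁻¹ * b) := by rw [mul_inv_cancel_left]
        rw [hbe]
        exact W.mul_mem hHW (hU hb')
    | succ k ih =>
      intro hk b hb h1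
      obtain ⟨a₀, ha₀⟩ : ∃ a₀ : Fin n, a₀.val = k := ⟨⟨k, by omega⟩, rfl⟩
      set t := mat b a₀ a₀ with ht
      have ht0 : t ≠ 0 := tri_diag_ne_zero mat (vl_inj n) hb a₀
      have hg : Gen a₀ ℓ := ⟨by omega, by omega, by omega, by omega⟩
      have hHW := hH a₀ ℓ (by omega) (by omega) t ht0
      have hmat := mat_Hd hs.invol hg ht0
      have hHtri : Hd σ a₀ ℓ t ∈ triU n σ (vl n) :=
        mem_triU_of_offdiag (fun x y hxy => by rw [hmat]; exact Hm_offdiag a₀ ℓ t x y hxy) _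
      have hra : (Fin.rev a₀).val = n - (a₀.val + 1) := Fin.val_rev a₀
      have hb' : (Hd σ a₀ ℓ t)⁻¹ * b ∈ W := by
        apply ih (by omega) _ (mul_mem (inv_mem hHtri) hb)
        intro a hka hal
        rw [inv_mul_diag hHtri hb, hmat, Hm_diag]
        by_cases haa : a = a₀
        · rw [haa, if_pos rfl, if_neg (fun h => by have := congrArg Fin.val h; omega),
            if_neg (fun h => by have := congrArg Fin.val h; omega),
            if_neg (fun h => by have := congrArg Fin.val h; omega), ← ht, add_zero, add_zero,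
            add_zero, add_sub_cancel, inv_mul_cancel₀ ht0]
        · have haa' : k + 1 ≤ a.val := by
            have : a.val ≠ a₀.val := fun h => haa (Fin.ext h)
            omega
          rw [if_neg haa, if_neg (fun h => by have := congrArg Fin.val h; omega),
            if_neg (fun h => by have := congrArg Fin.val h; omega),
            if_neg (fun h => by have := congrArg Fin.val h; omega), add_zero, add_zero, add_zero,
            add_zero, inv_one, one_mul, h1 a haa' hal]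
      have hbe : b = Hd σ a₀ ℓ t * ((Hd σ a₀ ℓ t)⁻¹ * b) := by rw [mul_inv_cancel_left]
      rw [hbe]
      exact W.mul_mem hHW hb'
  intro b hb
  exact key ℓ.val le_rfl b hb (fun a h1 h2 => absurd h2 (not_lt.2 h1))

end Cfsg.Agent.Lib.Helper86.Un
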