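import Mathlib
import Cfsg.Prelude.Def_Classical
import Cfsg.Agent.Lib.Helper45.HermSigma
import Cfsg.Agent.Lib.Helper45.HermCenter
import Cfsg.Agent.Lib.Helper13.HermBasis
import Cfsg.Agent.Lib.Helper86.UnTorus

set_option autoImplicit false
set_option linter.style.haveILetI false
set_option linter.unusedSectionVars false
set_option linter.dupNamespace false
set_option linter.unusedVariables false
set_option linter.unusedSimpArgs false

/-! # Base change between the standard and the antidiagonal hermitian form -/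

namespace Cfsg.Agent.Lib.Helper86.Un

open Matrix Cfsg.Agent.Lib.Helper86.TriGen

section Base

variable {F : Type*} [Field F] {σ : F →+* F} {n : ℕ}

/-- the antidiagonal permutation matrix -/
def Jm (F : Type*) [Field F] (n : ℕ) : Matrix (Fin n) (Fin n) F :=
  Matrix.of fun x y => if x = Fin.rev y then 1 else 0

theorem Jm_apply (x y : Fin n) : Jm F n x y = if x = Fin.rev y then 1 else 0 := rfl

theorem mul_Jm_apply (A : Matrix (Fin n) (Fin n) F) (x y : Fin n) :
    (A * Jm F n) x y = A x (Fin.rev y) := by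
  rw [Matrix.mul_apply, Finset.sum_eq_single (Fin.rev y)]
  · rw [Jm_apply, if_pos rfl, mul_one]
  · intro k _ hk; rw [Jm_apply, if_neg hk, mul_zero]
  · intro h; exact absurd (Finset.mem_univ _) h

theorem Jm_mul_apply (A : Matrix (Fin n) (Fin n) F) (x y : Fin n) :
    (Jm F n * A) x y = A (Fin.rev x) y := by
  rw [Matrix.mul_apply, Finset.sum_eq_single (Fin.rev x)]
  · rw [Jm_apply, Fin.rev_rev, if_pos rfl, one_mul]
  · intro k _ hk
    rw [Jm_apply, if_neg (fun h => hk (by rw [h, Fin.rev_rev])), zero_mul]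
  · intro h; exact absurd (Finset.mem_univ _) h

theorem Jm_mul_Jm : Jm F n * Jm F n = 1 := by
  ext x y
  rw [Jm_mul_apply, Jm_apply, Matrix.one_apply]
  by_cases h : x = y
  · rw [if_pos h, if_pos (by rw [h])]
  · rw [if_neg h, if_neg (fun h' => h (Fin.rev_injective h'))]

theorem adj_Jm : adj σ (Jm F n) = Jm F n := by
  ext x y
  rw [adj_apply, Jm_apply, Jm_apply, Fin.rev_rev]
  by_cases h : x = Fin.rev y
  · rw [if_pos h, if_pos h.symm, map_one]
  · rw [if_neg h, if_neg (fun h' => h h'.symm), map_zero]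

theorem adjJ_apply (M : Matrix (Fin n) (Fin n) F) (x y : Fin n) :
    (adj σ M * Jm F n * M) x y = (Mᵀ * M.map σ) y (Fin.rev x) := by
  rw [Matrix.mul_apply, Matrix.mul_apply]
  apply Finset.sum_congr rfl
  intro k _
  rw [mul_Jm_apply, adj_apply, Fin.rev_rev, Matrix.transpose_apply, Matrix.map_apply, mul_comm]

theorem gram_iff_adjJ (M : Matrix (Fin n) (Fin n) F) :
    Mᵀ * M.map σ = 1 ↔ adj σ M * Jm F n * M = Jm F n := by
  constructor
  · intro h
    ext x y
    rw [adjJ_apply, h, Jm_apply, Matrix.one_apply]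
    by_cases h' : x = Fin.rev y
    · rw [if_pos h', if_pos (by rw [h', Fin.rev_rev])]
    · rw [if_neg h', if_neg (fun h'' => h' (by rw [h'', Fin.rev_rev]))]
  · intro h
    ext y x
    have h1 := adjJ_apply (σ := σ) M (Fin.rev x) y
    rw [Fin.rev_rev, h, Jm_apply] at h1
    rw [← h1, Matrix.one_apply]
    by_cases h' : y = x
    · rw [if_pos h', if_pos (by rw [h'])]
    · rw [if_neg h', if_neg (fun h'' => h' (Fin.rev_injective h'').symm)]

theorem adjJ_conj (hσ : ∀ x, σ (σ x) = x) {P : Matrix (Fin n) (Fin n) F}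
    (hP : adj σ P * Jm F n * P = 1) {M : Matrix (Fin n) (Fin n) F} (hM : adj σ M * M = 1) :
    adj σ (P * M * (adj σ P * Jm F n)) * Jm F n * (P * M * (adj σ P * Jm F n)) = Jm F n := by
  have hP' : P * (adj σ P * Jm F n) = 1 := mul_eq_one_comm.1 hP
  rw [adj_mul, adj_mul, adj_mul, adj_adj hσ, adj_Jm]
  calc Jm F n * P * (adj σ M * adj σ P) * Jm F n * (P * M * (adj σ P * Jm F n))
      = Jm F n * P * adj σ M * (adj σ P * Jm F n * P) * M * (adj σ P * Jm F n) := by
        simp only [Matrix.mul_assoc]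
    _ = Jm F n * (P * (adj σ M * M) * (adj σ P * Jm F n)) := by
        rw [hP, Matrix.mul_one]; simp only [Matrix.mul_assoc]
    _ = Jm F n := by rw [hM, Matrix.mul_one, hP', Matrix.mul_one]

theorem adj_conj_inv (hσ : ∀ x, σ (σ x) = x) {P : Matrix (Fin n) (Fin n) F}
    (hP : adj σ P * Jm F n * P = 1) {M : Matrix (Fin n) (Fin n) F}
    (hM : adj σ M * Jm F n * M = Jm F n) :
    adj σ (adj σ P * Jm F n * M * P) * (adj σ P * Jm F n * M * P) = 1 := by
  have hP' : P * (adj σ P * Jm F n) = 1 := mul_eq_one_comm.1 hP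
  rw [adj_mul, adj_mul, adj_mul, adj_adj hσ, adj_Jm]
  calc adj σ P * (adj σ M * (Jm F n * P)) * (adj σ P * Jm F n * M * P)
      = adj σ P * adj σ M * Jm F n * (P * (adj σ P * Jm F n)) * M * P := by
        simp only [Matrix.mul_assoc]
    _ = adj σ P * (adj σ M * Jm F n * M) * P := by
        rw [hP', Matrix.mul_one]; simp only [Matrix.mul_assoc]
    _ = 1 := by rw [hM]; exact hP

/-! ### the explicit base change matrix -/

theorem adj_diagonal (d : Fin n → F) :
    adj σ (Matrix.diagonal d) = Matrix.diagonal (fun x => σ (d (Fin.rev x))) := by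
  ext x y
  rw [adj_apply, Matrix.diagonal_apply, Matrix.diagonal_apply]
  by_cases h : x = y
  · subst h; rw [if_pos rfl, if_pos rfl]
  · rw [if_neg h, if_neg (fun h' => h (Fin.rev_injective h').symm), map_zero]

theorem Jm_mul_diagonal (d : Fin n → F) :
    Jm F n * Matrix.diagonal d = Matrix.diagonal (fun x => d (Fin.rev x)) * Jm F n := by
  ext x y
  rw [Jm_mul_apply, mul_Jm_apply, Matrix.diagonal_apply, Matrix.diagonal_apply]
  by_cases h : x = Fin.rev y
  · subst h; rw [Fin.rev_rev, if_pos rfl, if_pos rfl]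
  · rw [if_neg h, if_neg (fun h' => h (by rw [← h', Fin.rev_rev]))]

theorem diagJ_mul (a b c d : Fin n → F) :
    (Matrix.diagonal a * Jm F n + Matrix.diagonal b)
        * (Matrix.diagonal c + Jm F n * Matrix.diagonal d)
      = Matrix.diagonal (fun x => a x * c (Fin.rev x) + b x * d (Fin.rev x)) * Jm F n
        + Matrix.diagonal (fun x => a x * d x + b x * c x) := by
  have e1 : Matrix.diagonal a * Jm F n * Matrix.diagonal c
      = Matrix.diagonal (fun x => a x * c (Fin.rev x)) * Jm F n := by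
    rw [Matrix.mul_assoc, Jm_mul_diagonal, ← Matrix.mul_assoc, Matrix.diagonal_mul_diagonal]
  have e2 : Matrix.diagonal a * Jm F n * (Jm F n * Matrix.diagonal d)
      = Matrix.diagonal (fun x => a x * d x) := by
    rw [Matrix.mul_assoc, ← Matrix.mul_assoc (Jm F n), Jm_mul_Jm, Matrix.one_mul,
      Matrix.diagonal_mul_diagonal]
  have e3 : Matrix.diagonal b * (Jm F n * Matrix.diagonal d)
      = Matrix.diagonal (fun x => b x * d (Fin.rev x)) * Jm F n := by
    rw [Jm_mul_diagonal, ← Matrix.mul_assoc, Matrix.diagonal_mul_diagonal]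
  have e4 : Matrix.diagonal (fun x => a x * c (Fin.rev x) + b x * d (Fin.rev x))
      = Matrix.diagonal (fun x => a x * c (Fin.rev x))
        + Matrix.diagonal (fun x => b x * d (Fin.rev x)) := (Matrix.diagonal_add _ _).symm
  have e5 : Matrix.diagonal (fun x => a x * d x + b x * c x)
      = Matrix.diagonal (fun x => a x * d x) + Matrix.diagonal (fun x => b x * c x) :=
    (Matrix.diagonal_add _ _).symm
  rw [Matrix.add_mul, Matrix.mul_add, Matrix.mul_add, e1, e2, e3, Matrix.diagonal_mul_diagonal,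
    e4, e5, Matrix.add_mul]
  abel

/-- diagonal part of the base change matrix -/
def d1 (n : ℕ) (s ζ : F) : Fin n → F := fun x => if 2 * x.val + 1 ≤ n then 1 else s * ζ

/-- antidiagonal part of the base change matrix -/
def d2 (n : ℕ) (s ζ : F) : Fin n → F :=
  fun x => if 2 * x.val + 1 < n then ζ else if 2 * x.val + 1 = n then 0 else s + 1

/-- the base change matrix -/
def Pb (n : ℕ) (s ζ : F) : Matrix (Fin n) (Fin n) F :=
  Matrix.diagonal (d1 n s ζ) + Jm F n * Matrix.diagonal (d2 n s ζ)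

theorem Pb_adjJ (s ζ : F) : adj σ (Pb n s ζ) * Jm F n
    = Matrix.diagonal (fun x => σ (d1 n s ζ (Fin.rev x))) * Jm F n
      + Matrix.diagonal (fun x => σ (d2 n s ζ (Fin.rev x))) := by
  unfold Pb
  rw [adj_add, adj_mul, adj_Jm, adj_diagonal, adj_diagonal, Matrix.add_mul, Matrix.mul_assoc,
    Jm_mul_Jm, Matrix.mul_one]

theorem Pb_unit {s ζ : F} (hζ : ζ * σ ζ = -1) (hs : s + σ s = -1) :
    adj σ (Pb n s ζ) * Jm F n * Pb n s ζ = 1 := by
  rw [Pb_adjJ]
  conv_lhs => rw [Pb]
  rw [diagJ_mul]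
  ext x y
  have hx2 := x.2
  have hr : (Fin.rev x).val = n - (x.val + 1) := Fin.val_rev x
  rw [Matrix.add_apply, mul_Jm_apply, Matrix.diagonal_apply, Matrix.diagonal_apply,
    Matrix.one_apply]
  rcases lt_trichotomy (2 * x.val + 1) n with h | h | h
  · have a1 : d1 n s ζ x = 1 := by unfold d1; rw [if_pos (by omega)]
    have a2 : d2 n s ζ x = ζ := by unfold d2; rw [if_pos h]
    have a3 : d1 n s ζ (Fin.rev x) = s * ζ := by unfold d1; rw [if_neg (by omega)]
    have a4 : d2 n s ζ (Fin.rev x) = s + 1 := by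
      unfold d2; rw [if_neg (by omega), if_neg (by omega)]
    have f0 : σ (d1 n s ζ (Fin.rev x)) * d1 n s ζ (Fin.rev x)
        + σ (d2 n s ζ (Fin.rev x)) * d2 n s ζ (Fin.rev x) = 0 := by
      rw [a3, a4, map_mul, map_add, map_one]
      linear_combination (σ s * s) * hζ + hs
    have g1 : σ (d1 n s ζ (Fin.rev x)) * d2 n s ζ x + σ (d2 n s ζ (Fin.rev x)) * d1 n s ζ x
        = 1 := by
      rw [a1, a2, a3, a4, map_mul, map_add, map_one]
      linear_combination (σ s) * hζ
    rw [f0, g1, ite_self, zero_add]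
  · have hrx : Fin.rev x = x := by apply Fin.ext; omega
    have a1 : d1 n s ζ x = 1 := by unfold d1; rw [if_pos (by omega)]
    have a2 : d2 n s ζ x = 0 := by unfold d2; rw [if_neg (by omega), if_pos h]
    rw [hrx, a1, a2, map_one, map_zero, mul_one, mul_zero, add_zero, mul_zero, zero_mul,
      add_zero, ite_self, add_zero]
    by_cases hxy : x = y
    · rw [if_pos hxy, if_pos (by rw [← hxy, hrx])]
    · rw [if_neg hxy, if_neg (fun h' => hxy (by
        have := congrArg Fin.rev h'
        rw [Fin.rev_rev, hrx] at this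
        exact this))]
  · have a1 : d1 n s ζ x = s * ζ := by unfold d1; rw [if_neg (by omega)]
    have a2 : d2 n s ζ x = s + 1 := by unfold d2; rw [if_neg (by omega), if_neg (by omega)]
    have a3 : d1 n s ζ (Fin.rev x) = 1 := by unfold d1; rw [if_pos (by omega)]
    have a4 : d2 n s ζ (Fin.rev x) = ζ := by unfold d2; rw [if_pos (by omega)]
    have f0 : σ (d1 n s ζ (Fin.rev x)) * d1 n s ζ (Fin.rev x)
        + σ (d2 n s ζ (Fin.rev x)) * d2 n s ζ (Fin.rev x) = 0 := by
      rw [a3, a4, map_one]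
      linear_combination hζ
    have g1 : σ (d1 n s ζ (Fin.rev x)) * d2 n s ζ x + σ (d2 n s ζ (Fin.rev x)) * d1 n s ζ x
        = 1 := by
      rw [a1, a2, a3, a4, map_one]
      linear_combination s * hζ
    rw [f0, g1, ite_self, zero_add]

theorem exists_base (hs : Herm σ) (n : ℕ) :
    ∃ P : Matrix (Fin n) (Fin n) F, adj σ P * Jm F n * P = 1 := by
  obtain ⟨ζ, hζ⟩ := hs.norm (-1) (by rw [map_neg, map_one])
  obtain ⟨s, hs'⟩ := hs.trace (-1) (by rw [map_neg, map_one])
  exact ⟨Pb n s ζ, Pb_unit hζ hs'⟩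

/-- the centre has no `p`-torsion -/
theorem center_pfree (hs : Herm σ) (hn : 2 ≤ n) (p : ℕ) [Fact p.Prime] [CharP F p]
    {z : UJ n σ} (hz : z ∈ Subgroup.center (UJ n σ)) (a : ℕ) (hza : z ^ (p ^ a) = 1) : z = 1 := by
  obtain ⟨o, ho⟩ : ∃ o : Fin n, o.val = 0 := ⟨⟨0, by omega⟩, rfl⟩
  have hro : (Fin.rev o).val = n - 1 := by rw [Fin.val_rev, ho]
  have hol : o ≠ Fin.rev o := fun h => by have := congrArg Fin.val h; omega
  rw [Subgroup.mem_center_iff] at hz
  have h := cent_bH hs hn ho (g := z) (fun a _ => (hz a).symm)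
  obtain ⟨e, he0, he⟩ := hs.exists_skew
  have hi : 2 * (Fin.rev o).val + 1 ≠ n := by omega
  have h1 := congrArg mat (hz (L σ (Fin.rev o) e))
  rw [map_mul, map_mul, mat_L hi he] at h1
  unfold Lm at h1
  have h2 := congrFun (congrFun (comm_cancel h1.symm) o) o
  rw [Fin.rev_rev, mul_single_apply', single_mul_apply', if_pos rfl, if_neg hol] at h2
  have h3 : mat z o (Fin.rev o) = 0 := by
    rcases mul_eq_zero.1 h2 with h' | h'
    · exact h'
    · exact absurd h' he0
  set t := mat z o o with ht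
  have hsc : ∀ x y, mat z x y = if x = y then t else 0 := by
    intro x y
    by_cases hxy : x = o ∧ y = Fin.rev o
    · obtain ⟨rfl, rfl⟩ := hxy
      rw [h3, if_neg hol]
    · exact h x y hxy
  have hpow : ∀ k : ℕ, ∀ x y, mat (z ^ k) x y = if x = y then t ^ k else 0 := by
    intro k
    induction k with
    | zero => intro x y; rw [pow_zero, map_one, Matrix.one_apply, pow_zero]
    | succ k ih =>
      intro x y
      rw [pow_succ, map_mul, Matrix.mul_apply, Finset.sum_eq_single y]
      · rw [ih, hsc y y, if_pos rfl]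
        by_cases hxy : x = y
        · rw [if_pos hxy, if_pos hxy, pow_succ]
        · rw [if_neg hxy, if_neg hxy, zero_mul]
      · intro b _ hb
        rw [hsc b y, if_neg hb, mul_zero]
      · intro h'; exact absurd (Finset.mem_univ _) h'
  have ht1 : t ^ (p ^ a) = 1 := by
    have := hpow (p ^ a) o o
    rw [hza, map_one, Matrix.one_apply_eq, if_pos rfl] at this
    exact this.symm
  have ht' : t = 1 := by
    have h4 : (t - 1) ^ (p ^ a) = 0 := by rw [sub_pow_char_pow, ht1, one_pow, sub_self]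
    exact sub_eq_zero.1
      ((pow_eq_zero_iff (pow_ne_zero _ (Fact.out : p.Prime).ne_zero)).1 h4)
  apply mat_injective
  ext x y
  rw [hsc, ht', map_one, Matrix.one_apply]

end Base

/-! ### the isomorphism with the special unitary group of the standard form -/

section Iso

open Cfsg.Agent.Lib.Helper45

variable {F : Type*} [Field F] [Fintype F] {q : ℕ} {n : ℕ}

theorem herm_sigmaQ (hF : Fintype.card F = q ^ 2) : Herm (sigmaQ hF) := by
  have hinv : ∀ x, sigmaQ hF (sigmaQ hF x) = x := fun x => conj_conj hF x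
  obtain ⟨c, hc, hcc⟩ := exists_norm_one_sq_ne_one hF
  have hnf : sigmaQ hF c ≠ c := by
    intro h
    rw [sigmaQ_apply] at h
    apply hcc
    rw [pow_succ, h] at hc
    exact eq_inv_of_mul_eq_one_left hc
  have hne : sigmaQ hF ≠ RingHom.id F := fun h => hnf (by rw [h]; rfl)
  refine ⟨hinv, ⟨c, hnf⟩, ?_, ?_⟩
  · intro μ hμ
    obtain ⟨w, hw⟩ : ∃ w : F, w + sigmaQ hF w = 1 := by
      by_cases h0 : c + sigmaQ hF c = 0
      · have h2 : (2 : F) ≠ 0 := by
          intro h2
          apply hnf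
          linear_combination h0 - c * h2
        refine ⟨1 / 2, ?_⟩
        rw [map_div₀, map_one, map_ofNat, ← add_div, one_add_one_eq_two, div_self h2]
      · refine ⟨c / (c + sigmaQ hF c), ?_⟩
        rw [map_div₀, map_add, hinv, add_comm (sigmaQ hF c) c, ← add_div, div_self h0]
    refine ⟨μ * w, ?_⟩
    rw [map_mul, hμ, ← mul_add, hw, mul_one]
  · intro μ hμ
    by_cases h0 : μ = 0
    · exact ⟨0, by rw [h0, zero_mul]⟩
    · exact Cfsg.Agent.Lib.Helper13.norm_surj_involution _ hne hinv μ h0 hμ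

variable (hF : Fintype.card F = q ^ 2) (P : Matrix (Fin n) (Fin n) F)
  (hP : adj (sigmaQ hF) P * Jm F n * P = 1)

/-- conjugation by the base change matrix, from the antidiagonal to the standard form -/
noncomputable def toSU : UJ n (sigmaQ hF) →* Cfsg.SU n F q where
  toFun g := ⟨⟨P * mat g * (adj (sigmaQ hF) P * Jm F n), by
      rw [Matrix.det_mul, Matrix.det_mul, mul_right_comm, ← Matrix.det_mul,
        mul_eq_one_comm.1 hP, Matrix.det_one, one_mul]
      exact (valid_mat g).1⟩,
    (isHermIso_iff_gram hF _).2 ((gram_iff_adjJ _).2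
      (adjJ_conj (fun x => conj_conj hF x) hP (valid_mat g).2))⟩
  map_one' := by
    apply Subtype.ext; apply Subtype.ext
    show P * mat (1 : UJ n (sigmaQ hF)) * (adj (sigmaQ hF) P * Jm F n) = 1
    rw [map_one, Matrix.mul_one, mul_eq_one_comm.1 hP]
  map_mul' a b := by
    apply Subtype.ext; apply Subtype.ext
    show P * mat (a * b) * (adj (sigmaQ hF) P * Jm F n)
      = (P * mat a * (adj (sigmaQ hF) P * Jm F n)) * (P * mat b * (adj (sigmaQ hF) P * Jm F n))
    have h1 : P * mat a * (adj (sigmaQ hF) P * Jm F n) * (P * mat b * (adj (sigmaQ hF) P * Jm F n))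
        = P * mat a * (adj (sigmaQ hF) P * Jm F n * P) * mat b * (adj (sigmaQ hF) P * Jm F n) := by
      simp only [Matrix.mul_assoc]
    rw [h1, hP, Matrix.mul_one, map_mul]
    simp only [Matrix.mul_assoc]

theorem toSU_injective : Function.Injective (toSU hF P hP) := by
  intro a b h
  have h1 : P * mat a * (adj (sigmaQ hF) P * Jm F n) = P * mat b * (adj (sigmaQ hF) P * Jm F n) :=
    congrArg (fun g : Cfsg.SU n F q => (g.1.1 : Matrix (Fin n) (Fin n) F)) h
  apply mat_injective
  have e : ∀ A : Matrix (Fin n) (Fin n) F,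
      adj (sigmaQ hF) P * Jm F n * (P * A * (adj (sigmaQ hF) P * Jm F n)) * P = A := by
    intro A
    calc adj (sigmaQ hF) P * Jm F n * (P * A * (adj (sigmaQ hF) P * Jm F n)) * P
        = (adj (sigmaQ hF) P * Jm F n * P) * A * (adj (sigmaQ hF) P * Jm F n * P) := by
          simp only [Matrix.mul_assoc]
      _ = A := by rw [hP, Matrix.one_mul, Matrix.mul_one]
  rw [← e (mat a), h1, e]

theorem toSU_surjective : Function.Surjective (toSU hF P hP) := by
  intro h
  have hM : IsHermIso n F q h.1.1 := h.2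
  have hgram := (gram_iff_adjJ _).1 ((isHermIso_iff_gram hF _).1 hM)
  have hv : ValidU (sigmaQ hF) (adj (sigmaQ hF) P * Jm F n * h.1.1 * P) := by
    refine ⟨?_, adj_conj_inv (fun x => conj_conj hF x) hP hgram⟩
    rw [Matrix.det_mul, Matrix.det_mul, mul_right_comm, ← Matrix.det_mul, hP, Matrix.det_one,
      one_mul]
    exact h.1.2
  refine ⟨ofMat _ (adj (sigmaQ hF) P * Jm F n * h.1.1 * P), ?_⟩
  apply Subtype.ext; apply Subtype.ext
  show P * mat (ofMat (sigmaQ hF) (adj (sigmaQ hF) P * Jm F n * h.1.1 * P))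
    * (adj (sigmaQ hF) P * Jm F n) = h.1.1
  rw [mat_ofMat hv]
  have hP' := mul_eq_one_comm.1 hP
  calc P * (adj (sigmaQ hF) P * Jm F n * h.1.1 * P) * (adj (sigmaQ hF) P * Jm F n)
      = (P * (adj (sigmaQ hF) P * Jm F n)) * h.1.1 * (P * (adj (sigmaQ hF) P * Jm F n)) := by
        simp only [Matrix.mul_assoc]
    _ = h.1.1 := by rw [hP', Matrix.one_mul, Matrix.mul_one]

theorem toSU_center (z : UJ n (sigmaQ hF)) :
    toSU hF P hP z ∈ Subgroup.center (Cfsg.SU n F q)
      ↔ z ∈ Subgroup.center (UJ n (sigmaQ hF)) := by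
  rw [Subgroup.mem_center_iff, Subgroup.mem_center_iff]
  constructor
  · intro h g
    apply toSU_injective hF P hP
    rw [map_mul, map_mul]
    exact h _
  · intro h g
    obtain ⟨g', rfl⟩ := toSU_surjective hF P hP g
    rw [← map_mul, ← map_mul, h g']

end Iso

end Cfsg.Agent.Lib.Helper86.Un
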