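import Mathlib
import Cfsg.Agent.Lib.Helper45.HermSU
import Cfsg.Agent.Lib.Helper45.HermCenter
import Cfsg.Agent.Lib.Helper86.UnBase
import Cfsg.Agent.Lib.Helper86.QuotInner
import Cfsg.Agent.Lib.Helper86.Idx2

set_option autoImplicit false
set_option linter.style.haveILetI false
set_option linter.unusedSectionVars false
set_option linter.dupNamespace false
set_option linter.unusedVariables false
set_option linter.unusedSimpArgs false

/-! # `SU_3(q)`: order, centre, and the reduction of the simplicity of the `2`-fusion system of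
`PSU_3(q)` to data in `SU_3(q)`, in the standard or in the antidiagonal model -/

namespace Cfsg.Agent.Lib.Helper86.SU3

open Matrix Cfsg.Agent.Lib.Helper45 Cfsg.Agent.Lib.Helper86.Un

variable {F : Type*} [Field F] [Fintype F] {q : ℕ}

theorem card_SU3 (hF : Fintype.card F = q ^ 2) (n : ℕ) (hq : q = n + 1) :
    Nat.card (Cfsg.SU 3 F q) = (n + 1) ^ 3 * n * (n + 2) ^ 2 * (n ^ 2 + n + 1) := by
  have h := card_SU hF 3 (by norm_num)
  rw [Finset.prod_range_succ, Finset.prod_range_succ, Finset.prod_range_one] at h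
  have e0 : Even 0 := by decide
  have e1 : ¬ Even 1 := by decide
  have e2 : Even 2 := by decide
  rw [if_pos e0, if_neg e1, if_pos e2] at h
  subst hq
  have a1 : (n + 1) ^ (1 + 1) - 1 = n * (n + 2) := by
    apply Nat.sub_eq_of_eq_add; ring
  have a2 : 3 * (3 - 1) / 2 = 3 := by norm_num
  rw [a1, a2] at h
  have hpos : 0 < n + 1 + 1 := by omega
  apply Nat.eq_of_mul_eq_mul_left hpos
  rw [h]
  ring

theorem center_two_free (hF : Fintype.card F = q ^ 2) {z : Cfsg.SU 3 F q}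
    (hz : z ∈ Subgroup.center (Cfsg.SU 3 F q)) (k : ℕ) (hk : z ^ (2 ^ k) = 1) : z = 1 := by
  have h1 : orderOf z ∣ 2 ^ k := orderOf_dvd_of_pow_eq_one hk
  have h2 : orderOf z ∣ Nat.gcd 3 (q + 1) := by
    rw [← card_center_SU hF 3 (by norm_num)]
    have := orderOf_dvd_natCard (⟨z, hz⟩ : Subgroup.center (Cfsg.SU 3 F q))
    rwa [← Subgroup.orderOf_coe] at this
  have h3 : orderOf z ∣ 3 := h2.trans (Nat.gcd_dvd_left _ _)
  have h4 : orderOf z ∣ Nat.gcd 3 (2 ^ k) := Nat.dvd_gcd h3 h1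
  have h5 : Nat.gcd 3 (2 ^ k) = 1 := Nat.Coprime.pow_right k (by norm_num)
  rw [h5, Nat.dvd_one] at h4
  exact orderOf_eq_one_iff.1 h4

/-- reduction to `SU_3(q)`, standard model -/
theorem psu3_simple (hF : Fintype.card F = q ^ 2) (U : Subgroup (Cfsg.SU 3 F q))
    (hUp : ∀ u ∈ U, ∃ a : ℕ, u ^ (2 ^ a) = 1) (hidx : ¬ 2 ∣ U.index) (hU1 : U ≠ ⊥)
    (ha : ∀ T : Subgroup (Cfsg.SU 3 F q), T ≤ U → T ≠ ⊥ →
      (∀ x ∈ T, ∀ g : Cfsg.SU 3 F q, g * x * g⁻¹ ∈ U → g * x * g⁻¹ ∈ T) → T = U)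
    (hc : ∀ g ∈ Subgroup.normalizer (U : Set (Cfsg.SU 3 F q)), Nat.Coprime (orderOf g) 2 →
      ∀ x ∈ U, g * x * g⁻¹ = x)
    (S : Sylow 2 (Cfsg.PSU 3 F q)) :
    (Cfsg.groupFusionSystem (S : Subgroup (Cfsg.PSU 3 F q))).IsSimple 2 :=
  isSimple_of_central_quotient_inner 2 (QuotientGroup.mk' (Subgroup.center (Cfsg.SU 3 F q)))
    (QuotientGroup.mk'_surjective _) (fun z => QuotientGroup.eq_one_iff z)
    (fun z hz a h => center_two_free hF hz a h) U hUp hidx hU1 ha hc S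

/-- the order of the antidiagonal model -/
theorem card_UJ3 (hF : Fintype.card F = q ^ 2) (n : ℕ) (hq : q = n + 1) :
    Nat.card (UJ 3 (sigmaQ hF)) = (n + 1) ^ 3 * n * (n + 2) ^ 2 * (n ^ 2 + n + 1) := by
  obtain ⟨P, hP⟩ := exists_base (herm_sigmaQ hF) 3
  rw [← card_SU3 hF n hq]
  exact Nat.card_congr (Equiv.ofBijective (toSU hF P hP)
    ⟨toSU_injective hF P hP, toSU_surjective hF P hP⟩)

/-- reduction to `SU_3(q)`, antidiagonal model -/
theorem psu3_simple_UJ (hF : Fintype.card F = q ^ 2) (U : Subgroup (UJ 3 (sigmaQ hF)))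
    (hUp : ∀ u ∈ U, ∃ a : ℕ, u ^ (2 ^ a) = 1) (hidx : ¬ 2 ∣ U.index) (hU1 : U ≠ ⊥)
    (ha : ∀ T : Subgroup (UJ 3 (sigmaQ hF)), T ≤ U → T ≠ ⊥ →
      (∀ x ∈ T, ∀ g : UJ 3 (sigmaQ hF), g * x * g⁻¹ ∈ U → g * x * g⁻¹ ∈ T) → T = U)
    (hc : ∀ g ∈ Subgroup.normalizer (U : Set (UJ 3 (sigmaQ hF))), Nat.Coprime (orderOf g) 2 →
      ∀ x ∈ U, g * x * g⁻¹ = x)
    (S : Sylow 2 (Cfsg.PSU 3 F q)) :
    (Cfsg.groupFusionSystem (S : Subgroup (Cfsg.PSU 3 F q))).IsSimple 2 := by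
  obtain ⟨P, hP⟩ := exists_base (herm_sigmaQ hF) 3
  refine isSimple_of_central_quotient_inner 2
    ((QuotientGroup.mk' (Subgroup.center (Cfsg.SU 3 F q))).comp (toSU hF P hP))
    ?_ ?_ ?_ U hUp hidx hU1 ha hc S
  · exact (QuotientGroup.mk'_surjective _).comp (toSU_surjective hF P hP)
  · intro z
    rw [MonoidHom.comp_apply, ← toSU_center hF P hP z]
    exact QuotientGroup.eq_one_iff _
  · intro z hz a h
    apply toSU_injective hF P hP
    rw [map_one]
    apply center_two_free hF ((toSU_center hF P hP z).2 hz) a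
    rw [← map_pow, h, map_one]

end Cfsg.Agent.Lib.Helper86.SU3
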