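import Mathlib
import Cfsg.Agent.Lib.Helper86.MathieuFusion

set_option autoImplicit false

/-! # Self-normalizing Sylow `2`-subgroups, by certificate

The self-normalization half of `isSimple_of_cert` as a statement of its own:
`sylow_normalizer_eq_of_cert`. -/

namespace Cfsg.Agent.Lib.Helper86

open Cfsg Cfsg.Agent.Lib.Helper6.Golay Cfsg.Agent.Lib.Helper6.M24 Cfsg.Agent.Lib.Helper6.M12
open scoped Pointwise

/-- a `2`-subgroup `P ≤ M` of full `2`-power order which is self-normalizing in `M` makes every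
Sylow `2`-subgroup of `M` self-normalizing -/
theorem sylow_normalizer_eq_of_subgroup_data {G : Type*} [Group G] [Finite G] (M P : Subgroup G)
    (hPM : P ≤ M) (n m : ℕ) (hP : Nat.card P = 2 ^ n) (hM : Nat.card M = 2 ^ n * m)
    (hm : ¬ 2 ∣ m) (hb : ∀ g ∈ M, (∀ x ∈ P, g * x * g⁻¹ ∈ P) → g ∈ P) (S : Sylow 2 M) :
    Subgroup.normalizer ((S : Subgroup M) : Set M) = (S : Subgroup M) := by
  have hcard : Nat.card (P.subgroupOf M) = 2 ^ n := by
    rw [Nat.card_congr (Subgroup.subgroupOfEquivOfLe hPM).toEquiv, hP]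
  have hm0 : m ≠ 0 := fun h => hm (h ▸ dvd_zero 2)
  have hfac : (Nat.card M).factorization 2 = n := by
    rw [hM, Nat.factorization_mul (by positivity) hm0, Nat.factorization_pow]
    simp [Nat.factorization_eq_zero_of_not_dvd hm, Nat.Prime.factorization_self Nat.prime_two]
  let P' : Sylow 2 M := Sylow.ofCard (P.subgroupOf M) (by rw [hcard, hfac])
  have hP' : ∀ x : M, x ∈ (P' : Subgroup M) ↔ (x : G) ∈ P := fun x => Subgroup.mem_subgroupOf
  obtain ⟨c, hc⟩ := MulAction.exists_smul_eq M P' S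
  have hmem : ∀ x : M, x ∈ (S : Subgroup M) ↔ c⁻¹ * x * c ∈ (P' : Subgroup M) := by
    intro x
    rw [← hc]
    exact Helper4.mem_sylow_smul_iff
  have e1 : ∀ x : M, c⁻¹ * (c * x * c⁻¹) * c = x := fun x => by group
  apply le_antisymm _ Subgroup.le_normalizer
  intro g hg
  rw [hmem, hP']
  apply hb _ (c⁻¹ * g * c).2
  intro x hx
  have h1 : c * ⟨x, hPM hx⟩ * c⁻¹ ∈ (S : Subgroup M) := by
    rw [hmem, e1]; exact (hP' _).2 hx
  have h2 := (Subgroup.mem_normalizer_iff.mp hg _).mp h1
  rw [hmem] at h2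
  have e : c⁻¹ * (g * (c * ⟨x, hPM hx⟩ * c⁻¹) * g⁻¹) * c =
      c⁻¹ * g * c * ⟨x, hPM hx⟩ * (c⁻¹ * g * c)⁻¹ := by group
  rw [e] at h2
  exact (hP' _).1 h2

/-- the certificate of `isSimple_of_cert` without the fusion chain gives self-normalizing Sylow
`2`-subgroups -/
theorem sylow_normalizer_eq_of_cert (M : Subgroup (Equiv.Perm GolayPt)) (inM : List ℕ → Bool)
    (hinM : ∀ t, inM t = true → tabValid t = true ∧ tabPermD t ∈ M)
    (ys : List (List ℕ)) (z : List ℕ) (maskO : ℕ) (ts1 : List (List ℕ))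
    (ts2 ts3 : List (List ℕ × List ℕ)) (m : ℕ)
    (hM : Nat.card M = 2 ^ ys.length * m) (hm : m % 2 = 1)
    (hcount : m = ts1.length * ts2.length * ts3.length)
    (h1 : ys.all inM = true) (h2 : closedOK ys = true)
    (h3 : distinctB ((pcList ys).map tcode) = true)
    (h4 : centerOK ys z = true) (h5 : fixOK z maskO = true)
    (h6 : ts1.all inM = true) (h7 : masksOK maskO ts1 = true)
    (h8 : ts2OK inM z maskO ts2 = true) (h9 : ts3OK inM ys z ts3 = true)
    (S : Sylow 2 M) :
    Subgroup.normalizer ((S : Subgroup M) : Set M) = (S : Subgroup M) := by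
  have hyM : ∀ y ∈ ys, tabValid y = true ∧ tabPermD y ∈ M := fun y hy =>
    hinM y (List.all_eq_true.1 h1 y hy)
  have hv : ys.all tabValid = true := List.all_eq_true.2 (fun y hy => (hyM y hy).1)
  have hvy : ∀ y ∈ ys, tabValid y = true := fun y hy => (hyM y hy).1
  have hPM : pcGroup ys ≤ M := by
    unfold pcGroup
    rw [Subgroup.closure_le]
    rintro σ ⟨y, hy, rfl⟩
    exact (hyM y hy).2
  have hP : Nat.card (pcGroup ys) = 2 ^ ys.length := card_pcGroup hv h2 h3
  obtain ⟨hzv, hzP, hz1, hzc, hzcen⟩ := centerOK_spec hv h2 h4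
  have hfix := fixOK_spec hzv h5
  apply sylow_normalizer_eq_of_subgroup_data M (pcGroup ys) hPM ys.length m hP hM (by omega)
  unfold ts2OK at h8
  rw [Bool.and_eq_true, List.all_eq_true] at h8
  obtain ⟨h8a, h8b⟩ := h8
  unfold ts3OK at h9
  rw [Bool.and_eq_true, List.all_eq_true] at h9
  obtain ⟨h9a, h9b⟩ := h9
  have h2spec : ∀ p ∈ ts2, tabValid p.1 = true ∧ tabPermD p.1 ∈ M ∧
      tabPermD p.1 • suppMask maskO = suppMask maskO ∧ tabValid p.2 = true ∧
      tabPermD p.1 * tabPermD z * (tabPermD p.1)⁻¹ = tabPermD p.2 := by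
    intro p hp
    have h := h8a p hp
    simp only [Bool.and_eq_true] at h
    obtain ⟨hpM, hpO, hpv, hpe⟩ := h
    obtain ⟨hv1, hM1⟩ := hinM _ hpM
    refine ⟨hv1, hM1, ?_, hpv, ?_⟩
    · rw [tabPermD_smul_suppMask hv1, Nat.eq_of_beq_eq_true hpO]
    · have e := (tabEq_iff (tabValid_tabMul hv1 hzv) (tabValid_tabMul hpv hv1)).1 hpe
      rw [← tabPermD_mul hv1 hzv, e, tabPermD_mul hpv hv1, mul_inv_cancel_right]
  have h3spec : ∀ p ∈ ts3, tabValid p.1 = true ∧ tabPermD p.1 ∈ M ∧ tabValid p.2 = true ∧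
      tabPermD p.2 = (tabPermD p.1)⁻¹ ∧
      tabPermD p.1 * tabPermD z = tabPermD z * tabPermD p.1 := by
    intro p hp
    have h := h9a p hp
    simp only [Bool.and_eq_true] at h
    obtain ⟨hpM, hpv, hpe, hpc⟩ := h
    obtain ⟨hv1, hM1⟩ := hinM _ hpM
    refine ⟨hv1, hM1, hpv, ?_, (commB_iff hv1 hzv).1 hpc⟩
    have e := (tabEq_iff (tabValid_tabMul hv1 hpv) tabValid_range).1 hpe
    have e2 : tabPermD p.1 * tabPermD p.2 = 1 := by
      rw [← tabPermD_mul hv1 hpv, e, tabPermD_one]
    exact eq_inv_of_mul_eq_one_right e2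
  apply self_normalizing_of_count M (pcGroup ys) hPM (suppMask maskO) (tabPermD z) hz1 hzP
    hzc hzcen (fun g hg => smul_eq_of_commute hfix hg)
    (ts1.map tabPermD) (ts2.map (fun p => tabPermD p.1)) (ts3.map (fun p => tabPermD p.1))
  · intro g hg
    rw [List.mem_map] at hg
    obtain ⟨t, ht, rfl⟩ := hg
    exact (hinM t (List.all_eq_true.1 h6 t ht)).2
  · exact masksOK_spec (fun t ht => (hinM t (List.all_eq_true.1 h6 t ht)).1) h7
  · intro g hg
    rw [List.mem_map] at hg
    obtain ⟨p, hp, rfl⟩ := hg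
    exact ⟨(h2spec p hp).2.1, (h2spec p hp).2.2.1⟩
  · have e : (ts2.map (fun p => tabPermD p.1)).map
        (fun g => g * tabPermD z * g⁻¹) = (ts2.map Prod.snd).map tabPermD := by
      rw [List.map_map, List.map_map]
      apply List.map_congr_left
      intro p hp
      exact (h2spec p hp).2.2.2.2
    rw [e]
    have hnd : (ts2.map Prod.snd).Nodup := by
      have := distinctB_nodup _ h8b
      have e2 : ts2.map (fun p => tcode p.2) = (ts2.map Prod.snd).map tcode := by
        rw [List.map_map]; rfl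
      rw [e2] at this
      exact this.of_map _
    apply List.Nodup.map_on _ hnd
    intro a ha b hb hab
    rw [List.mem_map] at ha hb
    obtain ⟨pa, hpa, rfl⟩ := ha
    obtain ⟨pb, hpb, rfl⟩ := hb
    exact tabPermD_inj (h2spec pa hpa).2.2.2.1 (h2spec pb hpb).2.2.2.1 hab
  · intro g hg
    rw [List.mem_map] at hg
    obtain ⟨p, hp, rfl⟩ := hg
    exact ⟨(h3spec p hp).2.1, (h3spec p hp).2.2.2.2⟩
  · rw [List.pairwise_map]
    refine (pairsOK_spec _ _ h9b).imp_of_mem ?_
    intro a b ha hb hab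
    rw [List.any_eq_true] at hab
    obtain ⟨y, hy, hny⟩ := hab
    obtain ⟨hav, -, hav2, hainv, -⟩ := h3spec a ha
    obtain ⟨hbv, -, hbv2, hbinv, -⟩ := h3spec b hb
    refine ⟨tabPermD y, tabPermD_mem_pcGroup hy, ?_⟩
    have hyv := hvy y hy
    have hwv : ∀ t ∈ [a.2, b.1, y, b.2, a.1], tabValid t = true := by
      intro t ht
      simp only [List.mem_cons, List.not_mem_nil, or_false] at ht
      rcases ht with rfl | rfl | rfl | rfl | rfl
      · exact hav2
      · exact hbv
      · exact hyv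
      · exact hbv2
      · exact hav
    have e : (tabPermD a.1)⁻¹ * tabPermD b.1 * tabPermD y *
        ((tabPermD a.1)⁻¹ * tabPermD b.1)⁻¹ =
        tabPermD (tabProd [a.2, b.1, y, b.2, a.1]) := by
      rw [tabPermD_tabProd hwv]
      simp only [List.map_cons, List.map_nil, List.prod_cons, List.prod_nil, mul_one]
      rw [hainv, hbinv]
      group
    rw [e]
    intro hmem
    have := mem_pcList_of_mem hv h2 (tabValid_tabProd hwv) hmem
    have h13 : memB (tcode (tabProd [a.2, b.1, y, b.2, a.1])) ((pcList ys).map tcode) = true :=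
      (memB_iff _ _).2 (List.mem_map_of_mem this)
    rw [h13] at hny
    exact absurd hny (by decide)
  · rw [hM, hP, List.length_map, List.length_map, List.length_map, hcount]
    exact le_of_eq (by ring)

end Cfsg.Agent.Lib.Helper86
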